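import Cfsg.Agent.Comp.Defs

/-! Data for the Conway–Wales lattice. -/

set_option maxRecDepth 100000

namespace CF.Comp.Ru

noncomputable def Pm : List (List Nat) := [[(nat_lit 8260), (nat_lit 8128), (nat_lit 8128), (nat_lit 8257), (nat_lit 8128), (nat_lit 8257), (nat_lit 8128), (nat_lit 8255), (nat_lit 8384), (nat_lit 8257), (nat_lit 8384), (nat_lit 8255), (nat_lit 8257), (nat_lit 8255), (nat_lit 8257), (nat_lit 8128), (nat_lit 8257), (nat_lit 8128), (nat_lit 8384), (nat_lit 8384), (nat_lit 8384), (nat_lit 8384), (nat_lit 8128), (nat_lit 8128), (nat_lit 8384), (nat_lit 8128), (nat_lit 8384), (nat_lit 8384)],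
  [(nat_lit 8256), (nat_lit 8257), (nat_lit 8257), (nat_lit 8256), (nat_lit 8255), (nat_lit 8257), (nat_lit 8255), (nat_lit 8256), (nat_lit 8256), (nat_lit 8257), (nat_lit 8256), (nat_lit 8255), (nat_lit 8255), (nat_lit 8257), (nat_lit 8255), (nat_lit 8255), (nat_lit 8255), (nat_lit 8256), (nat_lit 8384), (nat_lit 8257), (nat_lit 8255), (nat_lit 8257), (nat_lit 8257), (nat_lit 8257), (nat_lit 8257), (nat_lit 8257), (nat_lit 8384), (nat_lit 8255)],
  [(nat_lit 8256), (nat_lit 8257), (nat_lit 8255), (nat_lit 8256), (nat_lit 8255), (nat_lit 8257), (nat_lit 8255), (nat_lit 8257), (nat_lit 8256), (nat_lit 8255), (nat_lit 8256), (nat_lit 8255), (nat_lit 8256), (nat_lit 8256), (nat_lit 8257), (nat_lit 8257), (nat_lit 8255), (nat_lit 8256), (nat_lit 8256), (nat_lit 8257), (nat_lit 8257), (nat_lit 8255), (nat_lit 8257), (nat_lit 8255), (nat_lit 8257), (nat_lit 8257), (nat_lit 8257), (nat_lit 8384)],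
  [(nat_lit 8256), (nat_lit 8257), (nat_lit 8255), (nat_lit 8257), (nat_lit 8257), (nat_lit 8257), (nat_lit 8257), (nat_lit 8256), (nat_lit 8384), (nat_lit 8255), (nat_lit 8128), (nat_lit 8255), (nat_lit 8256), (nat_lit 8256), (nat_lit 8255), (nat_lit 8255), (nat_lit 8257), (nat_lit 8384), (nat_lit 8256), (nat_lit 8255), (nat_lit 8257), (nat_lit 8257), (nat_lit 8257), (nat_lit 8255), (nat_lit 8255), (nat_lit 8257), (nat_lit 8255), (nat_lit 8257)],
  [(nat_lit 8256), (nat_lit 8256), (nat_lit 8256), (nat_lit 8128), (nat_lit 8256), (nat_lit 8257), (nat_lit 8256), (nat_lit 8256), (nat_lit 8257), (nat_lit 8256), (nat_lit 8256), (nat_lit 8257), (nat_lit 8256), (nat_lit 8257), (nat_lit 8256), (nat_lit 8256), (nat_lit 8256), (nat_lit 8256), (nat_lit 8128), (nat_lit 8256), (nat_lit 8256), (nat_lit 8256), (nat_lit 8256), (nat_lit 8256), (nat_lit 8256), (nat_lit 8256), (nat_lit 8256), (nat_lit 8256)],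
  [(nat_lit 8256), (nat_lit 8256), (nat_lit 8256), (nat_lit 8384), (nat_lit 8256), (nat_lit 8256), (nat_lit 8256), (nat_lit 8255), (nat_lit 8257), (nat_lit 8128), (nat_lit 8256), (nat_lit 8256), (nat_lit 8256), (nat_lit 8384), (nat_lit 8384), (nat_lit 8256), (nat_lit 8384), (nat_lit 8256), (nat_lit 8255), (nat_lit 8256), (nat_lit 8256), (nat_lit 8256), (nat_lit 8256), (nat_lit 8256), (nat_lit 8256), (nat_lit 8256), (nat_lit 8384), (nat_lit 8257)],
  [(nat_lit 8256), (nat_lit 8256), (nat_lit 8256), (nat_lit 8256), (nat_lit 8256), (nat_lit 8256), (nat_lit 8256), (nat_lit 8257), (nat_lit 8256), (nat_lit 8255), (nat_lit 8257), (nat_lit 8256), (nat_lit 8255), (nat_lit 8256), (nat_lit 8255), (nat_lit 8256), (nat_lit 8257), (nat_lit 8257), (nat_lit 8256), (nat_lit 8256), (nat_lit 8256), (nat_lit 8256), (nat_lit 8256), (nat_lit 8256), (nat_lit 8256), (nat_lit 8256), (nat_lit 8255), (nat_lit 8384)],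
  [(nat_lit 8256), (nat_lit 8256), (nat_lit 8256), (nat_lit 8256), (nat_lit 8256), (nat_lit 8255), (nat_lit 8256), (nat_lit 8256), (nat_lit 8256), (nat_lit 8256), (nat_lit 8128), (nat_lit 8255), (nat_lit 8255), (nat_lit 8256), (nat_lit 8256), (nat_lit 8256), (nat_lit 8256), (nat_lit 8128), (nat_lit 8256), (nat_lit 8256), (nat_lit 8256), (nat_lit 8256), (nat_lit 8256), (nat_lit 8256), (nat_lit 8256), (nat_lit 8256), (nat_lit 8256), (nat_lit 8256)],
  [(nat_lit 8256), (nat_lit 8256), (nat_lit 8256), (nat_lit 8256), (nat_lit 8256), (nat_lit 8257), (nat_lit 8256), (nat_lit 8256), (nat_lit 8128), (nat_lit 8256), (nat_lit 8257), (nat_lit 8257), (nat_lit 8256), (nat_lit 8256), (nat_lit 8257), (nat_lit 8256), (nat_lit 8128), (nat_lit 8257), (nat_lit 8256), (nat_lit 8256), (nat_lit 8256), (nat_lit 8256), (nat_lit 8256), (nat_lit 8256), (nat_lit 8256), (nat_lit 8256), (nat_lit 8128), (nat_lit 8256)],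
  [(nat_lit 8256), (nat_lit 8256), (nat_lit 8256), (nat_lit 8256), (nat_lit 8256), (nat_lit 8255), (nat_lit 8256), (nat_lit 8257), (nat_lit 8255), (nat_lit 8256), (nat_lit 8128), (nat_lit 8255), (nat_lit 8257), (nat_lit 8128), (nat_lit 8257), (nat_lit 8256), (nat_lit 8128), (nat_lit 8128), (nat_lit 8257), (nat_lit 8256), (nat_lit 8256), (nat_lit 8256), (nat_lit 8256), (nat_lit 8256), (nat_lit 8256), (nat_lit 8256), (nat_lit 8384), (nat_lit 8256)],
  [(nat_lit 8256), (nat_lit 8256), (nat_lit 8256), (nat_lit 8257), (nat_lit 8256), (nat_lit 8256), (nat_lit 8256), (nat_lit 8256), (nat_lit 8256), (nat_lit 8255), (nat_lit 8256), (nat_lit 8256), (nat_lit 8256), (nat_lit 8256), (nat_lit 8256), (nat_lit 8256), (nat_lit 8256), (nat_lit 8256), (nat_lit 8256), (nat_lit 8256), (nat_lit 8256), (nat_lit 8256), (nat_lit 8256), (nat_lit 8256), (nat_lit 8256), (nat_lit 8256), (nat_lit 8256), (nat_lit 8384)],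
  [(nat_lit 8256), (nat_lit 8256), (nat_lit 8256), (nat_lit 8257), (nat_lit 8256), (nat_lit 8256), (nat_lit 8256), (nat_lit 8255), (nat_lit 8256), (nat_lit 8128), (nat_lit 8256), (nat_lit 8256), (nat_lit 8128), (nat_lit 8257), (nat_lit 8256), (nat_lit 8256), (nat_lit 8256), (nat_lit 8256), (nat_lit 8128), (nat_lit 8256), (nat_lit 8256), (nat_lit 8256), (nat_lit 8256), (nat_lit 8256), (nat_lit 8256), (nat_lit 8256), (nat_lit 8256), (nat_lit 8255)],
  [(nat_lit 8256), (nat_lit 8257), (nat_lit 8257), (nat_lit 8256), (nat_lit 8257), (nat_lit 8256), (nat_lit 8384), (nat_lit 8255), (nat_lit 8256), (nat_lit 8384), (nat_lit 8256), (nat_lit 8256), (nat_lit 8256), (nat_lit 8384), (nat_lit 8384), (nat_lit 8257), (nat_lit 8128), (nat_lit 8256), (nat_lit 8257), (nat_lit 8384), (nat_lit 8255), (nat_lit 8128), (nat_lit 8255), (nat_lit 8384), (nat_lit 8257), (nat_lit 8128), (nat_lit 8256), (nat_lit 8128)],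
  [(nat_lit 8256), (nat_lit 8257), (nat_lit 8255), (nat_lit 8255), (nat_lit 8255), (nat_lit 8256), (nat_lit 8384), (nat_lit 8255), (nat_lit 8384), (nat_lit 8257), (nat_lit 8257), (nat_lit 8256), (nat_lit 8255), (nat_lit 8256), (nat_lit 8255), (nat_lit 8257), (nat_lit 8255), (nat_lit 8255), (nat_lit 8256), (nat_lit 8384), (nat_lit 8257), (nat_lit 8384), (nat_lit 8255), (nat_lit 8384), (nat_lit 8255), (nat_lit 8384), (nat_lit 8256), (nat_lit 8255)],
  [(nat_lit 8256), (nat_lit 8384), (nat_lit 8384), (nat_lit 8256), (nat_lit 8128), (nat_lit 8255), (nat_lit 8257), (nat_lit 8255), (nat_lit 8256), (nat_lit 8256), (nat_lit 8256), (nat_lit 8257), (nat_lit 8255), (nat_lit 8256), (nat_lit 8256), (nat_lit 8384), (nat_lit 8256), (nat_lit 8256), (nat_lit 8256), (nat_lit 8255), (nat_lit 8384), (nat_lit 8257), (nat_lit 8384), (nat_lit 8257), (nat_lit 8384), (nat_lit 8255), (nat_lit 8257), (nat_lit 8256)],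
  [(nat_lit 8256), (nat_lit 8255), (nat_lit 8257), (nat_lit 8384), (nat_lit 8255), (nat_lit 8257), (nat_lit 8384), (nat_lit 8255), (nat_lit 8257), (nat_lit 8256), (nat_lit 8384), (nat_lit 8255), (nat_lit 8256), (nat_lit 8255), (nat_lit 8256), (nat_lit 8255), (nat_lit 8256), (nat_lit 8128), (nat_lit 8128), (nat_lit 8128), (nat_lit 8257), (nat_lit 8128), (nat_lit 8255), (nat_lit 8384), (nat_lit 8257), (nat_lit 8384), (nat_lit 8257), (nat_lit 8256)],
  [(nat_lit 8256), (nat_lit 8256), (nat_lit 8256), (nat_lit 8384), (nat_lit 8256), (nat_lit 8257), (nat_lit 8256), (nat_lit 8257), (nat_lit 8256), (nat_lit 8255), (nat_lit 8257), (nat_lit 8257), (nat_lit 8256), (nat_lit 8255), (nat_lit 8128), (nat_lit 8256), (nat_lit 8256), (nat_lit 8257), (nat_lit 8384), (nat_lit 8256), (nat_lit 8256), (nat_lit 8256), (nat_lit 8256), (nat_lit 8256), (nat_lit 8256), (nat_lit 8256), (nat_lit 8256), (nat_lit 8128)],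
  [(nat_lit 8256), (nat_lit 8256), (nat_lit 8256), (nat_lit 8256), (nat_lit 8256), (nat_lit 8256), (nat_lit 8256), (nat_lit 8256), (nat_lit 8384), (nat_lit 8256), (nat_lit 8256), (nat_lit 8256), (nat_lit 8128), (nat_lit 8256), (nat_lit 8256), (nat_lit 8256), (nat_lit 8384), (nat_lit 8256), (nat_lit 8256), (nat_lit 8256), (nat_lit 8256), (nat_lit 8256), (nat_lit 8256), (nat_lit 8256), (nat_lit 8256), (nat_lit 8256), (nat_lit 8384), (nat_lit 8256)],
  [(nat_lit 8256), (nat_lit 8256), (nat_lit 8256), (nat_lit 8256), (nat_lit 8256), (nat_lit 8255), (nat_lit 8256), (nat_lit 8256), (nat_lit 8384), (nat_lit 8257), (nat_lit 8256), (nat_lit 8255), (nat_lit 8256), (nat_lit 8128), (nat_lit 8384), (nat_lit 8256), (nat_lit 8256), (nat_lit 8256), (nat_lit 8257), (nat_lit 8256), (nat_lit 8256), (nat_lit 8256), (nat_lit 8256), (nat_lit 8256), (nat_lit 8256), (nat_lit 8256), (nat_lit 8256), (nat_lit 8384)],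
  [(nat_lit 8256), (nat_lit 8256), (nat_lit 8256), (nat_lit 8255), (nat_lit 8256), (nat_lit 8256), (nat_lit 8256), (nat_lit 8255), (nat_lit 8256), (nat_lit 8256), (nat_lit 8384), (nat_lit 8256), (nat_lit 8128), (nat_lit 8256), (nat_lit 8256), (nat_lit 8256), (nat_lit 8257), (nat_lit 8384), (nat_lit 8256), (nat_lit 8256), (nat_lit 8256), (nat_lit 8256), (nat_lit 8256), (nat_lit 8256), (nat_lit 8256), (nat_lit 8256), (nat_lit 8257), (nat_lit 8256)],
  [(nat_lit 8256), (nat_lit 8257), (nat_lit 8257), (nat_lit 8256), (nat_lit 8257), (nat_lit 8256), (nat_lit 8384), (nat_lit 8255), (nat_lit 8256), (nat_lit 8256), (nat_lit 8256), (nat_lit 8256), (nat_lit 8128), (nat_lit 8384), (nat_lit 8256), (nat_lit 8384), (nat_lit 8255), (nat_lit 8256), (nat_lit 8128), (nat_lit 8255), (nat_lit 8128), (nat_lit 8257), (nat_lit 8384), (nat_lit 8257), (nat_lit 8128), (nat_lit 8255), (nat_lit 8128), (nat_lit 8384)],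
  [(nat_lit 8256), (nat_lit 8384), (nat_lit 8128), (nat_lit 8384), (nat_lit 8384), (nat_lit 8255), (nat_lit 8257), (nat_lit 8257), (nat_lit 8384), (nat_lit 8257), (nat_lit 8257), (nat_lit 8257), (nat_lit 8255), (nat_lit 8128), (nat_lit 8128), (nat_lit 8257), (nat_lit 8256), (nat_lit 8255), (nat_lit 8384), (nat_lit 8384), (nat_lit 8255), (nat_lit 8384), (nat_lit 8255), (nat_lit 8384), (nat_lit 8257), (nat_lit 8384), (nat_lit 8256), (nat_lit 8256)],
  [(nat_lit 8256), (nat_lit 8255), (nat_lit 8257), (nat_lit 8256), (nat_lit 8257), (nat_lit 8257), (nat_lit 8384), (nat_lit 8256), (nat_lit 8256), (nat_lit 8255), (nat_lit 8256), (nat_lit 8255), (nat_lit 8255), (nat_lit 8257), (nat_lit 8384), (nat_lit 8384), (nat_lit 8256), (nat_lit 8256), (nat_lit 8255), (nat_lit 8257), (nat_lit 8384), (nat_lit 8257), (nat_lit 8384), (nat_lit 8255), (nat_lit 8384), (nat_lit 8255), (nat_lit 8256), (nat_lit 8256)],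
  [(nat_lit 8256), (nat_lit 8257), (nat_lit 8257), (nat_lit 8128), (nat_lit 8255), (nat_lit 8256), (nat_lit 8384), (nat_lit 8256), (nat_lit 8128), (nat_lit 8256), (nat_lit 8257), (nat_lit 8256), (nat_lit 8384), (nat_lit 8257), (nat_lit 8256), (nat_lit 8384), (nat_lit 8128), (nat_lit 8255), (nat_lit 8255), (nat_lit 8257), (nat_lit 8384), (nat_lit 8255), (nat_lit 8128), (nat_lit 8257), (nat_lit 8128), (nat_lit 8255), (nat_lit 8255), (nat_lit 8255)],
  [(nat_lit 8256), (nat_lit 8257), (nat_lit 8257), (nat_lit 8257), (nat_lit 8257), (nat_lit 8256), (nat_lit 8257), (nat_lit 8256), (nat_lit 8128), (nat_lit 8255), (nat_lit 8384), (nat_lit 8256), (nat_lit 8256), (nat_lit 8128), (nat_lit 8256), (nat_lit 8384), (nat_lit 8256), (nat_lit 8128), (nat_lit 8255), (nat_lit 8128), (nat_lit 8384), (nat_lit 8128), (nat_lit 8128), (nat_lit 8384), (nat_lit 8128), (nat_lit 8384), (nat_lit 8384), (nat_lit 8256)],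
  [(nat_lit 8256), (nat_lit 8255), (nat_lit 8255), (nat_lit 8257), (nat_lit 8257), (nat_lit 8257), (nat_lit 8255), (nat_lit 8256), (nat_lit 8257), (nat_lit 8256), (nat_lit 8384), (nat_lit 8255), (nat_lit 8255), (nat_lit 8256), (nat_lit 8257), (nat_lit 8384), (nat_lit 8128), (nat_lit 8128), (nat_lit 8256), (nat_lit 8384), (nat_lit 8128), (nat_lit 8384), (nat_lit 8384), (nat_lit 8384), (nat_lit 8128), (nat_lit 8384), (nat_lit 8256), (nat_lit 8257)],
  [(nat_lit 8256), (nat_lit 8257), (nat_lit 8255), (nat_lit 8255), (nat_lit 8257), (nat_lit 8256), (nat_lit 8257), (nat_lit 8257), (nat_lit 8255), (nat_lit 8128), (nat_lit 8255), (nat_lit 8256), (nat_lit 8384), (nat_lit 8256), (nat_lit 8256), (nat_lit 8384), (nat_lit 8256), (nat_lit 8257), (nat_lit 8256), (nat_lit 8384), (nat_lit 8384), (nat_lit 8128), (nat_lit 8384), (nat_lit 8384), (nat_lit 8384), (nat_lit 8128), (nat_lit 8255), (nat_lit 8256)],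
  [(nat_lit 8256), (nat_lit 8384), (nat_lit 8128), (nat_lit 8255), (nat_lit 8128), (nat_lit 8255), (nat_lit 8384), (nat_lit 8255), (nat_lit 8128), (nat_lit 8256), (nat_lit 8257), (nat_lit 8257), (nat_lit 8256), (nat_lit 8128), (nat_lit 8257), (nat_lit 8257), (nat_lit 8128), (nat_lit 8255), (nat_lit 8257), (nat_lit 8255), (nat_lit 8255), (nat_lit 8257), (nat_lit 8255), (nat_lit 8257), (nat_lit 8257), (nat_lit 8255), (nat_lit 8256), (nat_lit 8257)]]
noncomputable def Ps : List (List Nat) := [[(nat_lit 8260), (nat_lit 8256), (nat_lit 8256), (nat_lit 8256), (nat_lit 8256), (nat_lit 8256), (nat_lit 8256), (nat_lit 8256), (nat_lit 8256), (nat_lit 8256), (nat_lit 8256), (nat_lit 8256), (nat_lit 8256), (nat_lit 8256), (nat_lit 8256), (nat_lit 8256), (nat_lit 8256), (nat_lit 8256), (nat_lit 8256), (nat_lit 8256), (nat_lit 8256), (nat_lit 8256), (nat_lit 8256), (nat_lit 8256), (nat_lit 8256), (nat_lit 8256), (nat_lit 8256), (nat_lit 8256)],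
  [(nat_lit 8384), (nat_lit 8257), (nat_lit 8257), (nat_lit 8257), (nat_lit 8256), (nat_lit 8256), (nat_lit 8256), (nat_lit 8256), (nat_lit 8256), (nat_lit 8256), (nat_lit 8256), (nat_lit 8256), (nat_lit 8257), (nat_lit 8257), (nat_lit 8128), (nat_lit 8255), (nat_lit 8256), (nat_lit 8256), (nat_lit 8256), (nat_lit 8256), (nat_lit 8257), (nat_lit 8128), (nat_lit 8255), (nat_lit 8257), (nat_lit 8257), (nat_lit 8255), (nat_lit 8257), (nat_lit 8128)],
  [(nat_lit 8384), (nat_lit 8257), (nat_lit 8255), (nat_lit 8255), (nat_lit 8256), (nat_lit 8256), (nat_lit 8256), (nat_lit 8256), (nat_lit 8256), (nat_lit 8256), (nat_lit 8256), (nat_lit 8256), (nat_lit 8257), (nat_lit 8255), (nat_lit 8128), (nat_lit 8257), (nat_lit 8256), (nat_lit 8256), (nat_lit 8256), (nat_lit 8256), (nat_lit 8257), (nat_lit 8384), (nat_lit 8257), (nat_lit 8257), (nat_lit 8257), (nat_lit 8255), (nat_lit 8255), (nat_lit 8384)],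
  [(nat_lit 8257), (nat_lit 8256), (nat_lit 8256), (nat_lit 8257), (nat_lit 8384), (nat_lit 8128), (nat_lit 8256), (nat_lit 8256), (nat_lit 8256), (nat_lit 8256), (nat_lit 8257), (nat_lit 8257), (nat_lit 8256), (nat_lit 8255), (nat_lit 8256), (nat_lit 8128), (nat_lit 8128), (nat_lit 8256), (nat_lit 8256), (nat_lit 8255), (nat_lit 8256), (nat_lit 8128), (nat_lit 8256), (nat_lit 8384), (nat_lit 8257), (nat_lit 8257), (nat_lit 8255), (nat_lit 8255)],
  [(nat_lit 8384), (nat_lit 8255), (nat_lit 8255), (nat_lit 8257), (nat_lit 8256), (nat_lit 8256), (nat_lit 8256), (nat_lit 8256), (nat_lit 8256), (nat_lit 8256), (nat_lit 8256), (nat_lit 8256), (nat_lit 8257), (nat_lit 8255), (nat_lit 8384), (nat_lit 8255), (nat_lit 8256), (nat_lit 8256), (nat_lit 8256), (nat_lit 8256), (nat_lit 8257), (nat_lit 8128), (nat_lit 8257), (nat_lit 8255), (nat_lit 8257), (nat_lit 8257), (nat_lit 8257), (nat_lit 8384)],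
  [(nat_lit 8257), (nat_lit 8257), (nat_lit 8257), (nat_lit 8257), (nat_lit 8257), (nat_lit 8256), (nat_lit 8256), (nat_lit 8255), (nat_lit 8257), (nat_lit 8255), (nat_lit 8256), (nat_lit 8256), (nat_lit 8256), (nat_lit 8256), (nat_lit 8255), (nat_lit 8257), (nat_lit 8257), (nat_lit 8256), (nat_lit 8255), (nat_lit 8256), (nat_lit 8256), (nat_lit 8255), (nat_lit 8257), (nat_lit 8256), (nat_lit 8256), (nat_lit 8257), (nat_lit 8256), (nat_lit 8255)],
  [(nat_lit 8384), (nat_lit 8255), (nat_lit 8255), (nat_lit 8257), (nat_lit 8256), (nat_lit 8256), (nat_lit 8256), (nat_lit 8256), (nat_lit 8256), (nat_lit 8256), (nat_lit 8256), (nat_lit 8256), (nat_lit 8128), (nat_lit 8128), (nat_lit 8257), (nat_lit 8128), (nat_lit 8256), (nat_lit 8256), (nat_lit 8256), (nat_lit 8256), (nat_lit 8128), (nat_lit 8257), (nat_lit 8128), (nat_lit 8128), (nat_lit 8257), (nat_lit 8255), (nat_lit 8257), (nat_lit 8128)],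
  [(nat_lit 8255), (nat_lit 8256), (nat_lit 8257), (nat_lit 8256), (nat_lit 8256), (nat_lit 8255), (nat_lit 8257), (nat_lit 8256), (nat_lit 8256), (nat_lit 8257), (nat_lit 8256), (nat_lit 8255), (nat_lit 8255), (nat_lit 8255), (nat_lit 8255), (nat_lit 8255), (nat_lit 8257), (nat_lit 8256), (nat_lit 8256), (nat_lit 8255), (nat_lit 8255), (nat_lit 8257), (nat_lit 8256), (nat_lit 8256), (nat_lit 8256), (nat_lit 8256), (nat_lit 8257), (nat_lit 8255)],
  [(nat_lit 8128), (nat_lit 8256), (nat_lit 8256), (nat_lit 8128), (nat_lit 8257), (nat_lit 8257), (nat_lit 8256), (nat_lit 8256), (nat_lit 8384), (nat_lit 8255), (nat_lit 8256), (nat_lit 8256), (nat_lit 8256), (nat_lit 8128), (nat_lit 8256), (nat_lit 8257), (nat_lit 8256), (nat_lit 8128), (nat_lit 8128), (nat_lit 8256), (nat_lit 8256), (nat_lit 8128), (nat_lit 8256), (nat_lit 8384), (nat_lit 8384), (nat_lit 8257), (nat_lit 8255), (nat_lit 8384)],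
  [(nat_lit 8257), (nat_lit 8257), (nat_lit 8255), (nat_lit 8255), (nat_lit 8256), (nat_lit 8384), (nat_lit 8255), (nat_lit 8256), (nat_lit 8256), (nat_lit 8256), (nat_lit 8255), (nat_lit 8384), (nat_lit 8128), (nat_lit 8257), (nat_lit 8256), (nat_lit 8256), (nat_lit 8255), (nat_lit 8256), (nat_lit 8257), (nat_lit 8256), (nat_lit 8256), (nat_lit 8257), (nat_lit 8255), (nat_lit 8256), (nat_lit 8255), (nat_lit 8256), (nat_lit 8384), (nat_lit 8256)],
  [(nat_lit 8128), (nat_lit 8256), (nat_lit 8256), (nat_lit 8384), (nat_lit 8256), (nat_lit 8256), (nat_lit 8257), (nat_lit 8384), (nat_lit 8257), (nat_lit 8384), (nat_lit 8256), (nat_lit 8256), (nat_lit 8256), (nat_lit 8257), (nat_lit 8256), (nat_lit 8128), (nat_lit 8257), (nat_lit 8256), (nat_lit 8256), (nat_lit 8128), (nat_lit 8256), (nat_lit 8257), (nat_lit 8256), (nat_lit 8257), (nat_lit 8128), (nat_lit 8128), (nat_lit 8255), (nat_lit 8257)],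
  [(nat_lit 8255), (nat_lit 8255), (nat_lit 8255), (nat_lit 8255), (nat_lit 8257), (nat_lit 8256), (nat_lit 8256), (nat_lit 8255), (nat_lit 8257), (nat_lit 8255), (nat_lit 8256), (nat_lit 8256), (nat_lit 8256), (nat_lit 8256), (nat_lit 8257), (nat_lit 8255), (nat_lit 8257), (nat_lit 8256), (nat_lit 8255), (nat_lit 8256), (nat_lit 8256), (nat_lit 8257), (nat_lit 8255), (nat_lit 8256), (nat_lit 8256), (nat_lit 8255), (nat_lit 8256), (nat_lit 8257)],
  [(nat_lit 8257), (nat_lit 8255), (nat_lit 8256), (nat_lit 8256), (nat_lit 8256), (nat_lit 8256), (nat_lit 8255), (nat_lit 8255), (nat_lit 8256), (nat_lit 8257), (nat_lit 8256), (nat_lit 8384), (nat_lit 8256), (nat_lit 8255), (nat_lit 8255), (nat_lit 8256), (nat_lit 8256), (nat_lit 8384), (nat_lit 8256), (nat_lit 8384), (nat_lit 8384), (nat_lit 8255), (nat_lit 8255), (nat_lit 8128), (nat_lit 8256), (nat_lit 8255), (nat_lit 8128), (nat_lit 8256)],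
  [(nat_lit 8255), (nat_lit 8257), (nat_lit 8256), (nat_lit 8256), (nat_lit 8257), (nat_lit 8128), (nat_lit 8256), (nat_lit 8256), (nat_lit 8256), (nat_lit 8384), (nat_lit 8256), (nat_lit 8257), (nat_lit 8128), (nat_lit 8256), (nat_lit 8256), (nat_lit 8255), (nat_lit 8255), (nat_lit 8256), (nat_lit 8384), (nat_lit 8256), (nat_lit 8128), (nat_lit 8384), (nat_lit 8257), (nat_lit 8257), (nat_lit 8384), (nat_lit 8256), (nat_lit 8256), (nat_lit 8384)],
  [(nat_lit 8257), (nat_lit 8255), (nat_lit 8257), (nat_lit 8255), (nat_lit 8256), (nat_lit 8128), (nat_lit 8255), (nat_lit 8256), (nat_lit 8257), (nat_lit 8257), (nat_lit 8256), (nat_lit 8256), (nat_lit 8128), (nat_lit 8255), (nat_lit 8256), (nat_lit 8256), (nat_lit 8384), (nat_lit 8256), (nat_lit 8128), (nat_lit 8256), (nat_lit 8256), (nat_lit 8384), (nat_lit 8128), (nat_lit 8256), (nat_lit 8256), (nat_lit 8257), (nat_lit 8256), (nat_lit 8257)],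
  [(nat_lit 8384), (nat_lit 8255), (nat_lit 8257), (nat_lit 8255), (nat_lit 8256), (nat_lit 8256), (nat_lit 8256), (nat_lit 8256), (nat_lit 8256), (nat_lit 8256), (nat_lit 8256), (nat_lit 8256), (nat_lit 8257), (nat_lit 8257), (nat_lit 8128), (nat_lit 8255), (nat_lit 8256), (nat_lit 8256), (nat_lit 8256), (nat_lit 8256), (nat_lit 8128), (nat_lit 8257), (nat_lit 8128), (nat_lit 8128), (nat_lit 8128), (nat_lit 8128), (nat_lit 8128), (nat_lit 8257)],
  [(nat_lit 8257), (nat_lit 8255), (nat_lit 8255), (nat_lit 8257), (nat_lit 8256), (nat_lit 8128), (nat_lit 8257), (nat_lit 8256), (nat_lit 8384), (nat_lit 8384), (nat_lit 8256), (nat_lit 8256), (nat_lit 8384), (nat_lit 8255), (nat_lit 8256), (nat_lit 8256), (nat_lit 8256), (nat_lit 8128), (nat_lit 8256), (nat_lit 8257), (nat_lit 8255), (nat_lit 8256), (nat_lit 8256), (nat_lit 8384), (nat_lit 8256), (nat_lit 8384), (nat_lit 8256), (nat_lit 8384)],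
  [(nat_lit 8384), (nat_lit 8256), (nat_lit 8256), (nat_lit 8128), (nat_lit 8256), (nat_lit 8256), (nat_lit 8257), (nat_lit 8384), (nat_lit 8257), (nat_lit 8384), (nat_lit 8256), (nat_lit 8256), (nat_lit 8256), (nat_lit 8255), (nat_lit 8256), (nat_lit 8384), (nat_lit 8257), (nat_lit 8256), (nat_lit 8256), (nat_lit 8128), (nat_lit 8256), (nat_lit 8255), (nat_lit 8256), (nat_lit 8255), (nat_lit 8384), (nat_lit 8384), (nat_lit 8257), (nat_lit 8255)],
  [(nat_lit 8128), (nat_lit 8128), (nat_lit 8256), (nat_lit 8256), (nat_lit 8384), (nat_lit 8255), (nat_lit 8256), (nat_lit 8256), (nat_lit 8256), (nat_lit 8257), (nat_lit 8256), (nat_lit 8384), (nat_lit 8257), (nat_lit 8256), (nat_lit 8256), (nat_lit 8384), (nat_lit 8128), (nat_lit 8256), (nat_lit 8257), (nat_lit 8256), (nat_lit 8384), (nat_lit 8128), (nat_lit 8255), (nat_lit 8255), (nat_lit 8255), (nat_lit 8256), (nat_lit 8256), (nat_lit 8257)],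
  [(nat_lit 8128), (nat_lit 8257), (nat_lit 8257), (nat_lit 8255), (nat_lit 8256), (nat_lit 8256), (nat_lit 8256), (nat_lit 8256), (nat_lit 8256), (nat_lit 8256), (nat_lit 8256), (nat_lit 8256), (nat_lit 8128), (nat_lit 8128), (nat_lit 8255), (nat_lit 8384), (nat_lit 8256), (nat_lit 8256), (nat_lit 8256), (nat_lit 8256), (nat_lit 8255), (nat_lit 8128), (nat_lit 8257), (nat_lit 8257), (nat_lit 8384), (nat_lit 8128), (nat_lit 8128), (nat_lit 8255)],
  [(nat_lit 8128), (nat_lit 8255), (nat_lit 8257), (nat_lit 8257), (nat_lit 8256), (nat_lit 8256), (nat_lit 8256), (nat_lit 8256), (nat_lit 8256), (nat_lit 8256), (nat_lit 8256), (nat_lit 8256), (nat_lit 8255), (nat_lit 8257), (nat_lit 8128), (nat_lit 8257), (nat_lit 8256), (nat_lit 8256), (nat_lit 8256), (nat_lit 8256), (nat_lit 8384), (nat_lit 8255), (nat_lit 8128), (nat_lit 8128), (nat_lit 8128), (nat_lit 8384), (nat_lit 8128), (nat_lit 8255)],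
  [(nat_lit 8128), (nat_lit 8257), (nat_lit 8255), (nat_lit 8257), (nat_lit 8256), (nat_lit 8256), (nat_lit 8256), (nat_lit 8256), (nat_lit 8256), (nat_lit 8256), (nat_lit 8256), (nat_lit 8256), (nat_lit 8384), (nat_lit 8128), (nat_lit 8257), (nat_lit 8384), (nat_lit 8256), (nat_lit 8256), (nat_lit 8256), (nat_lit 8256), (nat_lit 8257), (nat_lit 8128), (nat_lit 8257), (nat_lit 8255), (nat_lit 8384), (nat_lit 8128), (nat_lit 8384), (nat_lit 8257)],
  [(nat_lit 8384), (nat_lit 8257), (nat_lit 8257), (nat_lit 8257), (nat_lit 8256), (nat_lit 8256), (nat_lit 8256), (nat_lit 8256), (nat_lit 8256), (nat_lit 8256), (nat_lit 8256), (nat_lit 8256), (nat_lit 8255), (nat_lit 8255), (nat_lit 8128), (nat_lit 8255), (nat_lit 8256), (nat_lit 8256), (nat_lit 8256), (nat_lit 8256), (nat_lit 8128), (nat_lit 8255), (nat_lit 8128), (nat_lit 8384), (nat_lit 8384), (nat_lit 8128), (nat_lit 8128), (nat_lit 8255)],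
  [(nat_lit 8384), (nat_lit 8257), (nat_lit 8255), (nat_lit 8255), (nat_lit 8256), (nat_lit 8256), (nat_lit 8256), (nat_lit 8256), (nat_lit 8256), (nat_lit 8256), (nat_lit 8256), (nat_lit 8256), (nat_lit 8128), (nat_lit 8128), (nat_lit 8257), (nat_lit 8128), (nat_lit 8256), (nat_lit 8256), (nat_lit 8256), (nat_lit 8256), (nat_lit 8257), (nat_lit 8128), (nat_lit 8255), (nat_lit 8257), (nat_lit 8128), (nat_lit 8128), (nat_lit 8128), (nat_lit 8257)],
  [(nat_lit 8128), (nat_lit 8257), (nat_lit 8257), (nat_lit 8255), (nat_lit 8256), (nat_lit 8256), (nat_lit 8256), (nat_lit 8256), (nat_lit 8256), (nat_lit 8256), (nat_lit 8256), (nat_lit 8256), (nat_lit 8257), (nat_lit 8255), (nat_lit 8128), (nat_lit 8257), (nat_lit 8256), (nat_lit 8256), (nat_lit 8256), (nat_lit 8256), (nat_lit 8384), (nat_lit 8257), (nat_lit 8128), (nat_lit 8384), (nat_lit 8384), (nat_lit 8384), (nat_lit 8128), (nat_lit 8257)],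
  [(nat_lit 8384), (nat_lit 8257), (nat_lit 8257), (nat_lit 8257), (nat_lit 8256), (nat_lit 8256), (nat_lit 8256), (nat_lit 8256), (nat_lit 8256), (nat_lit 8256), (nat_lit 8256), (nat_lit 8256), (nat_lit 8384), (nat_lit 8128), (nat_lit 8255), (nat_lit 8128), (nat_lit 8256), (nat_lit 8256), (nat_lit 8256), (nat_lit 8256), (nat_lit 8255), (nat_lit 8128), (nat_lit 8255), (nat_lit 8255), (nat_lit 8128), (nat_lit 8128), (nat_lit 8384), (nat_lit 8255)],
  [(nat_lit 8128), (nat_lit 8128), (nat_lit 8257), (nat_lit 8255), (nat_lit 8256), (nat_lit 8128), (nat_lit 8255), (nat_lit 8256), (nat_lit 8384), (nat_lit 8128), (nat_lit 8256), (nat_lit 8256), (nat_lit 8256), (nat_lit 8256), (nat_lit 8257), (nat_lit 8257), (nat_lit 8256), (nat_lit 8128), (nat_lit 8256), (nat_lit 8257), (nat_lit 8384), (nat_lit 8256), (nat_lit 8256), (nat_lit 8255), (nat_lit 8128), (nat_lit 8256), (nat_lit 8255), (nat_lit 8256)],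
  [(nat_lit 8128), (nat_lit 8255), (nat_lit 8128), (nat_lit 8257), (nat_lit 8256), (nat_lit 8257), (nat_lit 8128), (nat_lit 8256), (nat_lit 8256), (nat_lit 8256), (nat_lit 8128), (nat_lit 8255), (nat_lit 8384), (nat_lit 8255), (nat_lit 8256), (nat_lit 8256), (nat_lit 8384), (nat_lit 8256), (nat_lit 8128), (nat_lit 8256), (nat_lit 8128), (nat_lit 8256), (nat_lit 8256), (nat_lit 8255), (nat_lit 8256), (nat_lit 8257), (nat_lit 8256), (nat_lit 8257)]]
noncomputable def G4 : List (List Nat) := [[(nat_lit 8272), (nat_lit 7744), (nat_lit 7744), (nat_lit 8260), (nat_lit 7744), (nat_lit 8260), (nat_lit 7744), (nat_lit 8252), (nat_lit 8768), (nat_lit 8260), (nat_lit 8768), (nat_lit 8252), (nat_lit 8260), (nat_lit 8252), (nat_lit 8260), (nat_lit 7744), (nat_lit 8260), (nat_lit 7744), (nat_lit 8768), (nat_lit 8768), (nat_lit 8768), (nat_lit 8768), (nat_lit 7744), (nat_lit 7744), (nat_lit 8768), (nat_lit 7744), (nat_lit 8768), (nat_lit 8768)],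
  [(nat_lit 8768), (nat_lit 8272), (nat_lit 8256), (nat_lit 8256), (nat_lit 8256), (nat_lit 8768), (nat_lit 8260), (nat_lit 8256), (nat_lit 8252), (nat_lit 8256), (nat_lit 7744), (nat_lit 7744), (nat_lit 8768), (nat_lit 8256), (nat_lit 8252), (nat_lit 8260), (nat_lit 8252), (nat_lit 8768), (nat_lit 8256), (nat_lit 8768), (nat_lit 8768), (nat_lit 7744), (nat_lit 8260), (nat_lit 8260), (nat_lit 7744), (nat_lit 8260), (nat_lit 8252), (nat_lit 8252)],
  [(nat_lit 8768), (nat_lit 8256), (nat_lit 8272), (nat_lit 8256), (nat_lit 8256), (nat_lit 8256), (nat_lit 8768), (nat_lit 8252), (nat_lit 7744), (nat_lit 8768), (nat_lit 8768), (nat_lit 8256), (nat_lit 8256), (nat_lit 8260), (nat_lit 8768), (nat_lit 8768), (nat_lit 8256), (nat_lit 7744), (nat_lit 8252), (nat_lit 7744), (nat_lit 8252), (nat_lit 7744), (nat_lit 7744), (nat_lit 8260), (nat_lit 8260), (nat_lit 8252), (nat_lit 8256), (nat_lit 8252)],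
  [(nat_lit 8260), (nat_lit 8256), (nat_lit 8256), (nat_lit 8272), (nat_lit 8260), (nat_lit 8260), (nat_lit 7744), (nat_lit 8256), (nat_lit 8260), (nat_lit 8252), (nat_lit 8256), (nat_lit 8252), (nat_lit 8256), (nat_lit 8768), (nat_lit 8256), (nat_lit 8252), (nat_lit 8260), (nat_lit 7744), (nat_lit 8256), (nat_lit 8256), (nat_lit 8256), (nat_lit 8256), (nat_lit 8260), (nat_lit 8256), (nat_lit 7744), (nat_lit 8260), (nat_lit 8256), (nat_lit 8256)],
  [(nat_lit 8768), (nat_lit 8256), (nat_lit 8256), (nat_lit 8260), (nat_lit 8272), (nat_lit 8256), (nat_lit 8260), (nat_lit 7744), (nat_lit 8256), (nat_lit 8252), (nat_lit 8252), (nat_lit 8256), (nat_lit 8256), (nat_lit 8256), (nat_lit 8768), (nat_lit 8768), (nat_lit 8260), (nat_lit 8260), (nat_lit 8256), (nat_lit 8252), (nat_lit 8252), (nat_lit 8260), (nat_lit 8768), (nat_lit 8768), (nat_lit 8252), (nat_lit 7744), (nat_lit 8252), (nat_lit 8260)],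
  [(nat_lit 8260), (nat_lit 7744), (nat_lit 8256), (nat_lit 8260), (nat_lit 8256), (nat_lit 8272), (nat_lit 8252), (nat_lit 8256), (nat_lit 8260), (nat_lit 8252), (nat_lit 8768), (nat_lit 8252), (nat_lit 8256), (nat_lit 8768), (nat_lit 8256), (nat_lit 8252), (nat_lit 8256), (nat_lit 8260), (nat_lit 8252), (nat_lit 8260), (nat_lit 8260), (nat_lit 8256), (nat_lit 8260), (nat_lit 8252), (nat_lit 8256), (nat_lit 8260), (nat_lit 8256), (nat_lit 8256)],
  [(nat_lit 8768), (nat_lit 8260), (nat_lit 7744), (nat_lit 8768), (nat_lit 8260), (nat_lit 8252), (nat_lit 8272), (nat_lit 8768), (nat_lit 8252), (nat_lit 8256), (nat_lit 7744), (nat_lit 8260), (nat_lit 8768), (nat_lit 7744), (nat_lit 8256), (nat_lit 8260), (nat_lit 8768), (nat_lit 8768), (nat_lit 8252), (nat_lit 8252), (nat_lit 8768), (nat_lit 7744), (nat_lit 8768), (nat_lit 8260), (nat_lit 8252), (nat_lit 8768), (nat_lit 8252), (nat_lit 8256)],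
  [(nat_lit 8252), (nat_lit 8256), (nat_lit 8252), (nat_lit 8256), (nat_lit 8768), (nat_lit 8256), (nat_lit 7744), (nat_lit 8272), (nat_lit 8252), (nat_lit 8252), (nat_lit 7744), (nat_lit 8256), (nat_lit 8768), (nat_lit 7744), (nat_lit 7744), (nat_lit 8256), (nat_lit 8256), (nat_lit 8260), (nat_lit 8768), (nat_lit 8260), (nat_lit 8256), (nat_lit 8252), (nat_lit 8260), (nat_lit 8252), (nat_lit 8256), (nat_lit 8260), (nat_lit 8252), (nat_lit 8256)],
  [(nat_lit 7744), (nat_lit 8252), (nat_lit 8768), (nat_lit 8260), (nat_lit 8256), (nat_lit 8260), (nat_lit 8252), (nat_lit 8252), (nat_lit 8272), (nat_lit 7744), (nat_lit 8768), (nat_lit 8768), (nat_lit 8252), (nat_lit 8768), (nat_lit 8768), (nat_lit 8252), (nat_lit 8260), (nat_lit 8256), (nat_lit 7744), (nat_lit 8260), (nat_lit 7744), (nat_lit 8260), (nat_lit 8256), (nat_lit 8768), (nat_lit 8260), (nat_lit 8256), (nat_lit 8260), (nat_lit 8260)],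
  [(nat_lit 8260), (nat_lit 8256), (nat_lit 7744), (nat_lit 8252), (nat_lit 8252), (nat_lit 8252), (nat_lit 8256), (nat_lit 8252), (nat_lit 8768), (nat_lit 8272), (nat_lit 8256), (nat_lit 8256), (nat_lit 8256), (nat_lit 8256), (nat_lit 8256), (nat_lit 7744), (nat_lit 8252), (nat_lit 8252), (nat_lit 8260), (nat_lit 8768), (nat_lit 8252), (nat_lit 8768), (nat_lit 8252), (nat_lit 8260), (nat_lit 8256), (nat_lit 8256), (nat_lit 8256), (nat_lit 8252)],
  [(nat_lit 7744), (nat_lit 8768), (nat_lit 7744), (nat_lit 8256), (nat_lit 8252), (nat_lit 7744), (nat_lit 8768), (nat_lit 8768), (nat_lit 7744), (nat_lit 8256), (nat_lit 8272), (nat_lit 8260), (nat_lit 8252), (nat_lit 8256), (nat_lit 7744), (nat_lit 8260), (nat_lit 7744), (nat_lit 8252), (nat_lit 8768), (nat_lit 8256), (nat_lit 8256), (nat_lit 8768), (nat_lit 8252), (nat_lit 8260), (nat_lit 7744), (nat_lit 8768), (nat_lit 7744), (nat_lit 8256)],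
  [(nat_lit 8252), (nat_lit 8768), (nat_lit 8256), (nat_lit 8252), (nat_lit 8256), (nat_lit 8252), (nat_lit 8260), (nat_lit 8256), (nat_lit 7744), (nat_lit 8256), (nat_lit 8260), (nat_lit 8272), (nat_lit 8256), (nat_lit 8256), (nat_lit 7744), (nat_lit 8260), (nat_lit 8256), (nat_lit 8768), (nat_lit 8256), (nat_lit 8252), (nat_lit 8252), (nat_lit 8256), (nat_lit 8252), (nat_lit 8260), (nat_lit 8256), (nat_lit 8252), (nat_lit 7744), (nat_lit 7744)],
  [(nat_lit 8260), (nat_lit 7744), (nat_lit 8256), (nat_lit 8256), (nat_lit 8256), (nat_lit 8256), (nat_lit 7744), (nat_lit 7744), (nat_lit 8252), (nat_lit 8256), (nat_lit 8252), (nat_lit 8256), (nat_lit 8272), (nat_lit 8252), (nat_lit 8260), (nat_lit 7744), (nat_lit 8256), (nat_lit 8256), (nat_lit 8260), (nat_lit 7744), (nat_lit 8260), (nat_lit 8252), (nat_lit 7744), (nat_lit 7744), (nat_lit 8256), (nat_lit 7744), (nat_lit 8768), (nat_lit 8256)],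
  [(nat_lit 8252), (nat_lit 8256), (nat_lit 8260), (nat_lit 7744), (nat_lit 8256), (nat_lit 7744), (nat_lit 8768), (nat_lit 8768), (nat_lit 7744), (nat_lit 8256), (nat_lit 8256), (nat_lit 8256), (nat_lit 8252), (nat_lit 8272), (nat_lit 8768), (nat_lit 8768), (nat_lit 8256), (nat_lit 8256), (nat_lit 8252), (nat_lit 8260), (nat_lit 8252), (nat_lit 8256), (nat_lit 8260), (nat_lit 8256), (nat_lit 8256), (nat_lit 8252), (nat_lit 8252), (nat_lit 8252)],
  [(nat_lit 8260), (nat_lit 8252), (nat_lit 7744), (nat_lit 8256), (nat_lit 7744), (nat_lit 8256), (nat_lit 8256), (nat_lit 8768), (nat_lit 7744), (nat_lit 8256), (nat_lit 8768), (nat_lit 8768), (nat_lit 8260), (nat_lit 7744), (nat_lit 8272), (nat_lit 8260), (nat_lit 7744), (nat_lit 7744), (nat_lit 8256), (nat_lit 8256), (nat_lit 8256), (nat_lit 8252), (nat_lit 8256), (nat_lit 8256), (nat_lit 8260), (nat_lit 8252), (nat_lit 8260), (nat_lit 8260)],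
  [(nat_lit 8768), (nat_lit 8260), (nat_lit 7744), (nat_lit 8252), (nat_lit 7744), (nat_lit 8252), (nat_lit 8260), (nat_lit 8256), (nat_lit 8252), (nat_lit 8768), (nat_lit 8260), (nat_lit 8260), (nat_lit 8768), (nat_lit 7744), (nat_lit 8260), (nat_lit 8272), (nat_lit 8252), (nat_lit 8252), (nat_lit 8768), (nat_lit 8768), (nat_lit 8256), (nat_lit 8252), (nat_lit 8256), (nat_lit 8260), (nat_lit 8256), (nat_lit 8768), (nat_lit 8256), (nat_lit 8256)],
  [(nat_lit 8260), (nat_lit 8252), (nat_lit 8256), (nat_lit 8260), (nat_lit 8260), (nat_lit 8256), (nat_lit 7744), (nat_lit 8256), (nat_lit 8260), (nat_lit 8252), (nat_lit 8768), (nat_lit 8256), (nat_lit 8256), (nat_lit 8256), (nat_lit 8768), (nat_lit 8252), (nat_lit 8272), (nat_lit 8260), (nat_lit 8768), (nat_lit 8252), (nat_lit 8256), (nat_lit 8256), (nat_lit 7744), (nat_lit 8252), (nat_lit 8768), (nat_lit 7744), (nat_lit 8256), (nat_lit 8260)],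
  [(nat_lit 8768), (nat_lit 7744), (nat_lit 8768), (nat_lit 8768), (nat_lit 8260), (nat_lit 8260), (nat_lit 7744), (nat_lit 8260), (nat_lit 8256), (nat_lit 8252), (nat_lit 8252), (nat_lit 7744), (nat_lit 8256), (nat_lit 8256), (nat_lit 8768), (nat_lit 8252), (nat_lit 8260), (nat_lit 8272), (nat_lit 8256), (nat_lit 8256), (nat_lit 8256), (nat_lit 7744), (nat_lit 8260), (nat_lit 8252), (nat_lit 8768), (nat_lit 7744), (nat_lit 8252), (nat_lit 8256)],
  [(nat_lit 7744), (nat_lit 8256), (nat_lit 8252), (nat_lit 8256), (nat_lit 8256), (nat_lit 8252), (nat_lit 8252), (nat_lit 7744), (nat_lit 8768), (nat_lit 8260), (nat_lit 7744), (nat_lit 8256), (nat_lit 8260), (nat_lit 8252), (nat_lit 8256), (nat_lit 7744), (nat_lit 7744), (nat_lit 8256), (nat_lit 8272), (nat_lit 8256), (nat_lit 8256), (nat_lit 8260), (nat_lit 8252), (nat_lit 8256), (nat_lit 8260), (nat_lit 7744), (nat_lit 8260), (nat_lit 8256)],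
  [(nat_lit 7744), (nat_lit 7744), (nat_lit 8768), (nat_lit 8256), (nat_lit 8252), (nat_lit 8260), (nat_lit 8252), (nat_lit 8260), (nat_lit 8260), (nat_lit 7744), (nat_lit 8256), (nat_lit 8252), (nat_lit 8768), (nat_lit 8260), (nat_lit 8256), (nat_lit 7744), (nat_lit 8252), (nat_lit 8256), (nat_lit 8256), (nat_lit 8272), (nat_lit 8768), (nat_lit 8256), (nat_lit 8260), (nat_lit 8256), (nat_lit 8260), (nat_lit 8256), (nat_lit 8768), (nat_lit 8252)],
  [(nat_lit 7744), (nat_lit 7744), (nat_lit 8252), (nat_lit 8256), (nat_lit 8252), (nat_lit 8260), (nat_lit 7744), (nat_lit 8256), (nat_lit 8768), (nat_lit 8252), (nat_lit 8256), (nat_lit 8252), (nat_lit 8260), (nat_lit 8252), (nat_lit 8256), (nat_lit 8256), (nat_lit 8256), (nat_lit 8256), (nat_lit 8256), (nat_lit 7744), (nat_lit 8272), (nat_lit 8252), (nat_lit 8256), (nat_lit 8252), (nat_lit 8256), (nat_lit 8768), (nat_lit 8260), (nat_lit 8768)],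
  [(nat_lit 7744), (nat_lit 8768), (nat_lit 8768), (nat_lit 8256), (nat_lit 8260), (nat_lit 8256), (nat_lit 8768), (nat_lit 8252), (nat_lit 8260), (nat_lit 7744), (nat_lit 7744), (nat_lit 8256), (nat_lit 8252), (nat_lit 8256), (nat_lit 8252), (nat_lit 8252), (nat_lit 8256), (nat_lit 8768), (nat_lit 8260), (nat_lit 8256), (nat_lit 8252), (nat_lit 8272), (nat_lit 8768), (nat_lit 8256), (nat_lit 8768), (nat_lit 8256), (nat_lit 8256), (nat_lit 8260)],
  [(nat_lit 8768), (nat_lit 8260), (nat_lit 8768), (nat_lit 8260), (nat_lit 7744), (nat_lit 8260), (nat_lit 7744), (nat_lit 8260), (nat_lit 8256), (nat_lit 8252), (nat_lit 8252), (nat_lit 8252), (nat_lit 8768), (nat_lit 8260), (nat_lit 8256), (nat_lit 8256), (nat_lit 8768), (nat_lit 8260), (nat_lit 8252), (nat_lit 8260), (nat_lit 8256), (nat_lit 7744), (nat_lit 8272), (nat_lit 7744), (nat_lit 8256), (nat_lit 8260), (nat_lit 8252), (nat_lit 8256)],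
  [(nat_lit 8768), (nat_lit 8260), (nat_lit 8260), (nat_lit 8256), (nat_lit 7744), (nat_lit 8252), (nat_lit 8260), (nat_lit 8252), (nat_lit 7744), (nat_lit 8260), (nat_lit 8260), (nat_lit 8260), (nat_lit 8768), (nat_lit 8256), (nat_lit 8256), (nat_lit 8260), (nat_lit 8252), (nat_lit 8252), (nat_lit 8256), (nat_lit 8256), (nat_lit 8252), (nat_lit 8256), (nat_lit 8768), (nat_lit 8272), (nat_lit 7744), (nat_lit 8256), (nat_lit 8256), (nat_lit 8252)],
  [(nat_lit 7744), (nat_lit 8768), (nat_lit 8260), (nat_lit 8768), (nat_lit 8252), (nat_lit 8256), (nat_lit 8252), (nat_lit 8256), (nat_lit 8260), (nat_lit 8256), (nat_lit 8768), (nat_lit 8256), (nat_lit 8256), (nat_lit 8256), (nat_lit 8260), (nat_lit 8256), (nat_lit 7744), (nat_lit 7744), (nat_lit 8260), (nat_lit 8260), (nat_lit 8256), (nat_lit 7744), (nat_lit 8256), (nat_lit 8768), (nat_lit 8272), (nat_lit 8252), (nat_lit 8260), (nat_lit 8256)],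
  [(nat_lit 8768), (nat_lit 8260), (nat_lit 8252), (nat_lit 8260), (nat_lit 8768), (nat_lit 8260), (nat_lit 7744), (nat_lit 8260), (nat_lit 8256), (nat_lit 8256), (nat_lit 7744), (nat_lit 8252), (nat_lit 8768), (nat_lit 8252), (nat_lit 8252), (nat_lit 7744), (nat_lit 8768), (nat_lit 8768), (nat_lit 8768), (nat_lit 8256), (nat_lit 7744), (nat_lit 8256), (nat_lit 8260), (nat_lit 8256), (nat_lit 8252), (nat_lit 8272), (nat_lit 8256), (nat_lit 8256)],
  [(nat_lit 7744), (nat_lit 8252), (nat_lit 8256), (nat_lit 8256), (nat_lit 8252), (nat_lit 8256), (nat_lit 8252), (nat_lit 8252), (nat_lit 8260), (nat_lit 8256), (nat_lit 8768), (nat_lit 8768), (nat_lit 7744), (nat_lit 8252), (nat_lit 8260), (nat_lit 8256), (nat_lit 8256), (nat_lit 8252), (nat_lit 8260), (nat_lit 7744), (nat_lit 8260), (nat_lit 8256), (nat_lit 8252), (nat_lit 8256), (nat_lit 8260), (nat_lit 8256), (nat_lit 8272), (nat_lit 8256)],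
  [(nat_lit 7744), (nat_lit 8252), (nat_lit 8252), (nat_lit 8256), (nat_lit 8260), (nat_lit 8256), (nat_lit 8256), (nat_lit 8256), (nat_lit 8260), (nat_lit 8252), (nat_lit 8256), (nat_lit 8768), (nat_lit 8256), (nat_lit 8252), (nat_lit 8260), (nat_lit 8256), (nat_lit 8260), (nat_lit 8256), (nat_lit 8256), (nat_lit 8252), (nat_lit 7744), (nat_lit 8260), (nat_lit 8256), (nat_lit 8252), (nat_lit 8256), (nat_lit 8256), (nat_lit 8256), (nat_lit 8272)]]
noncomputable def Gm : List (List Nat) := [[(nat_lit 8260), (nat_lit 8128), (nat_lit 8128), (nat_lit 8257), (nat_lit 8128), (nat_lit 8257), (nat_lit 8128), (nat_lit 8255), (nat_lit 8384), (nat_lit 8257), (nat_lit 8384), (nat_lit 8255), (nat_lit 8257), (nat_lit 8255), (nat_lit 8257), (nat_lit 8128), (nat_lit 8257), (nat_lit 8128), (nat_lit 8384), (nat_lit 8384), (nat_lit 8384), (nat_lit 8384), (nat_lit 8128), (nat_lit 8128), (nat_lit 8384), (nat_lit 8128), (nat_lit 8384), (nat_lit 8384)],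
  [(nat_lit 8384), (nat_lit 8260), (nat_lit 8256), (nat_lit 8256), (nat_lit 8256), (nat_lit 8384), (nat_lit 8257), (nat_lit 8256), (nat_lit 8255), (nat_lit 8256), (nat_lit 8128), (nat_lit 8128), (nat_lit 8384), (nat_lit 8256), (nat_lit 8255), (nat_lit 8257), (nat_lit 8255), (nat_lit 8384), (nat_lit 8256), (nat_lit 8384), (nat_lit 8384), (nat_lit 8128), (nat_lit 8257), (nat_lit 8257), (nat_lit 8128), (nat_lit 8257), (nat_lit 8255), (nat_lit 8255)],
  [(nat_lit 8384), (nat_lit 8256), (nat_lit 8260), (nat_lit 8256), (nat_lit 8256), (nat_lit 8256), (nat_lit 8384), (nat_lit 8255), (nat_lit 8128), (nat_lit 8384), (nat_lit 8384), (nat_lit 8256), (nat_lit 8256), (nat_lit 8257), (nat_lit 8384), (nat_lit 8384), (nat_lit 8256), (nat_lit 8128), (nat_lit 8255), (nat_lit 8128), (nat_lit 8255), (nat_lit 8128), (nat_lit 8128), (nat_lit 8257), (nat_lit 8257), (nat_lit 8255), (nat_lit 8256), (nat_lit 8255)],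
  [(nat_lit 8257), (nat_lit 8256), (nat_lit 8256), (nat_lit 8260), (nat_lit 8257), (nat_lit 8257), (nat_lit 8128), (nat_lit 8256), (nat_lit 8257), (nat_lit 8255), (nat_lit 8256), (nat_lit 8255), (nat_lit 8256), (nat_lit 8384), (nat_lit 8256), (nat_lit 8255), (nat_lit 8257), (nat_lit 8128), (nat_lit 8256), (nat_lit 8256), (nat_lit 8256), (nat_lit 8256), (nat_lit 8257), (nat_lit 8256), (nat_lit 8128), (nat_lit 8257), (nat_lit 8256), (nat_lit 8256)],
  [(nat_lit 8384), (nat_lit 8256), (nat_lit 8256), (nat_lit 8257), (nat_lit 8260), (nat_lit 8256), (nat_lit 8257), (nat_lit 8128), (nat_lit 8256), (nat_lit 8255), (nat_lit 8255), (nat_lit 8256), (nat_lit 8256), (nat_lit 8256), (nat_lit 8384), (nat_lit 8384), (nat_lit 8257), (nat_lit 8257), (nat_lit 8256), (nat_lit 8255), (nat_lit 8255), (nat_lit 8257), (nat_lit 8384), (nat_lit 8384), (nat_lit 8255), (nat_lit 8128), (nat_lit 8255), (nat_lit 8257)],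
  [(nat_lit 8257), (nat_lit 8128), (nat_lit 8256), (nat_lit 8257), (nat_lit 8256), (nat_lit 8260), (nat_lit 8255), (nat_lit 8256), (nat_lit 8257), (nat_lit 8255), (nat_lit 8384), (nat_lit 8255), (nat_lit 8256), (nat_lit 8384), (nat_lit 8256), (nat_lit 8255), (nat_lit 8256), (nat_lit 8257), (nat_lit 8255), (nat_lit 8257), (nat_lit 8257), (nat_lit 8256), (nat_lit 8257), (nat_lit 8255), (nat_lit 8256), (nat_lit 8257), (nat_lit 8256), (nat_lit 8256)],
  [(nat_lit 8384), (nat_lit 8257), (nat_lit 8128), (nat_lit 8384), (nat_lit 8257), (nat_lit 8255), (nat_lit 8260), (nat_lit 8384), (nat_lit 8255), (nat_lit 8256), (nat_lit 8128), (nat_lit 8257), (nat_lit 8384), (nat_lit 8128), (nat_lit 8256), (nat_lit 8257), (nat_lit 8384), (nat_lit 8384), (nat_lit 8255), (nat_lit 8255), (nat_lit 8384), (nat_lit 8128), (nat_lit 8384), (nat_lit 8257), (nat_lit 8255), (nat_lit 8384), (nat_lit 8255), (nat_lit 8256)],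
  [(nat_lit 8255), (nat_lit 8256), (nat_lit 8255), (nat_lit 8256), (nat_lit 8384), (nat_lit 8256), (nat_lit 8128), (nat_lit 8260), (nat_lit 8255), (nat_lit 8255), (nat_lit 8128), (nat_lit 8256), (nat_lit 8384), (nat_lit 8128), (nat_lit 8128), (nat_lit 8256), (nat_lit 8256), (nat_lit 8257), (nat_lit 8384), (nat_lit 8257), (nat_lit 8256), (nat_lit 8255), (nat_lit 8257), (nat_lit 8255), (nat_lit 8256), (nat_lit 8257), (nat_lit 8255), (nat_lit 8256)],
  [(nat_lit 8128), (nat_lit 8255), (nat_lit 8384), (nat_lit 8257), (nat_lit 8256), (nat_lit 8257), (nat_lit 8255), (nat_lit 8255), (nat_lit 8260), (nat_lit 8128), (nat_lit 8384), (nat_lit 8384), (nat_lit 8255), (nat_lit 8384), (nat_lit 8384), (nat_lit 8255), (nat_lit 8257), (nat_lit 8256), (nat_lit 8128), (nat_lit 8257), (nat_lit 8128), (nat_lit 8257), (nat_lit 8256), (nat_lit 8384), (nat_lit 8257), (nat_lit 8256), (nat_lit 8257), (nat_lit 8257)],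
  [(nat_lit 8257), (nat_lit 8256), (nat_lit 8128), (nat_lit 8255), (nat_lit 8255), (nat_lit 8255), (nat_lit 8256), (nat_lit 8255), (nat_lit 8384), (nat_lit 8260), (nat_lit 8256), (nat_lit 8256), (nat_lit 8256), (nat_lit 8256), (nat_lit 8256), (nat_lit 8128), (nat_lit 8255), (nat_lit 8255), (nat_lit 8257), (nat_lit 8384), (nat_lit 8255), (nat_lit 8384), (nat_lit 8255), (nat_lit 8257), (nat_lit 8256), (nat_lit 8256), (nat_lit 8256), (nat_lit 8255)],
  [(nat_lit 8128), (nat_lit 8384), (nat_lit 8128), (nat_lit 8256), (nat_lit 8255), (nat_lit 8128), (nat_lit 8384), (nat_lit 8384), (nat_lit 8128), (nat_lit 8256), (nat_lit 8260), (nat_lit 8257), (nat_lit 8255), (nat_lit 8256), (nat_lit 8128), (nat_lit 8257), (nat_lit 8128), (nat_lit 8255), (nat_lit 8384), (nat_lit 8256), (nat_lit 8256), (nat_lit 8384), (nat_lit 8255), (nat_lit 8257), (nat_lit 8128), (nat_lit 8384), (nat_lit 8128), (nat_lit 8256)],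
  [(nat_lit 8255), (nat_lit 8384), (nat_lit 8256), (nat_lit 8255), (nat_lit 8256), (nat_lit 8255), (nat_lit 8257), (nat_lit 8256), (nat_lit 8128), (nat_lit 8256), (nat_lit 8257), (nat_lit 8260), (nat_lit 8256), (nat_lit 8256), (nat_lit 8128), (nat_lit 8257), (nat_lit 8256), (nat_lit 8384), (nat_lit 8256), (nat_lit 8255), (nat_lit 8255), (nat_lit 8256), (nat_lit 8255), (nat_lit 8257), (nat_lit 8256), (nat_lit 8255), (nat_lit 8128), (nat_lit 8128)],
  [(nat_lit 8257), (nat_lit 8128), (nat_lit 8256), (nat_lit 8256), (nat_lit 8256), (nat_lit 8256), (nat_lit 8128), (nat_lit 8128), (nat_lit 8255), (nat_lit 8256), (nat_lit 8255), (nat_lit 8256), (nat_lit 8260), (nat_lit 8255), (nat_lit 8257), (nat_lit 8128), (nat_lit 8256), (nat_lit 8256), (nat_lit 8257), (nat_lit 8128), (nat_lit 8257), (nat_lit 8255), (nat_lit 8128), (nat_lit 8128), (nat_lit 8256), (nat_lit 8128), (nat_lit 8384), (nat_lit 8256)],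
  [(nat_lit 8255), (nat_lit 8256), (nat_lit 8257), (nat_lit 8128), (nat_lit 8256), (nat_lit 8128), (nat_lit 8384), (nat_lit 8384), (nat_lit 8128), (nat_lit 8256), (nat_lit 8256), (nat_lit 8256), (nat_lit 8255), (nat_lit 8260), (nat_lit 8384), (nat_lit 8384), (nat_lit 8256), (nat_lit 8256), (nat_lit 8255), (nat_lit 8257), (nat_lit 8255), (nat_lit 8256), (nat_lit 8257), (nat_lit 8256), (nat_lit 8256), (nat_lit 8255), (nat_lit 8255), (nat_lit 8255)],
  [(nat_lit 8257), (nat_lit 8255), (nat_lit 8128), (nat_lit 8256), (nat_lit 8128), (nat_lit 8256), (nat_lit 8256), (nat_lit 8384), (nat_lit 8128), (nat_lit 8256), (nat_lit 8384), (nat_lit 8384), (nat_lit 8257), (nat_lit 8128), (nat_lit 8260), (nat_lit 8257), (nat_lit 8128), (nat_lit 8128), (nat_lit 8256), (nat_lit 8256), (nat_lit 8256), (nat_lit 8255), (nat_lit 8256), (nat_lit 8256), (nat_lit 8257), (nat_lit 8255), (nat_lit 8257), (nat_lit 8257)],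
  [(nat_lit 8384), (nat_lit 8257), (nat_lit 8128), (nat_lit 8255), (nat_lit 8128), (nat_lit 8255), (nat_lit 8257), (nat_lit 8256), (nat_lit 8255), (nat_lit 8384), (nat_lit 8257), (nat_lit 8257), (nat_lit 8384), (nat_lit 8128), (nat_lit 8257), (nat_lit 8260), (nat_lit 8255), (nat_lit 8255), (nat_lit 8384), (nat_lit 8384), (nat_lit 8256), (nat_lit 8255), (nat_lit 8256), (nat_lit 8257), (nat_lit 8256), (nat_lit 8384), (nat_lit 8256), (nat_lit 8256)],
  [(nat_lit 8257), (nat_lit 8255), (nat_lit 8256), (nat_lit 8257), (nat_lit 8257), (nat_lit 8256), (nat_lit 8128), (nat_lit 8256), (nat_lit 8257), (nat_lit 8255), (nat_lit 8384), (nat_lit 8256), (nat_lit 8256), (nat_lit 8256), (nat_lit 8384), (nat_lit 8255), (nat_lit 8260), (nat_lit 8257), (nat_lit 8384), (nat_lit 8255), (nat_lit 8256), (nat_lit 8256), (nat_lit 8128), (nat_lit 8255), (nat_lit 8384), (nat_lit 8128), (nat_lit 8256), (nat_lit 8257)],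
  [(nat_lit 8384), (nat_lit 8128), (nat_lit 8384), (nat_lit 8384), (nat_lit 8257), (nat_lit 8257), (nat_lit 8128), (nat_lit 8257), (nat_lit 8256), (nat_lit 8255), (nat_lit 8255), (nat_lit 8128), (nat_lit 8256), (nat_lit 8256), (nat_lit 8384), (nat_lit 8255), (nat_lit 8257), (nat_lit 8260), (nat_lit 8256), (nat_lit 8256), (nat_lit 8256), (nat_lit 8128), (nat_lit 8257), (nat_lit 8255), (nat_lit 8384), (nat_lit 8128), (nat_lit 8255), (nat_lit 8256)],
  [(nat_lit 8128), (nat_lit 8256), (nat_lit 8255), (nat_lit 8256), (nat_lit 8256), (nat_lit 8255), (nat_lit 8255), (nat_lit 8128), (nat_lit 8384), (nat_lit 8257), (nat_lit 8128), (nat_lit 8256), (nat_lit 8257), (nat_lit 8255), (nat_lit 8256), (nat_lit 8128), (nat_lit 8128), (nat_lit 8256), (nat_lit 8260), (nat_lit 8256), (nat_lit 8256), (nat_lit 8257), (nat_lit 8255), (nat_lit 8256), (nat_lit 8257), (nat_lit 8128), (nat_lit 8257), (nat_lit 8256)],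
  [(nat_lit 8128), (nat_lit 8128), (nat_lit 8384), (nat_lit 8256), (nat_lit 8255), (nat_lit 8257), (nat_lit 8255), (nat_lit 8257), (nat_lit 8257), (nat_lit 8128), (nat_lit 8256), (nat_lit 8255), (nat_lit 8384), (nat_lit 8257), (nat_lit 8256), (nat_lit 8128), (nat_lit 8255), (nat_lit 8256), (nat_lit 8256), (nat_lit 8260), (nat_lit 8384), (nat_lit 8256), (nat_lit 8257), (nat_lit 8256), (nat_lit 8257), (nat_lit 8256), (nat_lit 8384), (nat_lit 8255)],
  [(nat_lit 8128), (nat_lit 8128), (nat_lit 8255), (nat_lit 8256), (nat_lit 8255), (nat_lit 8257), (nat_lit 8128), (nat_lit 8256), (nat_lit 8384), (nat_lit 8255), (nat_lit 8256), (nat_lit 8255), (nat_lit 8257), (nat_lit 8255), (nat_lit 8256), (nat_lit 8256), (nat_lit 8256), (nat_lit 8256), (nat_lit 8256), (nat_lit 8128), (nat_lit 8260), (nat_lit 8255), (nat_lit 8256), (nat_lit 8255), (nat_lit 8256), (nat_lit 8384), (nat_lit 8257), (nat_lit 8384)],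
  [(nat_lit 8128), (nat_lit 8384), (nat_lit 8384), (nat_lit 8256), (nat_lit 8257), (nat_lit 8256), (nat_lit 8384), (nat_lit 8255), (nat_lit 8257), (nat_lit 8128), (nat_lit 8128), (nat_lit 8256), (nat_lit 8255), (nat_lit 8256), (nat_lit 8255), (nat_lit 8255), (nat_lit 8256), (nat_lit 8384), (nat_lit 8257), (nat_lit 8256), (nat_lit 8255), (nat_lit 8260), (nat_lit 8384), (nat_lit 8256), (nat_lit 8384), (nat_lit 8256), (nat_lit 8256), (nat_lit 8257)],
  [(nat_lit 8384), (nat_lit 8257), (nat_lit 8384), (nat_lit 8257), (nat_lit 8128), (nat_lit 8257), (nat_lit 8128), (nat_lit 8257), (nat_lit 8256), (nat_lit 8255), (nat_lit 8255), (nat_lit 8255), (nat_lit 8384), (nat_lit 8257), (nat_lit 8256), (nat_lit 8256), (nat_lit 8384), (nat_lit 8257), (nat_lit 8255), (nat_lit 8257), (nat_lit 8256), (nat_lit 8128), (nat_lit 8260), (nat_lit 8128), (nat_lit 8256), (nat_lit 8257), (nat_lit 8255), (nat_lit 8256)],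
  [(nat_lit 8384), (nat_lit 8257), (nat_lit 8257), (nat_lit 8256), (nat_lit 8128), (nat_lit 8255), (nat_lit 8257), (nat_lit 8255), (nat_lit 8128), (nat_lit 8257), (nat_lit 8257), (nat_lit 8257), (nat_lit 8384), (nat_lit 8256), (nat_lit 8256), (nat_lit 8257), (nat_lit 8255), (nat_lit 8255), (nat_lit 8256), (nat_lit 8256), (nat_lit 8255), (nat_lit 8256), (nat_lit 8384), (nat_lit 8260), (nat_lit 8128), (nat_lit 8256), (nat_lit 8256), (nat_lit 8255)],
  [(nat_lit 8128), (nat_lit 8384), (nat_lit 8257), (nat_lit 8384), (nat_lit 8255), (nat_lit 8256), (nat_lit 8255), (nat_lit 8256), (nat_lit 8257), (nat_lit 8256), (nat_lit 8384), (nat_lit 8256), (nat_lit 8256), (nat_lit 8256), (nat_lit 8257), (nat_lit 8256), (nat_lit 8128), (nat_lit 8128), (nat_lit 8257), (nat_lit 8257), (nat_lit 8256), (nat_lit 8128), (nat_lit 8256), (nat_lit 8384), (nat_lit 8260), (nat_lit 8255), (nat_lit 8257), (nat_lit 8256)],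
  [(nat_lit 8384), (nat_lit 8257), (nat_lit 8255), (nat_lit 8257), (nat_lit 8384), (nat_lit 8257), (nat_lit 8128), (nat_lit 8257), (nat_lit 8256), (nat_lit 8256), (nat_lit 8128), (nat_lit 8255), (nat_lit 8384), (nat_lit 8255), (nat_lit 8255), (nat_lit 8128), (nat_lit 8384), (nat_lit 8384), (nat_lit 8384), (nat_lit 8256), (nat_lit 8128), (nat_lit 8256), (nat_lit 8257), (nat_lit 8256), (nat_lit 8255), (nat_lit 8260), (nat_lit 8256), (nat_lit 8256)],
  [(nat_lit 8128), (nat_lit 8255), (nat_lit 8256), (nat_lit 8256), (nat_lit 8255), (nat_lit 8256), (nat_lit 8255), (nat_lit 8255), (nat_lit 8257), (nat_lit 8256), (nat_lit 8384), (nat_lit 8384), (nat_lit 8128), (nat_lit 8255), (nat_lit 8257), (nat_lit 8256), (nat_lit 8256), (nat_lit 8255), (nat_lit 8257), (nat_lit 8128), (nat_lit 8257), (nat_lit 8256), (nat_lit 8255), (nat_lit 8256), (nat_lit 8257), (nat_lit 8256), (nat_lit 8260), (nat_lit 8256)],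
  [(nat_lit 8128), (nat_lit 8255), (nat_lit 8255), (nat_lit 8256), (nat_lit 8257), (nat_lit 8256), (nat_lit 8256), (nat_lit 8256), (nat_lit 8257), (nat_lit 8255), (nat_lit 8256), (nat_lit 8384), (nat_lit 8256), (nat_lit 8255), (nat_lit 8257), (nat_lit 8256), (nat_lit 8257), (nat_lit 8256), (nat_lit 8256), (nat_lit 8255), (nat_lit 8128), (nat_lit 8257), (nat_lit 8256), (nat_lit 8255), (nat_lit 8256), (nat_lit 8256), (nat_lit 8256), (nat_lit 8260)]]
noncomputable def Gi : List (List Nat) := [[(nat_lit 8288), (nat_lit 8115), (nat_lit 8393), (nat_lit 7613), (nat_lit 7746), (nat_lit 9278), (nat_lit 9157), (nat_lit 8259), (nat_lit 7095), (nat_lit 6332), (nat_lit 7105), (nat_lit 7113), (nat_lit 7863), (nat_lit 8001), (nat_lit 9394), (nat_lit 8505), (nat_lit 8245), (nat_lit 9660), (nat_lit 8528), (nat_lit 8256), (nat_lit 6851), (nat_lit 8236), (nat_lit 8019), (nat_lit 10685), (nat_lit 7872), (nat_lit 8892), (nat_lit 8520), (nat_lit 7626)],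
  [(nat_lit 8371), (nat_lit 8278), (nat_lit 8255), (nat_lit 8513), (nat_lit 8127), (nat_lit 5823), (nat_lit 7095), (nat_lit 7616), (nat_lit 9793), (nat_lit 8891), (nat_lit 9276), (nat_lit 9660), (nat_lit 9025), (nat_lit 8384), (nat_lit 8269), (nat_lit 7868), (nat_lit 8392), (nat_lit 7746), (nat_lit 7481), (nat_lit 7747), (nat_lit 8889), (nat_lit 8775), (nat_lit 9002), (nat_lit 5954), (nat_lit 9024), (nat_lit 9795), (nat_lit 7354), (nat_lit 7741)],
  [(nat_lit 8137), (nat_lit 8255), (nat_lit 8264), (nat_lit 8255), (nat_lit 7742), (nat_lit 7869), (nat_lit 8641), (nat_lit 8002), (nat_lit 8125), (nat_lit 7612), (nat_lit 8251), (nat_lit 8134), (nat_lit 7995), (nat_lit 8128), (nat_lit 8895), (nat_lit 8252), (nat_lit 8126), (nat_lit 8639), (nat_lit 8262), (nat_lit 8514), (nat_lit 8132), (nat_lit 8763), (nat_lit 8514), (nat_lit 8511), (nat_lit 7871), (nat_lit 8645), (nat_lit 8127), (nat_lit 7876)],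
  [(nat_lit 8893), (nat_lit 8001), (nat_lit 8255), (nat_lit 8262), (nat_lit 8129), (nat_lit 8511), (nat_lit 8895), (nat_lit 8512), (nat_lit 7744), (nat_lit 8264), (nat_lit 8385), (nat_lit 8259), (nat_lit 8000), (nat_lit 7998), (nat_lit 7740), (nat_lit 8258), (nat_lit 8002), (nat_lit 8127), (nat_lit 8510), (nat_lit 8131), (nat_lit 7877), (nat_lit 7872), (nat_lit 8769), (nat_lit 7996), (nat_lit 8513), (nat_lit 7614), (nat_lit 8768), (nat_lit 8514)],
  [(nat_lit 8770), (nat_lit 8383), (nat_lit 8766), (nat_lit 8385), (nat_lit 8278), (nat_lit 8384), (nat_lit 9014), (nat_lit 8509), (nat_lit 6848), (nat_lit 8518), (nat_lit 6984), (nat_lit 9407), (nat_lit 8387), (nat_lit 7747), (nat_lit 7351), (nat_lit 7734), (nat_lit 9148), (nat_lit 8898), (nat_lit 8258), (nat_lit 9918), (nat_lit 8518), (nat_lit 7728), (nat_lit 7363), (nat_lit 8004), (nat_lit 9672), (nat_lit 9786), (nat_lit 8647), (nat_lit 8899)],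
  [(nat_lit 7230), (nat_lit 10687), (nat_lit 8637), (nat_lit 7999), (nat_lit 8128), (nat_lit 8284), (nat_lit 6727), (nat_lit 9157), (nat_lit 8114), (nat_lit 6977), (nat_lit 6586), (nat_lit 7986), (nat_lit 8128), (nat_lit 8251), (nat_lit 9911), (nat_lit 7754), (nat_lit 9155), (nat_lit 8386), (nat_lit 7621), (nat_lit 8000), (nat_lit 7601), (nat_lit 9017), (nat_lit 5567), (nat_lit 9680), (nat_lit 8380), (nat_lit 9001), (nat_lit 7372), (nat_lit 8262)],
  [(nat_lit 7365), (nat_lit 9399), (nat_lit 7873), (nat_lit 7615), (nat_lit 7478), (nat_lit 9799), (nat_lit 8280), (nat_lit 8003), (nat_lit 8247), (nat_lit 7102), (nat_lit 8765), (nat_lit 6207), (nat_lit 8247), (nat_lit 8509), (nat_lit 9535), (nat_lit 8772), (nat_lit 8252), (nat_lit 8128), (nat_lit 8390), (nat_lit 7623), (nat_lit 5952), (nat_lit 8899), (nat_lit 7108), (nat_lit 8894), (nat_lit 6845), (nat_lit 6334), (nat_lit 8388), (nat_lit 7745)],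
  [(nat_lit 8259), (nat_lit 8896), (nat_lit 8514), (nat_lit 8000), (nat_lit 7997), (nat_lit 7365), (nat_lit 8515), (nat_lit 8266), (nat_lit 8634), (nat_lit 7230), (nat_lit 8373), (nat_lit 8129), (nat_lit 7483), (nat_lit 8766), (nat_lit 9792), (nat_lit 7491), (nat_lit 7745), (nat_lit 8255), (nat_lit 8257), (nat_lit 8128), (nat_lit 8514), (nat_lit 8770), (nat_lit 7357), (nat_lit 8137), (nat_lit 7872), (nat_lit 9024), (nat_lit 7616), (nat_lit 7748)],
  [(nat_lit 9399), (nat_lit 6721), (nat_lit 8381), (nat_lit 8768), (nat_lit 9664), (nat_lit 8370), (nat_lit 8247), (nat_lit 7866), (nat_lit 8276), (nat_lit 9923), (nat_lit 9418), (nat_lit 8897), (nat_lit 8262), (nat_lit 8262), (nat_lit 5960), (nat_lit 8000), (nat_lit 7486), (nat_lit 7740), (nat_lit 9273), (nat_lit 8376), (nat_lit 9670), (nat_lit 6345), (nat_lit 10432), (nat_lit 7349), (nat_lit 8509), (nat_lit 6983), (nat_lit 9142), (nat_lit 9144)],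
  [(nat_lit 10172), (nat_lit 7611), (nat_lit 8892), (nat_lit 8264), (nat_lit 8006), (nat_lit 9537), (nat_lit 9406), (nat_lit 9278), (nat_lit 6595), (nat_lit 8276), (nat_lit 7495), (nat_lit 8517), (nat_lit 7365), (nat_lit 7742), (nat_lit 6706), (nat_lit 8389), (nat_lit 7875), (nat_lit 7868), (nat_lit 9405), (nat_lit 8387), (nat_lit 7881), (nat_lit 6845), (nat_lit 9159), (nat_lit 8501), (nat_lit 8388), (nat_lit 6841), (nat_lit 9411), (nat_lit 9540)],
  [(nat_lit 9409), (nat_lit 7228), (nat_lit 8251), (nat_lit 8129), (nat_lit 9544), (nat_lit 9914), (nat_lit 7741), (nat_lit 8117), (nat_lit 7114), (nat_lit 9031), (nat_lit 8280), (nat_lit 8124), (nat_lit 9284), (nat_lit 7877), (nat_lit 5692), (nat_lit 8380), (nat_lit 8504), (nat_lit 8636), (nat_lit 8897), (nat_lit 8250), (nat_lit 7359), (nat_lit 5946), (nat_lit 9547), (nat_lit 9008), (nat_lit 9150), (nat_lit 6836), (nat_lit 9924), (nat_lit 9276)],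
  [(nat_lit 9417), (nat_lit 6844), (nat_lit 8390), (nat_lit 8259), (nat_lit 7103), (nat_lit 8498), (nat_lit 10303), (nat_lit 8385), (nat_lit 7617), (nat_lit 8005), (nat_lit 8380), (nat_lit 8274), (nat_lit 7230), (nat_lit 7999), (nat_lit 8123), (nat_lit 8891), (nat_lit 7489), (nat_lit 8125), (nat_lit 9025), (nat_lit 8519), (nat_lit 8271), (nat_lit 8383), (nat_lit 9797), (nat_lit 7989), (nat_lit 7494), (nat_lit 7888), (nat_lit 8635), (nat_lit 8260)],
  [(nat_lit 8631), (nat_lit 7489), (nat_lit 8507), (nat_lit 8512), (nat_lit 8131), (nat_lit 8384), (nat_lit 8247), (nat_lit 9019), (nat_lit 8262), (nat_lit 9157), (nat_lit 7236), (nat_lit 9278), (nat_lit 8270), (nat_lit 8000), (nat_lit 7228), (nat_lit 8771), (nat_lit 8518), (nat_lit 7747), (nat_lit 8376), (nat_lit 8509), (nat_lit 9530), (nat_lit 8258), (nat_lit 8767), (nat_lit 8382), (nat_lit 8517), (nat_lit 8641), (nat_lit 8001), (nat_lit 9021)],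
  [(nat_lit 8513), (nat_lit 8128), (nat_lit 8384), (nat_lit 8510), (nat_lit 8771), (nat_lit 8251), (nat_lit 7997), (nat_lit 7742), (nat_lit 8262), (nat_lit 8766), (nat_lit 8645), (nat_lit 8511), (nat_lit 8512), (nat_lit 8262), (nat_lit 7492), (nat_lit 7996), (nat_lit 8252), (nat_lit 8383), (nat_lit 8512), (nat_lit 8637), (nat_lit 8515), (nat_lit 7360), (nat_lit 8638), (nat_lit 7870), (nat_lit 8382), (nat_lit 8130), (nat_lit 8510), (nat_lit 8510)],
  [(nat_lit 7090), (nat_lit 8269), (nat_lit 7615), (nat_lit 8764), (nat_lit 9143), (nat_lit 6583), (nat_lit 6975), (nat_lit 6720), (nat_lit 10568), (nat_lit 9778), (nat_lit 10812), (nat_lit 8379), (nat_lit 9276), (nat_lit 9028), (nat_lit 8284), (nat_lit 7998), (nat_lit 8002), (nat_lit 7746), (nat_lit 7480), (nat_lit 7742), (nat_lit 9150), (nat_lit 8532), (nat_lit 8749), (nat_lit 5828), (nat_lit 8122), (nat_lit 8143), (nat_lit 7730), (nat_lit 7476)],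
  [(nat_lit 7993), (nat_lit 8636), (nat_lit 8252), (nat_lit 8258), (nat_lit 8758), (nat_lit 8778), (nat_lit 7748), (nat_lit 9027), (nat_lit 8512), (nat_lit 8133), (nat_lit 8124), (nat_lit 7611), (nat_lit 7747), (nat_lit 8508), (nat_lit 8510), (nat_lit 8272), (nat_lit 7749), (nat_lit 7743), (nat_lit 8380), (nat_lit 7229), (nat_lit 8506), (nat_lit 8137), (nat_lit 8003), (nat_lit 9155), (nat_lit 7739), (nat_lit 6969), (nat_lit 8256), (nat_lit 8511)],
  [(nat_lit 8245), (nat_lit 8136), (nat_lit 8382), (nat_lit 8514), (nat_lit 7356), (nat_lit 7363), (nat_lit 8252), (nat_lit 8769), (nat_lit 9022), (nat_lit 8643), (nat_lit 7992), (nat_lit 9025), (nat_lit 8006), (nat_lit 8252), (nat_lit 8514), (nat_lit 8773), (nat_lit 8268), (nat_lit 7491), (nat_lit 7864), (nat_lit 7877), (nat_lit 9020), (nat_lit 9288), (nat_lit 8501), (nat_lit 7362), (nat_lit 8004), (nat_lit 8774), (nat_lit 7485), (nat_lit 8255)],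
  [(nat_lit 6844), (nat_lit 8770), (nat_lit 7871), (nat_lit 8383), (nat_lit 7618), (nat_lit 8130), (nat_lit 8384), (nat_lit 8255), (nat_lit 8764), (nat_lit 8636), (nat_lit 7868), (nat_lit 8381), (nat_lit 8771), (nat_lit 8127), (nat_lit 8770), (nat_lit 8767), (nat_lit 9027), (nat_lit 8264), (nat_lit 7357), (nat_lit 8642), (nat_lit 8380), (nat_lit 9664), (nat_lit 7227), (nat_lit 7880), (nat_lit 8388), (nat_lit 9029), (nat_lit 7618), (nat_lit 7870)],
  [(nat_lit 8016), (nat_lit 9017), (nat_lit 8262), (nat_lit 7998), (nat_lit 8258), (nat_lit 8901), (nat_lit 8134), (nat_lit 8257), (nat_lit 7225), (nat_lit 7101), (nat_lit 7617), (nat_lit 7489), (nat_lit 8120), (nat_lit 8000), (nat_lit 9016), (nat_lit 8124), (nat_lit 8632), (nat_lit 9149), (nat_lit 8270), (nat_lit 8513), (nat_lit 7105), (nat_lit 8242), (nat_lit 7499), (nat_lit 9793), (nat_lit 8252), (nat_lit 8375), (nat_lit 8518), (nat_lit 8007)],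
  [(nat_lit 8256), (nat_lit 8771), (nat_lit 8002), (nat_lit 8387), (nat_lit 6590), (nat_lit 8512), (nat_lit 8903), (nat_lit 8384), (nat_lit 8120), (nat_lit 8131), (nat_lit 8250), (nat_lit 8007), (nat_lit 7997), (nat_lit 7869), (nat_lit 8766), (nat_lit 9277), (nat_lit 8645), (nat_lit 7874), (nat_lit 8001), (nat_lit 8272), (nat_lit 6982), (nat_lit 9281), (nat_lit 8121), (nat_lit 7485), (nat_lit 7619), (nat_lit 7751), (nat_lit 8000), (nat_lit 8004)],
  [(nat_lit 9667), (nat_lit 7609), (nat_lit 8388), (nat_lit 8645), (nat_lit 8006), (nat_lit 8881), (nat_lit 10560), (nat_lit 8002), (nat_lit 6854), (nat_lit 8649), (nat_lit 9151), (nat_lit 8271), (nat_lit 6970), (nat_lit 8003), (nat_lit 7358), (nat_lit 7994), (nat_lit 7484), (nat_lit 8124), (nat_lit 9409), (nat_lit 9542), (nat_lit 8284), (nat_lit 7233), (nat_lit 9156), (nat_lit 7097), (nat_lit 7875), (nat_lit 6862), (nat_lit 9401), (nat_lit 8771)],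
  [(nat_lit 8236), (nat_lit 7751), (nat_lit 7739), (nat_lit 8640), (nat_lit 8752), (nat_lit 7481), (nat_lit 7619), (nat_lit 7746), (nat_lit 10185), (nat_lit 9661), (nat_lit 10554), (nat_lit 8127), (nat_lit 8258), (nat_lit 9152), (nat_lit 8020), (nat_lit 8393), (nat_lit 7240), (nat_lit 6848), (nat_lit 8242), (nat_lit 7233), (nat_lit 9281), (nat_lit 8286), (nat_lit 9265), (nat_lit 6334), (nat_lit 7228), (nat_lit 6607), (nat_lit 7986), (nat_lit 8117)],
  [(nat_lit 8531), (nat_lit 7466), (nat_lit 8002), (nat_lit 7745), (nat_lit 9155), (nat_lit 10943), (nat_lit 9412), (nat_lit 9149), (nat_lit 6080), (nat_lit 7367), (nat_lit 6987), (nat_lit 6725), (nat_lit 7743), (nat_lit 7870), (nat_lit 7725), (nat_lit 8515), (nat_lit 7989), (nat_lit 9275), (nat_lit 9035), (nat_lit 8377), (nat_lit 7364), (nat_lit 7217), (nat_lit 8290), (nat_lit 11705), (nat_lit 8382), (nat_lit 6836), (nat_lit 9801), (nat_lit 8773)],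
  [(nat_lit 5821), (nat_lit 10562), (nat_lit 7999), (nat_lit 8508), (nat_lit 8516), (nat_lit 6864), (nat_lit 7614), (nat_lit 8393), (nat_lit 9141), (nat_lit 7989), (nat_lit 7472), (nat_lit 8501), (nat_lit 8126), (nat_lit 8638), (nat_lit 10692), (nat_lit 7363), (nat_lit 9154), (nat_lit 8648), (nat_lit 6721), (nat_lit 9021), (nat_lit 9401), (nat_lit 10174), (nat_lit 4793), (nat_lit 8288), (nat_lit 8895), (nat_lit 10684), (nat_lit 6596), (nat_lit 7362)],
  [(nat_lit 8640), (nat_lit 7488), (nat_lit 8639), (nat_lit 8001), (nat_lit 6856), (nat_lit 8124), (nat_lit 9661), (nat_lit 8640), (nat_lit 7997), (nat_lit 8132), (nat_lit 7358), (nat_lit 9030), (nat_lit 8005), (nat_lit 8126), (nat_lit 8378), (nat_lit 8763), (nat_lit 8516), (nat_lit 8132), (nat_lit 8252), (nat_lit 8899), (nat_lit 8643), (nat_lit 9276), (nat_lit 8126), (nat_lit 7615), (nat_lit 8270), (nat_lit 9545), (nat_lit 7874), (nat_lit 8257)],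
  [(nat_lit 7612), (nat_lit 6723), (nat_lit 7877), (nat_lit 8894), (nat_lit 6714), (nat_lit 7465), (nat_lit 10174), (nat_lit 7488), (nat_lit 9543), (nat_lit 9657), (nat_lit 9652), (nat_lit 8656), (nat_lit 7873), (nat_lit 8386), (nat_lit 8399), (nat_lit 9529), (nat_lit 7750), (nat_lit 7493), (nat_lit 8119), (nat_lit 8775), (nat_lit 9678), (nat_lit 9935), (nat_lit 9652), (nat_lit 5820), (nat_lit 6985), (nat_lit 8296), (nat_lit 7600), (nat_lit 7609)],
  [(nat_lit 8008), (nat_lit 9146), (nat_lit 8383), (nat_lit 7744), (nat_lit 7879), (nat_lit 9164), (nat_lit 8132), (nat_lit 8896), (nat_lit 7350), (nat_lit 7107), (nat_lit 6596), (nat_lit 7867), (nat_lit 8513), (nat_lit 7998), (nat_lit 8754), (nat_lit 8256), (nat_lit 9021), (nat_lit 8898), (nat_lit 8006), (nat_lit 8512), (nat_lit 7097), (nat_lit 8498), (nat_lit 6729), (nat_lit 9924), (nat_lit 8642), (nat_lit 8880), (nat_lit 8270), (nat_lit 8390)],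
  [(nat_lit 8906), (nat_lit 8765), (nat_lit 8644), (nat_lit 8002), (nat_lit 7619), (nat_lit 8262), (nat_lit 8769), (nat_lit 8772), (nat_lit 7352), (nat_lit 6980), (nat_lit 7228), (nat_lit 8260), (nat_lit 7485), (nat_lit 7998), (nat_lit 9012), (nat_lit 7999), (nat_lit 8255), (nat_lit 8638), (nat_lit 8519), (nat_lit 8516), (nat_lit 7747), (nat_lit 8373), (nat_lit 7749), (nat_lit 9154), (nat_lit 8257), (nat_lit 8889), (nat_lit 8134), (nat_lit 8266)]]
noncomputable def G1 : List (List Nat) := [[(nat_lit 8257), (nat_lit 8256), (nat_lit 8256), (nat_lit 8256), (nat_lit 8256), (nat_lit 8256), (nat_lit 8256), (nat_lit 8256), (nat_lit 8256), (nat_lit 8256), (nat_lit 8256), (nat_lit 8256), (nat_lit 8256), (nat_lit 8256), (nat_lit 8256), (nat_lit 8256), (nat_lit 8256), (nat_lit 8256), (nat_lit 8256), (nat_lit 8256), (nat_lit 8256), (nat_lit 8256), (nat_lit 8256), (nat_lit 8256), (nat_lit 8256), (nat_lit 8256), (nat_lit 8256), (nat_lit 8256)],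
  [(nat_lit 8256), (nat_lit 8257), (nat_lit 8256), (nat_lit 8256), (nat_lit 8256), (nat_lit 8256), (nat_lit 8256), (nat_lit 8256), (nat_lit 8256), (nat_lit 8256), (nat_lit 8256), (nat_lit 8256), (nat_lit 8256), (nat_lit 8256), (nat_lit 8256), (nat_lit 8256), (nat_lit 8256), (nat_lit 8256), (nat_lit 8256), (nat_lit 8256), (nat_lit 8256), (nat_lit 8256), (nat_lit 8256), (nat_lit 8256), (nat_lit 8256), (nat_lit 8256), (nat_lit 8256), (nat_lit 8256)],
  [(nat_lit 8256), (nat_lit 8256), (nat_lit 8257), (nat_lit 8256), (nat_lit 8256), (nat_lit 8256), (nat_lit 8256), (nat_lit 8256), (nat_lit 8256), (nat_lit 8256), (nat_lit 8256), (nat_lit 8256), (nat_lit 8256), (nat_lit 8256), (nat_lit 8256), (nat_lit 8256), (nat_lit 8256), (nat_lit 8256), (nat_lit 8256), (nat_lit 8256), (nat_lit 8256), (nat_lit 8256), (nat_lit 8256), (nat_lit 8256), (nat_lit 8256), (nat_lit 8256), (nat_lit 8256), (nat_lit 8256)],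
  [(nat_lit 8256), (nat_lit 8256), (nat_lit 8256), (nat_lit 8257), (nat_lit 8256), (nat_lit 8256), (nat_lit 8256), (nat_lit 8256), (nat_lit 8256), (nat_lit 8256), (nat_lit 8256), (nat_lit 8256), (nat_lit 8256), (nat_lit 8256), (nat_lit 8256), (nat_lit 8256), (nat_lit 8256), (nat_lit 8256), (nat_lit 8256), (nat_lit 8256), (nat_lit 8256), (nat_lit 8256), (nat_lit 8256), (nat_lit 8256), (nat_lit 8256), (nat_lit 8256), (nat_lit 8256), (nat_lit 8256)],
  [(nat_lit 8256), (nat_lit 8256), (nat_lit 8256), (nat_lit 8256), (nat_lit 8257), (nat_lit 8256), (nat_lit 8256), (nat_lit 8256), (nat_lit 8256), (nat_lit 8256), (nat_lit 8256), (nat_lit 8256), (nat_lit 8256), (nat_lit 8256), (nat_lit 8256), (nat_lit 8256), (nat_lit 8256), (nat_lit 8256), (nat_lit 8256), (nat_lit 8256), (nat_lit 8256), (nat_lit 8256), (nat_lit 8256), (nat_lit 8256), (nat_lit 8256), (nat_lit 8256), (nat_lit 8256), (nat_lit 8256)],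
  [(nat_lit 8256), (nat_lit 8256), (nat_lit 8256), (nat_lit 8256), (nat_lit 8256), (nat_lit 8257), (nat_lit 8256), (nat_lit 8256), (nat_lit 8256), (nat_lit 8256), (nat_lit 8256), (nat_lit 8256), (nat_lit 8256), (nat_lit 8256), (nat_lit 8256), (nat_lit 8256), (nat_lit 8256), (nat_lit 8256), (nat_lit 8256), (nat_lit 8256), (nat_lit 8256), (nat_lit 8256), (nat_lit 8256), (nat_lit 8256), (nat_lit 8256), (nat_lit 8256), (nat_lit 8256), (nat_lit 8256)],
  [(nat_lit 8256), (nat_lit 8256), (nat_lit 8256), (nat_lit 8256), (nat_lit 8256), (nat_lit 8256), (nat_lit 8257), (nat_lit 8256), (nat_lit 8256), (nat_lit 8256), (nat_lit 8256), (nat_lit 8256), (nat_lit 8256), (nat_lit 8256), (nat_lit 8256), (nat_lit 8256), (nat_lit 8256), (nat_lit 8256), (nat_lit 8256), (nat_lit 8256), (nat_lit 8256), (nat_lit 8256), (nat_lit 8256), (nat_lit 8256), (nat_lit 8256), (nat_lit 8256), (nat_lit 8256), (nat_lit 8256)],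
  [(nat_lit 8256), (nat_lit 8256), (nat_lit 8256), (nat_lit 8256), (nat_lit 8256), (nat_lit 8256), (nat_lit 8256), (nat_lit 8257), (nat_lit 8256), (nat_lit 8256), (nat_lit 8256), (nat_lit 8256), (nat_lit 8256), (nat_lit 8256), (nat_lit 8256), (nat_lit 8256), (nat_lit 8256), (nat_lit 8256), (nat_lit 8256), (nat_lit 8256), (nat_lit 8256), (nat_lit 8256), (nat_lit 8256), (nat_lit 8256), (nat_lit 8256), (nat_lit 8256), (nat_lit 8256), (nat_lit 8256)],
  [(nat_lit 8256), (nat_lit 8256), (nat_lit 8256), (nat_lit 8256), (nat_lit 8256), (nat_lit 8256), (nat_lit 8256), (nat_lit 8256), (nat_lit 8257), (nat_lit 8256), (nat_lit 8256), (nat_lit 8256), (nat_lit 8256), (nat_lit 8256), (nat_lit 8256), (nat_lit 8256), (nat_lit 8256), (nat_lit 8256), (nat_lit 8256), (nat_lit 8256), (nat_lit 8256), (nat_lit 8256), (nat_lit 8256), (nat_lit 8256), (nat_lit 8256), (nat_lit 8256), (nat_lit 8256), (nat_lit 8256)],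
  [(nat_lit 8256), (nat_lit 8256), (nat_lit 8256), (nat_lit 8256), (nat_lit 8256), (nat_lit 8256), (nat_lit 8256), (nat_lit 8256), (nat_lit 8256), (nat_lit 8257), (nat_lit 8256), (nat_lit 8256), (nat_lit 8256), (nat_lit 8256), (nat_lit 8256), (nat_lit 8256), (nat_lit 8256), (nat_lit 8256), (nat_lit 8256), (nat_lit 8256), (nat_lit 8256), (nat_lit 8256), (nat_lit 8256), (nat_lit 8256), (nat_lit 8256), (nat_lit 8256), (nat_lit 8256), (nat_lit 8256)],
  [(nat_lit 8256), (nat_lit 8256), (nat_lit 8256), (nat_lit 8256), (nat_lit 8256), (nat_lit 8256), (nat_lit 8256), (nat_lit 8256), (nat_lit 8256), (nat_lit 8256), (nat_lit 8257), (nat_lit 8256), (nat_lit 8256), (nat_lit 8256), (nat_lit 8256), (nat_lit 8256), (nat_lit 8256), (nat_lit 8256), (nat_lit 8256), (nat_lit 8256), (nat_lit 8256), (nat_lit 8256), (nat_lit 8256), (nat_lit 8256), (nat_lit 8256), (nat_lit 8256), (nat_lit 8256), (nat_lit 8256)],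
  [(nat_lit 8256), (nat_lit 8256), (nat_lit 8256), (nat_lit 8256), (nat_lit 8256), (nat_lit 8256), (nat_lit 8256), (nat_lit 8256), (nat_lit 8256), (nat_lit 8256), (nat_lit 8256), (nat_lit 8257), (nat_lit 8256), (nat_lit 8256), (nat_lit 8256), (nat_lit 8256), (nat_lit 8256), (nat_lit 8256), (nat_lit 8256), (nat_lit 8256), (nat_lit 8256), (nat_lit 8256), (nat_lit 8256), (nat_lit 8256), (nat_lit 8256), (nat_lit 8256), (nat_lit 8256), (nat_lit 8256)],
  [(nat_lit 8256), (nat_lit 8256), (nat_lit 8256), (nat_lit 8256), (nat_lit 8256), (nat_lit 8256), (nat_lit 8256), (nat_lit 8256), (nat_lit 8256), (nat_lit 8256), (nat_lit 8256), (nat_lit 8256), (nat_lit 8257), (nat_lit 8256), (nat_lit 8256), (nat_lit 8256), (nat_lit 8256), (nat_lit 8256), (nat_lit 8256), (nat_lit 8256), (nat_lit 8256), (nat_lit 8256), (nat_lit 8256), (nat_lit 8256), (nat_lit 8256), (nat_lit 8256), (nat_lit 8256), (nat_lit 8256)],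
  [(nat_lit 8256), (nat_lit 8256), (nat_lit 8256), (nat_lit 8256), (nat_lit 8256), (nat_lit 8256), (nat_lit 8256), (nat_lit 8256), (nat_lit 8256), (nat_lit 8256), (nat_lit 8256), (nat_lit 8256), (nat_lit 8256), (nat_lit 8257), (nat_lit 8256), (nat_lit 8256), (nat_lit 8256), (nat_lit 8256), (nat_lit 8256), (nat_lit 8256), (nat_lit 8256), (nat_lit 8256), (nat_lit 8256), (nat_lit 8256), (nat_lit 8256), (nat_lit 8256), (nat_lit 8256), (nat_lit 8256)],
  [(nat_lit 8256), (nat_lit 8256), (nat_lit 8256), (nat_lit 8256), (nat_lit 8256), (nat_lit 8256), (nat_lit 8256), (nat_lit 8256), (nat_lit 8256), (nat_lit 8256), (nat_lit 8256), (nat_lit 8256), (nat_lit 8256), (nat_lit 8256), (nat_lit 8257), (nat_lit 8256), (nat_lit 8256), (nat_lit 8256), (nat_lit 8256), (nat_lit 8256), (nat_lit 8256), (nat_lit 8256), (nat_lit 8256), (nat_lit 8256), (nat_lit 8256), (nat_lit 8256), (nat_lit 8256), (nat_lit 8256)],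
  [(nat_lit 8256), (nat_lit 8256), (nat_lit 8256), (nat_lit 8256), (nat_lit 8256), (nat_lit 8256), (nat_lit 8256), (nat_lit 8256), (nat_lit 8256), (nat_lit 8256), (nat_lit 8256), (nat_lit 8256), (nat_lit 8256), (nat_lit 8256), (nat_lit 8256), (nat_lit 8257), (nat_lit 8256), (nat_lit 8256), (nat_lit 8256), (nat_lit 8256), (nat_lit 8256), (nat_lit 8256), (nat_lit 8256), (nat_lit 8256), (nat_lit 8256), (nat_lit 8256), (nat_lit 8256), (nat_lit 8256)],
  [(nat_lit 8256), (nat_lit 8256), (nat_lit 8256), (nat_lit 8256), (nat_lit 8256), (nat_lit 8256), (nat_lit 8256), (nat_lit 8256), (nat_lit 8256), (nat_lit 8256), (nat_lit 8256), (nat_lit 8256), (nat_lit 8256), (nat_lit 8256), (nat_lit 8256), (nat_lit 8256), (nat_lit 8257), (nat_lit 8256), (nat_lit 8256), (nat_lit 8256), (nat_lit 8256), (nat_lit 8256), (nat_lit 8256), (nat_lit 8256), (nat_lit 8256), (nat_lit 8256), (nat_lit 8256), (nat_lit 8256)],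
  [(nat_lit 8256), (nat_lit 8256), (nat_lit 8256), (nat_lit 8256), (nat_lit 8256), (nat_lit 8256), (nat_lit 8256), (nat_lit 8256), (nat_lit 8256), (nat_lit 8256), (nat_lit 8256), (nat_lit 8256), (nat_lit 8256), (nat_lit 8256), (nat_lit 8256), (nat_lit 8256), (nat_lit 8256), (nat_lit 8257), (nat_lit 8256), (nat_lit 8256), (nat_lit 8256), (nat_lit 8256), (nat_lit 8256), (nat_lit 8256), (nat_lit 8256), (nat_lit 8256), (nat_lit 8256), (nat_lit 8256)],
  [(nat_lit 8256), (nat_lit 8256), (nat_lit 8256), (nat_lit 8256), (nat_lit 8256), (nat_lit 8256), (nat_lit 8256), (nat_lit 8256), (nat_lit 8256), (nat_lit 8256), (nat_lit 8256), (nat_lit 8256), (nat_lit 8256), (nat_lit 8256), (nat_lit 8256), (nat_lit 8256), (nat_lit 8256), (nat_lit 8256), (nat_lit 8257), (nat_lit 8256), (nat_lit 8256), (nat_lit 8256), (nat_lit 8256), (nat_lit 8256), (nat_lit 8256), (nat_lit 8256), (nat_lit 8256), (nat_lit 8256)],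
  [(nat_lit 8256), (nat_lit 8256), (nat_lit 8256), (nat_lit 8256), (nat_lit 8256), (nat_lit 8256), (nat_lit 8256), (nat_lit 8256), (nat_lit 8256), (nat_lit 8256), (nat_lit 8256), (nat_lit 8256), (nat_lit 8256), (nat_lit 8256), (nat_lit 8256), (nat_lit 8256), (nat_lit 8256), (nat_lit 8256), (nat_lit 8256), (nat_lit 8257), (nat_lit 8256), (nat_lit 8256), (nat_lit 8256), (nat_lit 8256), (nat_lit 8256), (nat_lit 8256), (nat_lit 8256), (nat_lit 8256)],
  [(nat_lit 8256), (nat_lit 8256), (nat_lit 8256), (nat_lit 8256), (nat_lit 8256), (nat_lit 8256), (nat_lit 8256), (nat_lit 8256), (nat_lit 8256), (nat_lit 8256), (nat_lit 8256), (nat_lit 8256), (nat_lit 8256), (nat_lit 8256), (nat_lit 8256), (nat_lit 8256), (nat_lit 8256), (nat_lit 8256), (nat_lit 8256), (nat_lit 8256), (nat_lit 8257), (nat_lit 8256), (nat_lit 8256), (nat_lit 8256), (nat_lit 8256), (nat_lit 8256), (nat_lit 8256), (nat_lit 8256)],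
  [(nat_lit 8256), (nat_lit 8256), (nat_lit 8256), (nat_lit 8256), (nat_lit 8256), (nat_lit 8256), (nat_lit 8256), (nat_lit 8256), (nat_lit 8256), (nat_lit 8256), (nat_lit 8256), (nat_lit 8256), (nat_lit 8256), (nat_lit 8256), (nat_lit 8256), (nat_lit 8256), (nat_lit 8256), (nat_lit 8256), (nat_lit 8256), (nat_lit 8256), (nat_lit 8256), (nat_lit 8257), (nat_lit 8256), (nat_lit 8256), (nat_lit 8256), (nat_lit 8256), (nat_lit 8256), (nat_lit 8256)],
  [(nat_lit 8256), (nat_lit 8256), (nat_lit 8256), (nat_lit 8256), (nat_lit 8256), (nat_lit 8256), (nat_lit 8256), (nat_lit 8256), (nat_lit 8256), (nat_lit 8256), (nat_lit 8256), (nat_lit 8256), (nat_lit 8256), (nat_lit 8256), (nat_lit 8256), (nat_lit 8256), (nat_lit 8256), (nat_lit 8256), (nat_lit 8256), (nat_lit 8256), (nat_lit 8256), (nat_lit 8256), (nat_lit 8257), (nat_lit 8256), (nat_lit 8256), (nat_lit 8256), (nat_lit 8256), (nat_lit 8256)],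
  [(nat_lit 8256), (nat_lit 8256), (nat_lit 8256), (nat_lit 8256), (nat_lit 8256), (nat_lit 8256), (nat_lit 8256), (nat_lit 8256), (nat_lit 8256), (nat_lit 8256), (nat_lit 8256), (nat_lit 8256), (nat_lit 8256), (nat_lit 8256), (nat_lit 8256), (nat_lit 8256), (nat_lit 8256), (nat_lit 8256), (nat_lit 8256), (nat_lit 8256), (nat_lit 8256), (nat_lit 8256), (nat_lit 8256), (nat_lit 8257), (nat_lit 8256), (nat_lit 8256), (nat_lit 8256), (nat_lit 8256)],
  [(nat_lit 8256), (nat_lit 8256), (nat_lit 8256), (nat_lit 8256), (nat_lit 8256), (nat_lit 8256), (nat_lit 8256), (nat_lit 8256), (nat_lit 8256), (nat_lit 8256), (nat_lit 8256), (nat_lit 8256), (nat_lit 8256), (nat_lit 8256), (nat_lit 8256), (nat_lit 8256), (nat_lit 8256), (nat_lit 8256), (nat_lit 8256), (nat_lit 8256), (nat_lit 8256), (nat_lit 8256), (nat_lit 8256), (nat_lit 8256), (nat_lit 8257), (nat_lit 8256), (nat_lit 8256), (nat_lit 8256)],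
  [(nat_lit 8256), (nat_lit 8256), (nat_lit 8256), (nat_lit 8256), (nat_lit 8256), (nat_lit 8256), (nat_lit 8256), (nat_lit 8256), (nat_lit 8256), (nat_lit 8256), (nat_lit 8256), (nat_lit 8256), (nat_lit 8256), (nat_lit 8256), (nat_lit 8256), (nat_lit 8256), (nat_lit 8256), (nat_lit 8256), (nat_lit 8256), (nat_lit 8256), (nat_lit 8256), (nat_lit 8256), (nat_lit 8256), (nat_lit 8256), (nat_lit 8256), (nat_lit 8257), (nat_lit 8256), (nat_lit 8256)],
  [(nat_lit 8256), (nat_lit 8256), (nat_lit 8256), (nat_lit 8256), (nat_lit 8256), (nat_lit 8256), (nat_lit 8256), (nat_lit 8256), (nat_lit 8256), (nat_lit 8256), (nat_lit 8256), (nat_lit 8256), (nat_lit 8256), (nat_lit 8256), (nat_lit 8256), (nat_lit 8256), (nat_lit 8256), (nat_lit 8256), (nat_lit 8256), (nat_lit 8256), (nat_lit 8256), (nat_lit 8256), (nat_lit 8256), (nat_lit 8256), (nat_lit 8256), (nat_lit 8256), (nat_lit 8257), (nat_lit 8256)],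
  [(nat_lit 8256), (nat_lit 8256), (nat_lit 8256), (nat_lit 8256), (nat_lit 8256), (nat_lit 8256), (nat_lit 8256), (nat_lit 8256), (nat_lit 8256), (nat_lit 8256), (nat_lit 8256), (nat_lit 8256), (nat_lit 8256), (nat_lit 8256), (nat_lit 8256), (nat_lit 8256), (nat_lit 8256), (nat_lit 8256), (nat_lit 8256), (nat_lit 8256), (nat_lit 8256), (nat_lit 8256), (nat_lit 8256), (nat_lit 8256), (nat_lit 8256), (nat_lit 8256), (nat_lit 8256), (nat_lit 8257)]]
noncomputable def Tt : List (List Nat) := [[(nat_lit 8260), (nat_lit 8128), (nat_lit 8128), (nat_lit 8128), (nat_lit 8128), (nat_lit 8257), (nat_lit 8257), (nat_lit 8257), (nat_lit 8257), (nat_lit 8257), (nat_lit 8257), (nat_lit 8257), (nat_lit 8257), (nat_lit 8257), (nat_lit 8257), (nat_lit 8257), (nat_lit 8257), (nat_lit 8257), (nat_lit 8257), (nat_lit 8257)],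
  [(nat_lit 8256), (nat_lit 8257), (nat_lit 8257), (nat_lit 8255), (nat_lit 8255), (nat_lit 8257), (nat_lit 8257), (nat_lit 8257), (nat_lit 8257), (nat_lit 8257), (nat_lit 8257), (nat_lit 8257), (nat_lit 8255), (nat_lit 8255), (nat_lit 8255), (nat_lit 8255), (nat_lit 8255), (nat_lit 8255), (nat_lit 8255), (nat_lit 8255)],
  [(nat_lit 8256), (nat_lit 8257), (nat_lit 8255), (nat_lit 8257), (nat_lit 8255), (nat_lit 8257), (nat_lit 8257), (nat_lit 8257), (nat_lit 8255), (nat_lit 8255), (nat_lit 8255), (nat_lit 8255), (nat_lit 8257), (nat_lit 8257), (nat_lit 8257), (nat_lit 8257), (nat_lit 8255), (nat_lit 8255), (nat_lit 8255), (nat_lit 8255)],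
  [(nat_lit 8256), (nat_lit 8257), (nat_lit 8255), (nat_lit 8255), (nat_lit 8257), (nat_lit 8257), (nat_lit 8257), (nat_lit 8257), (nat_lit 8255), (nat_lit 8255), (nat_lit 8255), (nat_lit 8255), (nat_lit 8255), (nat_lit 8255), (nat_lit 8255), (nat_lit 8255), (nat_lit 8257), (nat_lit 8257), (nat_lit 8257), (nat_lit 8257)],
  [(nat_lit 8256), (nat_lit 8256), (nat_lit 8256), (nat_lit 8256), (nat_lit 8256), (nat_lit 8257), (nat_lit 8256), (nat_lit 8256), (nat_lit 8256), (nat_lit 8256), (nat_lit 8257), (nat_lit 8128), (nat_lit 8128), (nat_lit 8255), (nat_lit 8256), (nat_lit 8256), (nat_lit 8256), (nat_lit 8256), (nat_lit 8128), (nat_lit 8257)],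
  [(nat_lit 8256), (nat_lit 8256), (nat_lit 8256), (nat_lit 8256), (nat_lit 8256), (nat_lit 8256), (nat_lit 8255), (nat_lit 8384), (nat_lit 8257), (nat_lit 8128), (nat_lit 8256), (nat_lit 8256), (nat_lit 8256), (nat_lit 8256), (nat_lit 8384), (nat_lit 8257), (nat_lit 8384), (nat_lit 8255), (nat_lit 8256), (nat_lit 8256)],
  [(nat_lit 8256), (nat_lit 8256), (nat_lit 8256), (nat_lit 8256), (nat_lit 8256), (nat_lit 8256), (nat_lit 8384), (nat_lit 8255), (nat_lit 8384), (nat_lit 8255), (nat_lit 8256), (nat_lit 8256), (nat_lit 8256), (nat_lit 8256), (nat_lit 8255), (nat_lit 8128), (nat_lit 8257), (nat_lit 8128), (nat_lit 8256), (nat_lit 8256)],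
  [(nat_lit 8256), (nat_lit 8256), (nat_lit 8256), (nat_lit 8256), (nat_lit 8256), (nat_lit 8255), (nat_lit 8256), (nat_lit 8256), (nat_lit 8256), (nat_lit 8256), (nat_lit 8257), (nat_lit 8384), (nat_lit 8128), (nat_lit 8257), (nat_lit 8256), (nat_lit 8256), (nat_lit 8256), (nat_lit 8256), (nat_lit 8384), (nat_lit 8257)],
  [(nat_lit 8256), (nat_lit 8256), (nat_lit 8256), (nat_lit 8256), (nat_lit 8256), (nat_lit 8257), (nat_lit 8256), (nat_lit 8256), (nat_lit 8256), (nat_lit 8256), (nat_lit 8128), (nat_lit 8257), (nat_lit 8256), (nat_lit 8256), (nat_lit 8257), (nat_lit 8128), (nat_lit 8128), (nat_lit 8255), (nat_lit 8256), (nat_lit 8256)],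
  [(nat_lit 8256), (nat_lit 8256), (nat_lit 8256), (nat_lit 8256), (nat_lit 8256), (nat_lit 8255), (nat_lit 8256), (nat_lit 8256), (nat_lit 8256), (nat_lit 8256), (nat_lit 8384), (nat_lit 8257), (nat_lit 8256), (nat_lit 8256), (nat_lit 8257), (nat_lit 8384), (nat_lit 8128), (nat_lit 8257), (nat_lit 8256), (nat_lit 8256)],
  [(nat_lit 8256), (nat_lit 8256), (nat_lit 8256), (nat_lit 8256), (nat_lit 8256), (nat_lit 8256), (nat_lit 8255), (nat_lit 8384), (nat_lit 8384), (nat_lit 8255), (nat_lit 8256), (nat_lit 8256), (nat_lit 8257), (nat_lit 8128), (nat_lit 8256), (nat_lit 8256), (nat_lit 8256), (nat_lit 8256), (nat_lit 8384), (nat_lit 8257)],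
  [(nat_lit 8256), (nat_lit 8256), (nat_lit 8256), (nat_lit 8256), (nat_lit 8256), (nat_lit 8256), (nat_lit 8384), (nat_lit 8255), (nat_lit 8257), (nat_lit 8128), (nat_lit 8256), (nat_lit 8256), (nat_lit 8384), (nat_lit 8255), (nat_lit 8256), (nat_lit 8256), (nat_lit 8256), (nat_lit 8256), (nat_lit 8255), (nat_lit 8128)],
  [(nat_lit 8256), (nat_lit 8257), (nat_lit 8257), (nat_lit 8257), (nat_lit 8257), (nat_lit 8256), (nat_lit 8255), (nat_lit 8384), (nat_lit 8255), (nat_lit 8384), (nat_lit 8256), (nat_lit 8256), (nat_lit 8256), (nat_lit 8256), (nat_lit 8384), (nat_lit 8257), (nat_lit 8128), (nat_lit 8255), (nat_lit 8256), (nat_lit 8256)],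
  [(nat_lit 8256), (nat_lit 8257), (nat_lit 8255), (nat_lit 8257), (nat_lit 8255), (nat_lit 8256), (nat_lit 8384), (nat_lit 8255), (nat_lit 8128), (nat_lit 8257), (nat_lit 8256), (nat_lit 8256), (nat_lit 8256), (nat_lit 8256), (nat_lit 8255), (nat_lit 8128), (nat_lit 8255), (nat_lit 8128), (nat_lit 8256), (nat_lit 8256)],
  [(nat_lit 8256), (nat_lit 8384), (nat_lit 8384), (nat_lit 8128), (nat_lit 8128), (nat_lit 8255), (nat_lit 8256), (nat_lit 8256), (nat_lit 8256), (nat_lit 8256), (nat_lit 8257), (nat_lit 8384), (nat_lit 8128), (nat_lit 8257), (nat_lit 8256), (nat_lit 8256), (nat_lit 8256), (nat_lit 8256), (nat_lit 8128), (nat_lit 8257)],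
  [(nat_lit 8256), (nat_lit 8255), (nat_lit 8257), (nat_lit 8257), (nat_lit 8255), (nat_lit 8257), (nat_lit 8256), (nat_lit 8256), (nat_lit 8256), (nat_lit 8256), (nat_lit 8257), (nat_lit 8128), (nat_lit 8128), (nat_lit 8255), (nat_lit 8256), (nat_lit 8256), (nat_lit 8256), (nat_lit 8256), (nat_lit 8384), (nat_lit 8257)],
  [(nat_lit 8256), (nat_lit 8256), (nat_lit 8256), (nat_lit 8256), (nat_lit 8256), (nat_lit 8257), (nat_lit 8256), (nat_lit 8256), (nat_lit 8128), (nat_lit 8255), (nat_lit 8256), (nat_lit 8256), (nat_lit 8256), (nat_lit 8256), (nat_lit 8128), (nat_lit 8257), (nat_lit 8256), (nat_lit 8256), (nat_lit 8257), (nat_lit 8128)],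
  [(nat_lit 8256), (nat_lit 8256), (nat_lit 8256), (nat_lit 8256), (nat_lit 8256), (nat_lit 8256), (nat_lit 8384), (nat_lit 8255), (nat_lit 8256), (nat_lit 8256), (nat_lit 8255), (nat_lit 8128), (nat_lit 8257), (nat_lit 8128), (nat_lit 8256), (nat_lit 8256), (nat_lit 8384), (nat_lit 8255), (nat_lit 8256), (nat_lit 8256)],
  [(nat_lit 8256), (nat_lit 8256), (nat_lit 8256), (nat_lit 8256), (nat_lit 8256), (nat_lit 8255), (nat_lit 8256), (nat_lit 8256), (nat_lit 8128), (nat_lit 8257), (nat_lit 8256), (nat_lit 8256), (nat_lit 8256), (nat_lit 8256), (nat_lit 8384), (nat_lit 8257), (nat_lit 8256), (nat_lit 8256), (nat_lit 8257), (nat_lit 8384)],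
  [(nat_lit 8256), (nat_lit 8256), (nat_lit 8256), (nat_lit 8256), (nat_lit 8256), (nat_lit 8256), (nat_lit 8255), (nat_lit 8384), (nat_lit 8256), (nat_lit 8256), (nat_lit 8384), (nat_lit 8257), (nat_lit 8384), (nat_lit 8255), (nat_lit 8256), (nat_lit 8256), (nat_lit 8257), (nat_lit 8128), (nat_lit 8256), (nat_lit 8256)],
  [(nat_lit 8256), (nat_lit 8257), (nat_lit 8257), (nat_lit 8257), (nat_lit 8257), (nat_lit 8256), (nat_lit 8255), (nat_lit 8384), (nat_lit 8256), (nat_lit 8256), (nat_lit 8384), (nat_lit 8257), (nat_lit 8128), (nat_lit 8255), (nat_lit 8256), (nat_lit 8256), (nat_lit 8255), (nat_lit 8384), (nat_lit 8256), (nat_lit 8256)],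
  [(nat_lit 8256), (nat_lit 8384), (nat_lit 8128), (nat_lit 8128), (nat_lit 8384), (nat_lit 8255), (nat_lit 8256), (nat_lit 8256), (nat_lit 8128), (nat_lit 8257), (nat_lit 8256), (nat_lit 8256), (nat_lit 8256), (nat_lit 8256), (nat_lit 8128), (nat_lit 8257), (nat_lit 8256), (nat_lit 8256), (nat_lit 8257), (nat_lit 8384)],
  [(nat_lit 8256), (nat_lit 8255), (nat_lit 8257), (nat_lit 8255), (nat_lit 8257), (nat_lit 8257), (nat_lit 8256), (nat_lit 8256), (nat_lit 8128), (nat_lit 8255), (nat_lit 8256), (nat_lit 8256), (nat_lit 8256), (nat_lit 8256), (nat_lit 8384), (nat_lit 8257), (nat_lit 8256), (nat_lit 8256), (nat_lit 8257), (nat_lit 8128)],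
  [(nat_lit 8256), (nat_lit 8257), (nat_lit 8257), (nat_lit 8255), (nat_lit 8255), (nat_lit 8256), (nat_lit 8384), (nat_lit 8255), (nat_lit 8256), (nat_lit 8256), (nat_lit 8255), (nat_lit 8128), (nat_lit 8255), (nat_lit 8128), (nat_lit 8256), (nat_lit 8256), (nat_lit 8128), (nat_lit 8257), (nat_lit 8256), (nat_lit 8256)],
  [(nat_lit 8256), (nat_lit 8257), (nat_lit 8257), (nat_lit 8257), (nat_lit 8257), (nat_lit 8256), (nat_lit 8255), (nat_lit 8384), (nat_lit 8128), (nat_lit 8255), (nat_lit 8256), (nat_lit 8256), (nat_lit 8255), (nat_lit 8384), (nat_lit 8256), (nat_lit 8256), (nat_lit 8256), (nat_lit 8256), (nat_lit 8384), (nat_lit 8257)],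
  [(nat_lit 8256), (nat_lit 8255), (nat_lit 8255), (nat_lit 8257), (nat_lit 8257), (nat_lit 8257), (nat_lit 8256), (nat_lit 8256), (nat_lit 8256), (nat_lit 8256), (nat_lit 8384), (nat_lit 8257), (nat_lit 8256), (nat_lit 8256), (nat_lit 8257), (nat_lit 8128), (nat_lit 8128), (nat_lit 8255), (nat_lit 8256), (nat_lit 8256)],
  [(nat_lit 8256), (nat_lit 8257), (nat_lit 8255), (nat_lit 8255), (nat_lit 8257), (nat_lit 8256), (nat_lit 8384), (nat_lit 8255), (nat_lit 8255), (nat_lit 8128), (nat_lit 8256), (nat_lit 8256), (nat_lit 8128), (nat_lit 8257), (nat_lit 8256), (nat_lit 8256), (nat_lit 8256), (nat_lit 8256), (nat_lit 8255), (nat_lit 8128)],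
  [(nat_lit 8256), (nat_lit 8384), (nat_lit 8128), (nat_lit 8384), (nat_lit 8128), (nat_lit 8255), (nat_lit 8256), (nat_lit 8256), (nat_lit 8256), (nat_lit 8256), (nat_lit 8128), (nat_lit 8257), (nat_lit 8256), (nat_lit 8256), (nat_lit 8257), (nat_lit 8384), (nat_lit 8128), (nat_lit 8257), (nat_lit 8256), (nat_lit 8256)]]
noncomputable def Ct : List (List Nat) := [[(nat_lit 8257), (nat_lit 8256), (nat_lit 8256), (nat_lit 8129), (nat_lit 8256), (nat_lit 8256), (nat_lit 8255), (nat_lit 8128), (nat_lit 8001), (nat_lit 8256), (nat_lit 8385), (nat_lit 8257), (nat_lit 8383), (nat_lit 8513), (nat_lit 8256), (nat_lit 8258), (nat_lit 8256), (nat_lit 8001), (nat_lit 8001), (nat_lit 8256)],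
  [(nat_lit 8256), (nat_lit 8257), (nat_lit 8256), (nat_lit 8385), (nat_lit 8256), (nat_lit 8256), (nat_lit 8257), (nat_lit 8385), (nat_lit 8255), (nat_lit 8256), (nat_lit 8255), (nat_lit 8254), (nat_lit 8128), (nat_lit 8255), (nat_lit 8256), (nat_lit 8126), (nat_lit 8256), (nat_lit 8512), (nat_lit 8256), (nat_lit 8385)],
  [(nat_lit 8256), (nat_lit 8256), (nat_lit 8257), (nat_lit 8128), (nat_lit 8256), (nat_lit 8256), (nat_lit 8255), (nat_lit 8256), (nat_lit 8256), (nat_lit 8256), (nat_lit 8256), (nat_lit 8256), (nat_lit 8383), (nat_lit 8256), (nat_lit 8256), (nat_lit 8128), (nat_lit 8256), (nat_lit 8256), (nat_lit 8128), (nat_lit 8257)],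
  [(nat_lit 8256), (nat_lit 8256), (nat_lit 8256), (nat_lit 8256), (nat_lit 8256), (nat_lit 8256), (nat_lit 8385), (nat_lit 8256), (nat_lit 8257), (nat_lit 8256), (nat_lit 8255), (nat_lit 8255), (nat_lit 8256), (nat_lit 8255), (nat_lit 8256), (nat_lit 8256), (nat_lit 8256), (nat_lit 8384), (nat_lit 8256), (nat_lit 8127)],
  [(nat_lit 8256), (nat_lit 8256), (nat_lit 8256), (nat_lit 8385), (nat_lit 8257), (nat_lit 8256), (nat_lit 8383), (nat_lit 8385), (nat_lit 8257), (nat_lit 8256), (nat_lit 8129), (nat_lit 8256), (nat_lit 8127), (nat_lit 8255), (nat_lit 8256), (nat_lit 8257), (nat_lit 8256), (nat_lit 8255), (nat_lit 8385), (nat_lit 8128)],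
  [(nat_lit 8256), (nat_lit 8256), (nat_lit 8256), (nat_lit 8383), (nat_lit 8256), (nat_lit 8257), (nat_lit 8257), (nat_lit 8384), (nat_lit 7999), (nat_lit 8256), (nat_lit 8256), (nat_lit 8001), (nat_lit 8256), (nat_lit 8255), (nat_lit 8256), (nat_lit 8002), (nat_lit 8256), (nat_lit 8255), (nat_lit 8129), (nat_lit 8381)],
  [(nat_lit 8256), (nat_lit 8256), (nat_lit 8256), (nat_lit 8127), (nat_lit 8256), (nat_lit 8256), (nat_lit 8130), (nat_lit 8255), (nat_lit 8128), (nat_lit 8256), (nat_lit 8255), (nat_lit 8384), (nat_lit 8384), (nat_lit 8257), (nat_lit 8256), (nat_lit 8256), (nat_lit 8256), (nat_lit 8256), (nat_lit 8384), (nat_lit 8383)],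
  [(nat_lit 8256), (nat_lit 8256), (nat_lit 8256), (nat_lit 8256), (nat_lit 8256), (nat_lit 8256), (nat_lit 8257), (nat_lit 8128), (nat_lit 8255), (nat_lit 8256), (nat_lit 8256), (nat_lit 8127), (nat_lit 8256), (nat_lit 8385), (nat_lit 8256), (nat_lit 8128), (nat_lit 8256), (nat_lit 8256), (nat_lit 8127), (nat_lit 8511)],
  [(nat_lit 8256), (nat_lit 8256), (nat_lit 8256), (nat_lit 8256), (nat_lit 8256), (nat_lit 8256), (nat_lit 8127), (nat_lit 8256), (nat_lit 8512), (nat_lit 8256), (nat_lit 8257), (nat_lit 8383), (nat_lit 8000), (nat_lit 8128), (nat_lit 8256), (nat_lit 8512), (nat_lit 8256), (nat_lit 8257), (nat_lit 8384), (nat_lit 8131)],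
  [(nat_lit 8256), (nat_lit 8256), (nat_lit 8256), (nat_lit 8256), (nat_lit 8256), (nat_lit 8256), (nat_lit 8385), (nat_lit 8256), (nat_lit 8258), (nat_lit 8257), (nat_lit 8255), (nat_lit 8256), (nat_lit 8127), (nat_lit 8254), (nat_lit 8256), (nat_lit 8385), (nat_lit 8256), (nat_lit 8384), (nat_lit 8257), (nat_lit 7998)],
  [(nat_lit 8256), (nat_lit 8256), (nat_lit 8256), (nat_lit 8256), (nat_lit 8256), (nat_lit 8256), (nat_lit 8127), (nat_lit 8384), (nat_lit 8258), (nat_lit 8256), (nat_lit 8384), (nat_lit 8513), (nat_lit 8128), (nat_lit 8127), (nat_lit 8256), (nat_lit 8641), (nat_lit 8256), (nat_lit 8257), (nat_lit 8514), (nat_lit 8001)],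
  [(nat_lit 8256), (nat_lit 8256), (nat_lit 8256), (nat_lit 8129), (nat_lit 8256), (nat_lit 8256), (nat_lit 8384), (nat_lit 8128), (nat_lit 8257), (nat_lit 8256), (nat_lit 8127), (nat_lit 8256), (nat_lit 8383), (nat_lit 8384), (nat_lit 8256), (nat_lit 8255), (nat_lit 8256), (nat_lit 8256), (nat_lit 8128), (nat_lit 8128)],
  [(nat_lit 8256), (nat_lit 8256), (nat_lit 8256), (nat_lit 8256), (nat_lit 8256), (nat_lit 8256), (nat_lit 8255), (nat_lit 8257), (nat_lit 8256), (nat_lit 8256), (nat_lit 8257), (nat_lit 8257), (nat_lit 8128), (nat_lit 8255), (nat_lit 8256), (nat_lit 8385), (nat_lit 8256), (nat_lit 8257), (nat_lit 8257), (nat_lit 8128)],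
  [(nat_lit 8256), (nat_lit 8256), (nat_lit 8256), (nat_lit 8256), (nat_lit 8256), (nat_lit 8256), (nat_lit 8255), (nat_lit 8256), (nat_lit 8385), (nat_lit 8256), (nat_lit 8257), (nat_lit 8256), (nat_lit 8128), (nat_lit 8128), (nat_lit 8256), (nat_lit 8384), (nat_lit 8256), (nat_lit 8256), (nat_lit 8384), (nat_lit 8258)],
  [(nat_lit 8256), (nat_lit 8256), (nat_lit 8256), (nat_lit 8256), (nat_lit 8256), (nat_lit 8256), (nat_lit 8128), (nat_lit 8255), (nat_lit 8510), (nat_lit 8256), (nat_lit 8255), (nat_lit 8255), (nat_lit 8258), (nat_lit 8002), (nat_lit 8257), (nat_lit 8253), (nat_lit 8256), (nat_lit 8383), (nat_lit 8382), (nat_lit 8515)],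
  [(nat_lit 8256), (nat_lit 8256), (nat_lit 8256), (nat_lit 8255), (nat_lit 8256), (nat_lit 8256), (nat_lit 8257), (nat_lit 8255), (nat_lit 8255), (nat_lit 8256), (nat_lit 8384), (nat_lit 8128), (nat_lit 8257), (nat_lit 8256), (nat_lit 8256), (nat_lit 8257), (nat_lit 8256), (nat_lit 8256), (nat_lit 8127), (nat_lit 8254)],
  [(nat_lit 8256), (nat_lit 8256), (nat_lit 8256), (nat_lit 8256), (nat_lit 8256), (nat_lit 8256), (nat_lit 8385), (nat_lit 8256), (nat_lit 8255), (nat_lit 8256), (nat_lit 8255), (nat_lit 8128), (nat_lit 8256), (nat_lit 8255), (nat_lit 8256), (nat_lit 8127), (nat_lit 8257), (nat_lit 8384), (nat_lit 8128), (nat_lit 8255)],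
  [(nat_lit 8256), (nat_lit 8256), (nat_lit 8256), (nat_lit 8256), (nat_lit 8256), (nat_lit 8256), (nat_lit 8384), (nat_lit 8256), (nat_lit 8256), (nat_lit 8256), (nat_lit 8257), (nat_lit 8256), (nat_lit 8257), (nat_lit 8256), (nat_lit 8256), (nat_lit 8128), (nat_lit 8256), (nat_lit 8255), (nat_lit 8255), (nat_lit 8256)],
  [(nat_lit 8256), (nat_lit 8256), (nat_lit 8256), (nat_lit 8256), (nat_lit 8256), (nat_lit 8256), (nat_lit 8255), (nat_lit 8256), (nat_lit 8128), (nat_lit 8256), (nat_lit 8256), (nat_lit 8257), (nat_lit 8383), (nat_lit 8256), (nat_lit 8256), (nat_lit 8129), (nat_lit 8256), (nat_lit 8128), (nat_lit 8129), (nat_lit 8256)],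
  [(nat_lit 8256), (nat_lit 8256), (nat_lit 8256), (nat_lit 8256), (nat_lit 8256), (nat_lit 8256), (nat_lit 8513), (nat_lit 8256), (nat_lit 8129), (nat_lit 8256), (nat_lit 8126), (nat_lit 8128), (nat_lit 8384), (nat_lit 8255), (nat_lit 8256), (nat_lit 8127), (nat_lit 8256), (nat_lit 8383), (nat_lit 8257), (nat_lit 8127)],
  [(nat_lit 8256), (nat_lit 8256), (nat_lit 8256), (nat_lit 8256), (nat_lit 8256), (nat_lit 8256), (nat_lit 8512), (nat_lit 8127), (nat_lit 8514), (nat_lit 8256), (nat_lit 7999), (nat_lit 8255), (nat_lit 8255), (nat_lit 8128), (nat_lit 8256), (nat_lit 8255), (nat_lit 8256), (nat_lit 8255), (nat_lit 8383), (nat_lit 8001)],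
  [(nat_lit 8256), (nat_lit 8256), (nat_lit 8256), (nat_lit 8255), (nat_lit 8256), (nat_lit 8256), (nat_lit 8129), (nat_lit 8127), (nat_lit 8511), (nat_lit 8256), (nat_lit 8255), (nat_lit 8256), (nat_lit 8258), (nat_lit 8129), (nat_lit 8256), (nat_lit 8381), (nat_lit 8256), (nat_lit 8384), (nat_lit 8382), (nat_lit 8385)],
  [(nat_lit 8256), (nat_lit 8256), (nat_lit 8256), (nat_lit 8127), (nat_lit 8256), (nat_lit 8256), (nat_lit 8255), (nat_lit 8256), (nat_lit 8129), (nat_lit 8256), (nat_lit 8385), (nat_lit 8386), (nat_lit 8383), (nat_lit 8384), (nat_lit 8256), (nat_lit 8386), (nat_lit 8256), (nat_lit 8001), (nat_lit 8128), (nat_lit 7998)],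
  [(nat_lit 8256), (nat_lit 8256), (nat_lit 8256), (nat_lit 8383), (nat_lit 8256), (nat_lit 8256), (nat_lit 8512), (nat_lit 8256), (nat_lit 8254), (nat_lit 8256), (nat_lit 8130), (nat_lit 7872), (nat_lit 8257), (nat_lit 8257), (nat_lit 8256), (nat_lit 7872), (nat_lit 8256), (nat_lit 8126), (nat_lit 8126), (nat_lit 8511)],
  [(nat_lit 8256), (nat_lit 8256), (nat_lit 8256), (nat_lit 8257), (nat_lit 8256), (nat_lit 8256), (nat_lit 8257), (nat_lit 8129), (nat_lit 8256), (nat_lit 8256), (nat_lit 8128), (nat_lit 8384), (nat_lit 8255), (nat_lit 8384), (nat_lit 8256), (nat_lit 8256), (nat_lit 8256), (nat_lit 8256), (nat_lit 8256), (nat_lit 8255)],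
  [(nat_lit 8256), (nat_lit 8256), (nat_lit 8256), (nat_lit 8001), (nat_lit 8256), (nat_lit 8256), (nat_lit 8384), (nat_lit 8000), (nat_lit 8511), (nat_lit 8256), (nat_lit 8000), (nat_lit 8255), (nat_lit 8384), (nat_lit 8258), (nat_lit 8256), (nat_lit 8253), (nat_lit 8256), (nat_lit 8255), (nat_lit 8254), (nat_lit 8259)],
  [(nat_lit 8256), (nat_lit 8256), (nat_lit 8256), (nat_lit 8256), (nat_lit 8256), (nat_lit 8256), (nat_lit 8256), (nat_lit 8385), (nat_lit 8001), (nat_lit 8256), (nat_lit 8385), (nat_lit 8257), (nat_lit 8256), (nat_lit 8383), (nat_lit 8256), (nat_lit 8258), (nat_lit 8256), (nat_lit 8256), (nat_lit 8257), (nat_lit 8254)],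
  [(nat_lit 8256), (nat_lit 8256), (nat_lit 8256), (nat_lit 8256), (nat_lit 8256), (nat_lit 8256), (nat_lit 8384), (nat_lit 8257), (nat_lit 8129), (nat_lit 8256), (nat_lit 8256), (nat_lit 8128), (nat_lit 8255), (nat_lit 8383), (nat_lit 8256), (nat_lit 8129), (nat_lit 8256), (nat_lit 8256), (nat_lit 8129), (nat_lit 8255)]]
noncomputable def Qj : List (List Nat) := [[(nat_lit 8256), (nat_lit 8384), (nat_lit 8384), (nat_lit 8256), (nat_lit 8128), (nat_lit 8384), (nat_lit 8128), (nat_lit 8256), (nat_lit 8256), (nat_lit 8384), (nat_lit 8256), (nat_lit 8128), (nat_lit 8128), (nat_lit 8384), (nat_lit 8128), (nat_lit 8128), (nat_lit 8128), (nat_lit 8256), (nat_lit 8255), (nat_lit 8384), (nat_lit 8128), (nat_lit 8384), (nat_lit 8384), (nat_lit 8384), (nat_lit 8384), (nat_lit 8384), (nat_lit 8255), (nat_lit 8128)],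
  [(nat_lit 8768), (nat_lit 8257), (nat_lit 8257), (nat_lit 8384), (nat_lit 8257), (nat_lit 8384), (nat_lit 8257), (nat_lit 8128), (nat_lit 8255), (nat_lit 8384), (nat_lit 8255), (nat_lit 8128), (nat_lit 8384), (nat_lit 8128), (nat_lit 8384), (nat_lit 8257), (nat_lit 8384), (nat_lit 8257), (nat_lit 8255), (nat_lit 8255), (nat_lit 8255), (nat_lit 8255), (nat_lit 8257), (nat_lit 8257), (nat_lit 8255), (nat_lit 8257), (nat_lit 8255), (nat_lit 8255)],
  [(nat_lit 8256), (nat_lit 8257), (nat_lit 8255), (nat_lit 8257), (nat_lit 8257), (nat_lit 8257), (nat_lit 8257), (nat_lit 8256), (nat_lit 8384), (nat_lit 8255), (nat_lit 8128), (nat_lit 8255), (nat_lit 8256), (nat_lit 8256), (nat_lit 8255), (nat_lit 8255), (nat_lit 8257), (nat_lit 8384), (nat_lit 8256), (nat_lit 8255), (nat_lit 8257), (nat_lit 8257), (nat_lit 8257), (nat_lit 8255), (nat_lit 8255), (nat_lit 8257), (nat_lit 8255), (nat_lit 8257)],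
  [(nat_lit 8256), (nat_lit 8255), (nat_lit 8257), (nat_lit 8256), (nat_lit 8257), (nat_lit 8255), (nat_lit 8257), (nat_lit 8255), (nat_lit 8256), (nat_lit 8257), (nat_lit 8256), (nat_lit 8257), (nat_lit 8256), (nat_lit 8256), (nat_lit 8255), (nat_lit 8255), (nat_lit 8257), (nat_lit 8256), (nat_lit 8256), (nat_lit 8255), (nat_lit 8255), (nat_lit 8257), (nat_lit 8255), (nat_lit 8257), (nat_lit 8255), (nat_lit 8255), (nat_lit 8255), (nat_lit 8128)],
  [(nat_lit 8256), (nat_lit 8256), (nat_lit 8256), (nat_lit 8255), (nat_lit 8256), (nat_lit 8256), (nat_lit 8256), (nat_lit 8128), (nat_lit 8384), (nat_lit 8257), (nat_lit 8256), (nat_lit 8256), (nat_lit 8256), (nat_lit 8255), (nat_lit 8255), (nat_lit 8256), (nat_lit 8255), (nat_lit 8256), (nat_lit 8128), (nat_lit 8256), (nat_lit 8256), (nat_lit 8256), (nat_lit 8256), (nat_lit 8256), (nat_lit 8256), (nat_lit 8256), (nat_lit 8255), (nat_lit 8384)],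
  [(nat_lit 8256), (nat_lit 8256), (nat_lit 8256), (nat_lit 8257), (nat_lit 8256), (nat_lit 8384), (nat_lit 8256), (nat_lit 8256), (nat_lit 8384), (nat_lit 8256), (nat_lit 8256), (nat_lit 8384), (nat_lit 8256), (nat_lit 8384), (nat_lit 8256), (nat_lit 8256), (nat_lit 8256), (nat_lit 8256), (nat_lit 8257), (nat_lit 8256), (nat_lit 8256), (nat_lit 8256), (nat_lit 8256), (nat_lit 8256), (nat_lit 8256), (nat_lit 8256), (nat_lit 8256), (nat_lit 8256)],
  [(nat_lit 8256), (nat_lit 8256), (nat_lit 8256), (nat_lit 8256), (nat_lit 8256), (nat_lit 8255), (nat_lit 8256), (nat_lit 8256), (nat_lit 8256), (nat_lit 8256), (nat_lit 8128), (nat_lit 8255), (nat_lit 8255), (nat_lit 8256), (nat_lit 8256), (nat_lit 8256), (nat_lit 8256), (nat_lit 8128), (nat_lit 8256), (nat_lit 8256), (nat_lit 8256), (nat_lit 8256), (nat_lit 8256), (nat_lit 8256), (nat_lit 8256), (nat_lit 8256), (nat_lit 8256), (nat_lit 8256)],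
  [(nat_lit 8256), (nat_lit 8256), (nat_lit 8256), (nat_lit 8256), (nat_lit 8256), (nat_lit 8256), (nat_lit 8256), (nat_lit 8255), (nat_lit 8256), (nat_lit 8257), (nat_lit 8255), (nat_lit 8256), (nat_lit 8257), (nat_lit 8256), (nat_lit 8257), (nat_lit 8256), (nat_lit 8255), (nat_lit 8255), (nat_lit 8256), (nat_lit 8256), (nat_lit 8256), (nat_lit 8256), (nat_lit 8256), (nat_lit 8256), (nat_lit 8256), (nat_lit 8256), (nat_lit 8257), (nat_lit 8128)],
  [(nat_lit 8256), (nat_lit 8256), (nat_lit 8256), (nat_lit 8256), (nat_lit 8256), (nat_lit 8128), (nat_lit 8256), (nat_lit 8384), (nat_lit 8128), (nat_lit 8256), (nat_lit 8257), (nat_lit 8128), (nat_lit 8384), (nat_lit 8257), (nat_lit 8384), (nat_lit 8256), (nat_lit 8257), (nat_lit 8257), (nat_lit 8384), (nat_lit 8256), (nat_lit 8256), (nat_lit 8256), (nat_lit 8256), (nat_lit 8256), (nat_lit 8256), (nat_lit 8256), (nat_lit 8255), (nat_lit 8256)],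
  [(nat_lit 8256), (nat_lit 8256), (nat_lit 8256), (nat_lit 8256), (nat_lit 8256), (nat_lit 8384), (nat_lit 8256), (nat_lit 8256), (nat_lit 8257), (nat_lit 8256), (nat_lit 8384), (nat_lit 8384), (nat_lit 8256), (nat_lit 8256), (nat_lit 8384), (nat_lit 8256), (nat_lit 8257), (nat_lit 8384), (nat_lit 8256), (nat_lit 8256), (nat_lit 8256), (nat_lit 8256), (nat_lit 8256), (nat_lit 8256), (nat_lit 8256), (nat_lit 8256), (nat_lit 8257), (nat_lit 8256)],
  [(nat_lit 8256), (nat_lit 8256), (nat_lit 8256), (nat_lit 8257), (nat_lit 8256), (nat_lit 8256), (nat_lit 8256), (nat_lit 8255), (nat_lit 8256), (nat_lit 8128), (nat_lit 8256), (nat_lit 8256), (nat_lit 8128), (nat_lit 8257), (nat_lit 8256), (nat_lit 8256), (nat_lit 8256), (nat_lit 8256), (nat_lit 8128), (nat_lit 8256), (nat_lit 8256), (nat_lit 8256), (nat_lit 8256), (nat_lit 8256), (nat_lit 8256), (nat_lit 8256), (nat_lit 8256), (nat_lit 8255)],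
  [(nat_lit 8256), (nat_lit 8256), (nat_lit 8256), (nat_lit 8255), (nat_lit 8256), (nat_lit 8256), (nat_lit 8256), (nat_lit 8256), (nat_lit 8256), (nat_lit 8257), (nat_lit 8256), (nat_lit 8256), (nat_lit 8256), (nat_lit 8256), (nat_lit 8256), (nat_lit 8256), (nat_lit 8256), (nat_lit 8256), (nat_lit 8256), (nat_lit 8256), (nat_lit 8256), (nat_lit 8256), (nat_lit 8256), (nat_lit 8256), (nat_lit 8256), (nat_lit 8256), (nat_lit 8256), (nat_lit 8128)],
  [(nat_lit 8256), (nat_lit 8384), (nat_lit 8128), (nat_lit 8128), (nat_lit 8128), (nat_lit 8256), (nat_lit 8255), (nat_lit 8128), (nat_lit 8255), (nat_lit 8384), (nat_lit 8384), (nat_lit 8256), (nat_lit 8128), (nat_lit 8256), (nat_lit 8128), (nat_lit 8384), (nat_lit 8128), (nat_lit 8128), (nat_lit 8256), (nat_lit 8255), (nat_lit 8384), (nat_lit 8255), (nat_lit 8128), (nat_lit 8255), (nat_lit 8128), (nat_lit 8255), (nat_lit 8256), (nat_lit 8128)],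
  [(nat_lit 8256), (nat_lit 8384), (nat_lit 8384), (nat_lit 8256), (nat_lit 8384), (nat_lit 8256), (nat_lit 8255), (nat_lit 8128), (nat_lit 8256), (nat_lit 8255), (nat_lit 8256), (nat_lit 8256), (nat_lit 8256), (nat_lit 8255), (nat_lit 8255), (nat_lit 8384), (nat_lit 8257), (nat_lit 8256), (nat_lit 8384), (nat_lit 8255), (nat_lit 8128), (nat_lit 8257), (nat_lit 8128), (nat_lit 8255), (nat_lit 8384), (nat_lit 8257), (nat_lit 8256), (nat_lit 8257)],
  [(nat_lit 8256), (nat_lit 8255), (nat_lit 8257), (nat_lit 8384), (nat_lit 8255), (nat_lit 8257), (nat_lit 8384), (nat_lit 8255), (nat_lit 8257), (nat_lit 8256), (nat_lit 8384), (nat_lit 8255), (nat_lit 8256), (nat_lit 8255), (nat_lit 8256), (nat_lit 8255), (nat_lit 8256), (nat_lit 8128), (nat_lit 8128), (nat_lit 8128), (nat_lit 8257), (nat_lit 8128), (nat_lit 8255), (nat_lit 8384), (nat_lit 8257), (nat_lit 8384), (nat_lit 8257), (nat_lit 8256)],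
  [(nat_lit 8256), (nat_lit 8128), (nat_lit 8128), (nat_lit 8256), (nat_lit 8384), (nat_lit 8257), (nat_lit 8255), (nat_lit 8257), (nat_lit 8256), (nat_lit 8256), (nat_lit 8256), (nat_lit 8255), (nat_lit 8257), (nat_lit 8256), (nat_lit 8256), (nat_lit 8128), (nat_lit 8256), (nat_lit 8256), (nat_lit 8256), (nat_lit 8257), (nat_lit 8128), (nat_lit 8255), (nat_lit 8128), (nat_lit 8255), (nat_lit 8128), (nat_lit 8257), (nat_lit 8255), (nat_lit 8256)],
  [(nat_lit 8256), (nat_lit 8256), (nat_lit 8256), (nat_lit 8256), (nat_lit 8256), (nat_lit 8256), (nat_lit 8256), (nat_lit 8256), (nat_lit 8255), (nat_lit 8256), (nat_lit 8256), (nat_lit 8256), (nat_lit 8257), (nat_lit 8256), (nat_lit 8256), (nat_lit 8256), (nat_lit 8255), (nat_lit 8256), (nat_lit 8256), (nat_lit 8256), (nat_lit 8256), (nat_lit 8256), (nat_lit 8256), (nat_lit 8256), (nat_lit 8256), (nat_lit 8256), (nat_lit 8255), (nat_lit 8256)],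
  [(nat_lit 8256), (nat_lit 8256), (nat_lit 8256), (nat_lit 8255), (nat_lit 8256), (nat_lit 8384), (nat_lit 8256), (nat_lit 8384), (nat_lit 8256), (nat_lit 8128), (nat_lit 8384), (nat_lit 8384), (nat_lit 8256), (nat_lit 8128), (nat_lit 8257), (nat_lit 8256), (nat_lit 8256), (nat_lit 8384), (nat_lit 8255), (nat_lit 8256), (nat_lit 8256), (nat_lit 8256), (nat_lit 8256), (nat_lit 8256), (nat_lit 8256), (nat_lit 8256), (nat_lit 8256), (nat_lit 8257)],
  [(nat_lit 8256), (nat_lit 8256), (nat_lit 8256), (nat_lit 8255), (nat_lit 8256), (nat_lit 8256), (nat_lit 8256), (nat_lit 8255), (nat_lit 8256), (nat_lit 8256), (nat_lit 8384), (nat_lit 8256), (nat_lit 8128), (nat_lit 8256), (nat_lit 8256), (nat_lit 8256), (nat_lit 8257), (nat_lit 8384), (nat_lit 8256), (nat_lit 8256), (nat_lit 8256), (nat_lit 8256), (nat_lit 8256), (nat_lit 8256), (nat_lit 8256), (nat_lit 8256), (nat_lit 8257), (nat_lit 8256)],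
  [(nat_lit 8256), (nat_lit 8256), (nat_lit 8256), (nat_lit 8256), (nat_lit 8256), (nat_lit 8257), (nat_lit 8256), (nat_lit 8256), (nat_lit 8128), (nat_lit 8255), (nat_lit 8256), (nat_lit 8257), (nat_lit 8256), (nat_lit 8384), (nat_lit 8128), (nat_lit 8256), (nat_lit 8256), (nat_lit 8256), (nat_lit 8255), (nat_lit 8256), (nat_lit 8256), (nat_lit 8256), (nat_lit 8256), (nat_lit 8256), (nat_lit 8256), (nat_lit 8256), (nat_lit 8256), (nat_lit 8128)],
  [(nat_lit 8256), (nat_lit 8255), (nat_lit 8257), (nat_lit 8255), (nat_lit 8255), (nat_lit 8128), (nat_lit 8384), (nat_lit 8384), (nat_lit 8255), (nat_lit 8384), (nat_lit 8384), (nat_lit 8384), (nat_lit 8128), (nat_lit 8257), (nat_lit 8257), (nat_lit 8384), (nat_lit 8256), (nat_lit 8128), (nat_lit 8255), (nat_lit 8255), (nat_lit 8128), (nat_lit 8255), (nat_lit 8128), (nat_lit 8255), (nat_lit 8384), (nat_lit 8255), (nat_lit 8256), (nat_lit 8256)],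
  [(nat_lit 8256), (nat_lit 8384), (nat_lit 8384), (nat_lit 8256), (nat_lit 8384), (nat_lit 8256), (nat_lit 8255), (nat_lit 8128), (nat_lit 8256), (nat_lit 8256), (nat_lit 8256), (nat_lit 8256), (nat_lit 8257), (nat_lit 8255), (nat_lit 8256), (nat_lit 8255), (nat_lit 8128), (nat_lit 8256), (nat_lit 8257), (nat_lit 8128), (nat_lit 8257), (nat_lit 8384), (nat_lit 8255), (nat_lit 8384), (nat_lit 8257), (nat_lit 8128), (nat_lit 8257), (nat_lit 8255)],
  [(nat_lit 8256), (nat_lit 8257), (nat_lit 8257), (nat_lit 8128), (nat_lit 8255), (nat_lit 8256), (nat_lit 8384), (nat_lit 8256), (nat_lit 8128), (nat_lit 8256), (nat_lit 8257), (nat_lit 8256), (nat_lit 8384), (nat_lit 8257), (nat_lit 8256), (nat_lit 8384), (nat_lit 8128), (nat_lit 8255), (nat_lit 8255), (nat_lit 8257), (nat_lit 8384), (nat_lit 8255), (nat_lit 8128), (nat_lit 8257), (nat_lit 8128), (nat_lit 8255), (nat_lit 8255), (nat_lit 8255)],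
  [(nat_lit 8256), (nat_lit 8257), (nat_lit 8255), (nat_lit 8256), (nat_lit 8255), (nat_lit 8255), (nat_lit 8128), (nat_lit 8256), (nat_lit 8256), (nat_lit 8257), (nat_lit 8256), (nat_lit 8257), (nat_lit 8257), (nat_lit 8255), (nat_lit 8128), (nat_lit 8128), (nat_lit 8256), (nat_lit 8256), (nat_lit 8257), (nat_lit 8255), (nat_lit 8128), (nat_lit 8255), (nat_lit 8128), (nat_lit 8257), (nat_lit 8128), (nat_lit 8257), (nat_lit 8256), (nat_lit 8256)],
  [(nat_lit 8256), (nat_lit 8128), (nat_lit 8128), (nat_lit 8384), (nat_lit 8384), (nat_lit 8384), (nat_lit 8128), (nat_lit 8256), (nat_lit 8384), (nat_lit 8256), (nat_lit 8255), (nat_lit 8128), (nat_lit 8128), (nat_lit 8256), (nat_lit 8384), (nat_lit 8255), (nat_lit 8257), (nat_lit 8257), (nat_lit 8256), (nat_lit 8255), (nat_lit 8257), (nat_lit 8255), (nat_lit 8255), (nat_lit 8255), (nat_lit 8257), (nat_lit 8255), (nat_lit 8256), (nat_lit 8384)],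
  [(nat_lit 8256), (nat_lit 8384), (nat_lit 8384), (nat_lit 8384), (nat_lit 8384), (nat_lit 8256), (nat_lit 8384), (nat_lit 8256), (nat_lit 8257), (nat_lit 8128), (nat_lit 8255), (nat_lit 8256), (nat_lit 8256), (nat_lit 8257), (nat_lit 8256), (nat_lit 8255), (nat_lit 8256), (nat_lit 8257), (nat_lit 8128), (nat_lit 8257), (nat_lit 8255), (nat_lit 8257), (nat_lit 8257), (nat_lit 8255), (nat_lit 8257), (nat_lit 8255), (nat_lit 8255), (nat_lit 8256)],
  [(nat_lit 8256), (nat_lit 8384), (nat_lit 8128), (nat_lit 8255), (nat_lit 8128), (nat_lit 8255), (nat_lit 8384), (nat_lit 8255), (nat_lit 8128), (nat_lit 8256), (nat_lit 8257), (nat_lit 8257), (nat_lit 8256), (nat_lit 8128), (nat_lit 8257), (nat_lit 8257), (nat_lit 8128), (nat_lit 8255), (nat_lit 8257), (nat_lit 8255), (nat_lit 8255), (nat_lit 8257), (nat_lit 8255), (nat_lit 8257), (nat_lit 8257), (nat_lit 8255), (nat_lit 8256), (nat_lit 8257)],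
  [(nat_lit 8256), (nat_lit 8255), (nat_lit 8257), (nat_lit 8257), (nat_lit 8255), (nat_lit 8256), (nat_lit 8255), (nat_lit 8255), (nat_lit 8257), (nat_lit 8384), (nat_lit 8257), (nat_lit 8256), (nat_lit 8128), (nat_lit 8256), (nat_lit 8256), (nat_lit 8128), (nat_lit 8256), (nat_lit 8255), (nat_lit 8256), (nat_lit 8128), (nat_lit 8128), (nat_lit 8384), (nat_lit 8128), (nat_lit 8128), (nat_lit 8128), (nat_lit 8384), (nat_lit 8257), (nat_lit 8256)]]
noncomputable def Aj : List (List Nat) := [[(nat_lit 8128), (nat_lit 8256), (nat_lit 8256), (nat_lit 7999), (nat_lit 8256), (nat_lit 8256), (nat_lit 8256), (nat_lit 7872), (nat_lit 8384), (nat_lit 8641), (nat_lit 7998), (nat_lit 8383), (nat_lit 8257), (nat_lit 8511), (nat_lit 8256), (nat_lit 8256), (nat_lit 7999), (nat_lit 7999), (nat_lit 8130), (nat_lit 8256), (nat_lit 8129), (nat_lit 8256), (nat_lit 8256), (nat_lit 8383), (nat_lit 8385), (nat_lit 8256), (nat_lit 8256), (nat_lit 8385)],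
  [(nat_lit 8384), (nat_lit 8256), (nat_lit 8256), (nat_lit 8383), (nat_lit 8256), (nat_lit 8256), (nat_lit 8256), (nat_lit 8385), (nat_lit 8254), (nat_lit 8255), (nat_lit 8128), (nat_lit 8000), (nat_lit 8255), (nat_lit 8000), (nat_lit 8128), (nat_lit 8256), (nat_lit 8256), (nat_lit 8257), (nat_lit 8255), (nat_lit 8255), (nat_lit 8384), (nat_lit 8256), (nat_lit 8256), (nat_lit 8127), (nat_lit 8383), (nat_lit 8256), (nat_lit 8256), (nat_lit 8256)],
  [(nat_lit 8256), (nat_lit 8256), (nat_lit 8256), (nat_lit 8256), (nat_lit 8256), (nat_lit 8256), (nat_lit 8256), (nat_lit 8128), (nat_lit 8256), (nat_lit 8256), (nat_lit 8256), (nat_lit 8383), (nat_lit 8256), (nat_lit 8384), (nat_lit 8256), (nat_lit 8384), (nat_lit 8128), (nat_lit 8000), (nat_lit 8128), (nat_lit 8256), (nat_lit 8257), (nat_lit 8255), (nat_lit 8256), (nat_lit 8384), (nat_lit 8256), (nat_lit 8256), (nat_lit 8256), (nat_lit 8256)],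
  [(nat_lit 8256), (nat_lit 8256), (nat_lit 8256), (nat_lit 8256), (nat_lit 8256), (nat_lit 8256), (nat_lit 8256), (nat_lit 8385), (nat_lit 8256), (nat_lit 8255), (nat_lit 8257), (nat_lit 8256), (nat_lit 8255), (nat_lit 8128), (nat_lit 8256), (nat_lit 8256), (nat_lit 8257), (nat_lit 8257), (nat_lit 8384), (nat_lit 8256), (nat_lit 8256), (nat_lit 8256), (nat_lit 8256), (nat_lit 8256), (nat_lit 8256), (nat_lit 8256), (nat_lit 8256), (nat_lit 8256)],
  [(nat_lit 8257), (nat_lit 8256), (nat_lit 8256), (nat_lit 8128), (nat_lit 8256), (nat_lit 8256), (nat_lit 8256), (nat_lit 8382), (nat_lit 8255), (nat_lit 8257), (nat_lit 8255), (nat_lit 8000), (nat_lit 8256), (nat_lit 8256), (nat_lit 8257), (nat_lit 8128), (nat_lit 8383), (nat_lit 8129), (nat_lit 8256), (nat_lit 8256), (nat_lit 8512), (nat_lit 8256), (nat_lit 8256), (nat_lit 8127), (nat_lit 8256), (nat_lit 8255), (nat_lit 8256), (nat_lit 8256)],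
  [(nat_lit 8383), (nat_lit 8256), (nat_lit 8256), (nat_lit 8255), (nat_lit 8256), (nat_lit 8256), (nat_lit 8256), (nat_lit 8385), (nat_lit 8128), (nat_lit 8256), (nat_lit 8258), (nat_lit 8130), (nat_lit 8127), (nat_lit 8257), (nat_lit 8256), (nat_lit 8256), (nat_lit 8257), (nat_lit 8514), (nat_lit 8257), (nat_lit 8256), (nat_lit 8254), (nat_lit 8256), (nat_lit 8256), (nat_lit 8129), (nat_lit 8127), (nat_lit 8256), (nat_lit 8255), (nat_lit 8255)],
  [(nat_lit 8127), (nat_lit 8256), (nat_lit 8256), (nat_lit 8256), (nat_lit 8256), (nat_lit 8256), (nat_lit 8256), (nat_lit 8256), (nat_lit 8129), (nat_lit 8256), (nat_lit 8257), (nat_lit 8385), (nat_lit 8257), (nat_lit 8384), (nat_lit 8256), (nat_lit 8255), (nat_lit 8129), (nat_lit 8254), (nat_lit 8257), (nat_lit 8256), (nat_lit 8128), (nat_lit 8256), (nat_lit 8255), (nat_lit 8385), (nat_lit 8128), (nat_lit 8256), (nat_lit 8256), (nat_lit 8000)],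
  [(nat_lit 8256), (nat_lit 8256), (nat_lit 8256), (nat_lit 8256), (nat_lit 8256), (nat_lit 8256), (nat_lit 8256), (nat_lit 8129), (nat_lit 8257), (nat_lit 8384), (nat_lit 8129), (nat_lit 8256), (nat_lit 8383), (nat_lit 8256), (nat_lit 8384), (nat_lit 8256), (nat_lit 8129), (nat_lit 8129), (nat_lit 8257), (nat_lit 8256), (nat_lit 8256), (nat_lit 8256), (nat_lit 8256), (nat_lit 8256), (nat_lit 8256), (nat_lit 8256), (nat_lit 8256), (nat_lit 8385)],
  [(nat_lit 8256), (nat_lit 8256), (nat_lit 8256), (nat_lit 8385), (nat_lit 8256), (nat_lit 8256), (nat_lit 8256), (nat_lit 8127), (nat_lit 8384), (nat_lit 8128), (nat_lit 8384), (nat_lit 8256), (nat_lit 8129), (nat_lit 8255), (nat_lit 8255), (nat_lit 8256), (nat_lit 8383), (nat_lit 8384), (nat_lit 8255), (nat_lit 8256), (nat_lit 8256), (nat_lit 8256), (nat_lit 8256), (nat_lit 8256), (nat_lit 8256), (nat_lit 8256), (nat_lit 8256), (nat_lit 8256)],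
  [(nat_lit 8256), (nat_lit 8256), (nat_lit 8256), (nat_lit 8256), (nat_lit 8256), (nat_lit 8256), (nat_lit 8256), (nat_lit 8514), (nat_lit 8256), (nat_lit 8254), (nat_lit 8386), (nat_lit 8256), (nat_lit 8255), (nat_lit 8127), (nat_lit 8256), (nat_lit 8256), (nat_lit 8386), (nat_lit 8386), (nat_lit 8640), (nat_lit 8256), (nat_lit 8256), (nat_lit 8256), (nat_lit 8256), (nat_lit 8256), (nat_lit 8256), (nat_lit 8256), (nat_lit 8256), (nat_lit 8256)],
  [(nat_lit 8256), (nat_lit 8256), (nat_lit 8256), (nat_lit 8129), (nat_lit 8256), (nat_lit 8256), (nat_lit 8256), (nat_lit 8255), (nat_lit 8255), (nat_lit 8384), (nat_lit 8255), (nat_lit 8256), (nat_lit 8257), (nat_lit 8255), (nat_lit 8256), (nat_lit 8256), (nat_lit 8255), (nat_lit 8383), (nat_lit 8384), (nat_lit 8256), (nat_lit 8256), (nat_lit 8256), (nat_lit 8256), (nat_lit 8256), (nat_lit 8256), (nat_lit 8256), (nat_lit 8256), (nat_lit 8127)],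
  [(nat_lit 8129), (nat_lit 8256), (nat_lit 8256), (nat_lit 8256), (nat_lit 8256), (nat_lit 8256), (nat_lit 8256), (nat_lit 8257), (nat_lit 8384), (nat_lit 8255), (nat_lit 8256), (nat_lit 8382), (nat_lit 8384), (nat_lit 8255), (nat_lit 8256), (nat_lit 8256), (nat_lit 8257), (nat_lit 8000), (nat_lit 8384), (nat_lit 8256), (nat_lit 8258), (nat_lit 8256), (nat_lit 8256), (nat_lit 8383), (nat_lit 8385), (nat_lit 8256), (nat_lit 8256), (nat_lit 8385)],
  [(nat_lit 8256), (nat_lit 8256), (nat_lit 8256), (nat_lit 8256), (nat_lit 8256), (nat_lit 8256), (nat_lit 8256), (nat_lit 8384), (nat_lit 8384), (nat_lit 8128), (nat_lit 8512), (nat_lit 8256), (nat_lit 8128), (nat_lit 8256), (nat_lit 8255), (nat_lit 8256), (nat_lit 8512), (nat_lit 8512), (nat_lit 8255), (nat_lit 8256), (nat_lit 8256), (nat_lit 8256), (nat_lit 8256), (nat_lit 8256), (nat_lit 8256), (nat_lit 8256), (nat_lit 8256), (nat_lit 8383)],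
  [(nat_lit 8256), (nat_lit 8256), (nat_lit 8256), (nat_lit 8128), (nat_lit 8256), (nat_lit 8256), (nat_lit 8256), (nat_lit 8127), (nat_lit 8256), (nat_lit 8257), (nat_lit 8255), (nat_lit 8256), (nat_lit 8257), (nat_lit 8256), (nat_lit 8256), (nat_lit 8256), (nat_lit 8255), (nat_lit 8255), (nat_lit 8128), (nat_lit 8256), (nat_lit 8256), (nat_lit 8256), (nat_lit 8256), (nat_lit 8256), (nat_lit 8256), (nat_lit 8256), (nat_lit 8256), (nat_lit 8256)],
  [(nat_lit 8256), (nat_lit 8256), (nat_lit 8256), (nat_lit 8384), (nat_lit 8256), (nat_lit 8256), (nat_lit 8256), (nat_lit 8255), (nat_lit 8128), (nat_lit 8129), (nat_lit 8255), (nat_lit 8256), (nat_lit 8385), (nat_lit 8129), (nat_lit 8257), (nat_lit 8256), (nat_lit 8127), (nat_lit 8255), (nat_lit 8127), (nat_lit 8256), (nat_lit 8256), (nat_lit 8256), (nat_lit 8256), (nat_lit 8256), (nat_lit 8256), (nat_lit 8256), (nat_lit 8256), (nat_lit 8129)],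
  [(nat_lit 8255), (nat_lit 8256), (nat_lit 8256), (nat_lit 8384), (nat_lit 8256), (nat_lit 8256), (nat_lit 8256), (nat_lit 8258), (nat_lit 8257), (nat_lit 8255), (nat_lit 8386), (nat_lit 8385), (nat_lit 8127), (nat_lit 8256), (nat_lit 8255), (nat_lit 8384), (nat_lit 8257), (nat_lit 8513), (nat_lit 8384), (nat_lit 8256), (nat_lit 8127), (nat_lit 8256), (nat_lit 8256), (nat_lit 8257), (nat_lit 8128), (nat_lit 8256), (nat_lit 8256), (nat_lit 8256)],
  [(nat_lit 8256), (nat_lit 8256), (nat_lit 8256), (nat_lit 8383), (nat_lit 8256), (nat_lit 8256), (nat_lit 8256), (nat_lit 8514), (nat_lit 8256), (nat_lit 8127), (nat_lit 8385), (nat_lit 8256), (nat_lit 8255), (nat_lit 8128), (nat_lit 8128), (nat_lit 8256), (nat_lit 8385), (nat_lit 8385), (nat_lit 8383), (nat_lit 8256), (nat_lit 8256), (nat_lit 8256), (nat_lit 8256), (nat_lit 8256), (nat_lit 8256), (nat_lit 8256), (nat_lit 8256), (nat_lit 8256)],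
  [(nat_lit 8256), (nat_lit 8256), (nat_lit 8256), (nat_lit 8255), (nat_lit 8256), (nat_lit 8256), (nat_lit 8256), (nat_lit 8383), (nat_lit 8256), (nat_lit 8129), (nat_lit 8383), (nat_lit 8256), (nat_lit 8256), (nat_lit 8257), (nat_lit 8256), (nat_lit 8256), (nat_lit 8383), (nat_lit 8255), (nat_lit 8127), (nat_lit 8256), (nat_lit 8256), (nat_lit 8256), (nat_lit 8256), (nat_lit 8256), (nat_lit 8256), (nat_lit 8256), (nat_lit 8256), (nat_lit 8256)],
  [(nat_lit 8256), (nat_lit 8256), (nat_lit 8256), (nat_lit 8128), (nat_lit 8256), (nat_lit 8256), (nat_lit 8256), (nat_lit 8127), (nat_lit 8256), (nat_lit 8384), (nat_lit 8128), (nat_lit 8256), (nat_lit 8128), (nat_lit 8384), (nat_lit 8256), (nat_lit 8256), (nat_lit 8128), (nat_lit 8128), (nat_lit 8129), (nat_lit 8256), (nat_lit 8256), (nat_lit 8256), (nat_lit 8256), (nat_lit 8256), (nat_lit 8256), (nat_lit 8256), (nat_lit 8256), (nat_lit 8256)],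
  [(nat_lit 8128), (nat_lit 8257), (nat_lit 8256), (nat_lit 8127), (nat_lit 8256), (nat_lit 8256), (nat_lit 8256), (nat_lit 8641), (nat_lit 8127), (nat_lit 8126), (nat_lit 8257), (nat_lit 8256), (nat_lit 8256), (nat_lit 8129), (nat_lit 8129), (nat_lit 8256), (nat_lit 8257), (nat_lit 8255), (nat_lit 8383), (nat_lit 8256), (nat_lit 8257), (nat_lit 8256), (nat_lit 8256), (nat_lit 8256), (nat_lit 8256), (nat_lit 8256), (nat_lit 8256), (nat_lit 8256)],
  [(nat_lit 8129), (nat_lit 8256), (nat_lit 8256), (nat_lit 8129), (nat_lit 8256), (nat_lit 8256), (nat_lit 8256), (nat_lit 8383), (nat_lit 8129), (nat_lit 8127), (nat_lit 8257), (nat_lit 8383), (nat_lit 8384), (nat_lit 8256), (nat_lit 8385), (nat_lit 8256), (nat_lit 8257), (nat_lit 8000), (nat_lit 8383), (nat_lit 8256), (nat_lit 8257), (nat_lit 8256), (nat_lit 8256), (nat_lit 8256), (nat_lit 8256), (nat_lit 8256), (nat_lit 8256), (nat_lit 8258)],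
  [(nat_lit 8256), (nat_lit 8256), (nat_lit 8257), (nat_lit 8385), (nat_lit 8256), (nat_lit 8256), (nat_lit 8256), (nat_lit 8385), (nat_lit 8129), (nat_lit 8127), (nat_lit 8385), (nat_lit 8384), (nat_lit 8384), (nat_lit 8129), (nat_lit 8384), (nat_lit 8384), (nat_lit 8257), (nat_lit 8383), (nat_lit 8382), (nat_lit 8256), (nat_lit 8128), (nat_lit 8256), (nat_lit 8256), (nat_lit 8257), (nat_lit 8256), (nat_lit 8256), (nat_lit 8256), (nat_lit 8256)],
  [(nat_lit 8256), (nat_lit 8256), (nat_lit 8256), (nat_lit 8257), (nat_lit 8256), (nat_lit 8256), (nat_lit 8257), (nat_lit 7999), (nat_lit 8385), (nat_lit 8512), (nat_lit 8256), (nat_lit 8513), (nat_lit 8256), (nat_lit 8511), (nat_lit 8383), (nat_lit 8257), (nat_lit 8256), (nat_lit 8256), (nat_lit 8385), (nat_lit 8256), (nat_lit 8128), (nat_lit 8256), (nat_lit 8256), (nat_lit 8385), (nat_lit 8257), (nat_lit 8256), (nat_lit 8256), (nat_lit 8256)],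
  [(nat_lit 8384), (nat_lit 8256), (nat_lit 8256), (nat_lit 8255), (nat_lit 8256), (nat_lit 8256), (nat_lit 8256), (nat_lit 8254), (nat_lit 8129), (nat_lit 8258), (nat_lit 8256), (nat_lit 8130), (nat_lit 8255), (nat_lit 8258), (nat_lit 8385), (nat_lit 8129), (nat_lit 8255), (nat_lit 8257), (nat_lit 8000), (nat_lit 8256), (nat_lit 8254), (nat_lit 8256), (nat_lit 8256), (nat_lit 8129), (nat_lit 8128), (nat_lit 8256), (nat_lit 8256), (nat_lit 8385)],
  [(nat_lit 8257), (nat_lit 8256), (nat_lit 8256), (nat_lit 8256), (nat_lit 8256), (nat_lit 8256), (nat_lit 8256), (nat_lit 8384), (nat_lit 8384), (nat_lit 8257), (nat_lit 8255), (nat_lit 8126), (nat_lit 8384), (nat_lit 8255), (nat_lit 8256), (nat_lit 8127), (nat_lit 8384), (nat_lit 8128), (nat_lit 8256), (nat_lit 8256), (nat_lit 8385), (nat_lit 8256), (nat_lit 8256), (nat_lit 8255), (nat_lit 8256), (nat_lit 8256), (nat_lit 8256), (nat_lit 8256)],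
  [(nat_lit 8129), (nat_lit 8256), (nat_lit 8256), (nat_lit 8384), (nat_lit 8257), (nat_lit 8256), (nat_lit 8256), (nat_lit 8255), (nat_lit 8385), (nat_lit 8001), (nat_lit 8510), (nat_lit 8381), (nat_lit 8385), (nat_lit 8256), (nat_lit 8256), (nat_lit 8255), (nat_lit 8384), (nat_lit 7998), (nat_lit 8126), (nat_lit 8256), (nat_lit 8258), (nat_lit 8256), (nat_lit 8256), (nat_lit 8511), (nat_lit 8257), (nat_lit 8256), (nat_lit 8256), (nat_lit 8258)],
  [(nat_lit 8256), (nat_lit 8256), (nat_lit 8256), (nat_lit 8128), (nat_lit 8256), (nat_lit 8257), (nat_lit 8256), (nat_lit 8256), (nat_lit 8256), (nat_lit 8384), (nat_lit 8256), (nat_lit 8257), (nat_lit 8256), (nat_lit 8384), (nat_lit 8256), (nat_lit 8256), (nat_lit 8256), (nat_lit 8256), (nat_lit 8257), (nat_lit 8256), (nat_lit 8256), (nat_lit 8256), (nat_lit 8256), (nat_lit 8256), (nat_lit 8256), (nat_lit 8256), (nat_lit 8256), (nat_lit 8255)],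
  [(nat_lit 8256), (nat_lit 8256), (nat_lit 8256), (nat_lit 8128), (nat_lit 8256), (nat_lit 8256), (nat_lit 8256), (nat_lit 8257), (nat_lit 8256), (nat_lit 8383), (nat_lit 8129), (nat_lit 8256), (nat_lit 8255), (nat_lit 8256), (nat_lit 8256), (nat_lit 8256), (nat_lit 8129), (nat_lit 8129), (nat_lit 8257), (nat_lit 8256), (nat_lit 8256), (nat_lit 8256), (nat_lit 8256), (nat_lit 8256), (nat_lit 8256), (nat_lit 8256), (nat_lit 8256), (nat_lit 8384)]]
noncomputable def Qk : List (List Nat) := [[(nat_lit 8256), (nat_lit 8384), (nat_lit 8128), (nat_lit 8256), (nat_lit 8128), (nat_lit 8384), (nat_lit 8128), (nat_lit 8384), (nat_lit 8256), (nat_lit 8128), (nat_lit 8256), (nat_lit 8128), (nat_lit 8256), (nat_lit 8256), (nat_lit 8384), (nat_lit 8384), (nat_lit 8128), (nat_lit 8256), (nat_lit 8256), (nat_lit 8384), (nat_lit 8384), (nat_lit 8128), (nat_lit 8384), (nat_lit 8128), (nat_lit 8384), (nat_lit 8384), (nat_lit 8384), (nat_lit 8255)],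
  [(nat_lit 8256), (nat_lit 8255), (nat_lit 8257), (nat_lit 8255), (nat_lit 8255), (nat_lit 8255), (nat_lit 8255), (nat_lit 8256), (nat_lit 8128), (nat_lit 8257), (nat_lit 8384), (nat_lit 8257), (nat_lit 8256), (nat_lit 8256), (nat_lit 8257), (nat_lit 8257), (nat_lit 8255), (nat_lit 8128), (nat_lit 8256), (nat_lit 8257), (nat_lit 8255), (nat_lit 8255), (nat_lit 8255), (nat_lit 8257), (nat_lit 8257), (nat_lit 8255), (nat_lit 8257), (nat_lit 8255)],
  [(nat_lit 8768), (nat_lit 8257), (nat_lit 8257), (nat_lit 8384), (nat_lit 8257), (nat_lit 8384), (nat_lit 8257), (nat_lit 8128), (nat_lit 8255), (nat_lit 8384), (nat_lit 8255), (nat_lit 8128), (nat_lit 8384), (nat_lit 8128), (nat_lit 8384), (nat_lit 8257), (nat_lit 8384), (nat_lit 8257), (nat_lit 8255), (nat_lit 8255), (nat_lit 8255), (nat_lit 8255), (nat_lit 8257), (nat_lit 8257), (nat_lit 8255), (nat_lit 8257), (nat_lit 8255), (nat_lit 8255)],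
  [(nat_lit 8256), (nat_lit 8257), (nat_lit 8257), (nat_lit 8256), (nat_lit 8255), (nat_lit 8257), (nat_lit 8255), (nat_lit 8256), (nat_lit 8256), (nat_lit 8257), (nat_lit 8256), (nat_lit 8255), (nat_lit 8255), (nat_lit 8257), (nat_lit 8255), (nat_lit 8255), (nat_lit 8255), (nat_lit 8256), (nat_lit 8384), (nat_lit 8257), (nat_lit 8255), (nat_lit 8257), (nat_lit 8257), (nat_lit 8257), (nat_lit 8257), (nat_lit 8257), (nat_lit 8384), (nat_lit 8255)],
  [(nat_lit 8256), (nat_lit 8256), (nat_lit 8256), (nat_lit 8256), (nat_lit 8256), (nat_lit 8256), (nat_lit 8256), (nat_lit 8384), (nat_lit 8256), (nat_lit 8128), (nat_lit 8384), (nat_lit 8256), (nat_lit 8128), (nat_lit 8256), (nat_lit 8128), (nat_lit 8256), (nat_lit 8384), (nat_lit 8384), (nat_lit 8256), (nat_lit 8256), (nat_lit 8256), (nat_lit 8256), (nat_lit 8256), (nat_lit 8256), (nat_lit 8256), (nat_lit 8256), (nat_lit 8128), (nat_lit 8255)],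
  [(nat_lit 8256), (nat_lit 8256), (nat_lit 8256), (nat_lit 8256), (nat_lit 8256), (nat_lit 8257), (nat_lit 8256), (nat_lit 8256), (nat_lit 8256), (nat_lit 8256), (nat_lit 8384), (nat_lit 8257), (nat_lit 8257), (nat_lit 8256), (nat_lit 8256), (nat_lit 8256), (nat_lit 8256), (nat_lit 8384), (nat_lit 8256), (nat_lit 8256), (nat_lit 8256), (nat_lit 8256), (nat_lit 8256), (nat_lit 8256), (nat_lit 8256), (nat_lit 8256), (nat_lit 8256), (nat_lit 8256)],
  [(nat_lit 8256), (nat_lit 8256), (nat_lit 8256), (nat_lit 8257), (nat_lit 8256), (nat_lit 8384), (nat_lit 8256), (nat_lit 8256), (nat_lit 8384), (nat_lit 8256), (nat_lit 8256), (nat_lit 8384), (nat_lit 8256), (nat_lit 8384), (nat_lit 8256), (nat_lit 8256), (nat_lit 8256), (nat_lit 8256), (nat_lit 8257), (nat_lit 8256), (nat_lit 8256), (nat_lit 8256), (nat_lit 8256), (nat_lit 8256), (nat_lit 8256), (nat_lit 8256), (nat_lit 8256), (nat_lit 8256)],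
  [(nat_lit 8256), (nat_lit 8256), (nat_lit 8256), (nat_lit 8384), (nat_lit 8256), (nat_lit 8256), (nat_lit 8256), (nat_lit 8255), (nat_lit 8257), (nat_lit 8128), (nat_lit 8256), (nat_lit 8256), (nat_lit 8256), (nat_lit 8384), (nat_lit 8384), (nat_lit 8256), (nat_lit 8384), (nat_lit 8256), (nat_lit 8255), (nat_lit 8256), (nat_lit 8256), (nat_lit 8256), (nat_lit 8256), (nat_lit 8256), (nat_lit 8256), (nat_lit 8256), (nat_lit 8384), (nat_lit 8257)],
  [(nat_lit 8256), (nat_lit 8256), (nat_lit 8256), (nat_lit 8384), (nat_lit 8256), (nat_lit 8256), (nat_lit 8256), (nat_lit 8256), (nat_lit 8256), (nat_lit 8128), (nat_lit 8256), (nat_lit 8256), (nat_lit 8256), (nat_lit 8256), (nat_lit 8256), (nat_lit 8256), (nat_lit 8256), (nat_lit 8256), (nat_lit 8256), (nat_lit 8256), (nat_lit 8256), (nat_lit 8256), (nat_lit 8256), (nat_lit 8256), (nat_lit 8256), (nat_lit 8256), (nat_lit 8256), (nat_lit 8255)],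
  [(nat_lit 8256), (nat_lit 8256), (nat_lit 8256), (nat_lit 8255), (nat_lit 8256), (nat_lit 8256), (nat_lit 8256), (nat_lit 8257), (nat_lit 8256), (nat_lit 8384), (nat_lit 8256), (nat_lit 8256), (nat_lit 8384), (nat_lit 8255), (nat_lit 8256), (nat_lit 8256), (nat_lit 8256), (nat_lit 8256), (nat_lit 8384), (nat_lit 8256), (nat_lit 8256), (nat_lit 8256), (nat_lit 8256), (nat_lit 8256), (nat_lit 8256), (nat_lit 8256), (nat_lit 8256), (nat_lit 8257)],
  [(nat_lit 8256), (nat_lit 8256), (nat_lit 8256), (nat_lit 8256), (nat_lit 8256), (nat_lit 8384), (nat_lit 8256), (nat_lit 8256), (nat_lit 8257), (nat_lit 8256), (nat_lit 8384), (nat_lit 8384), (nat_lit 8256), (nat_lit 8256), (nat_lit 8384), (nat_lit 8256), (nat_lit 8257), (nat_lit 8384), (nat_lit 8256), (nat_lit 8256), (nat_lit 8256), (nat_lit 8256), (nat_lit 8256), (nat_lit 8256), (nat_lit 8256), (nat_lit 8256), (nat_lit 8257), (nat_lit 8256)],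
  [(nat_lit 8256), (nat_lit 8256), (nat_lit 8256), (nat_lit 8256), (nat_lit 8256), (nat_lit 8255), (nat_lit 8256), (nat_lit 8257), (nat_lit 8255), (nat_lit 8256), (nat_lit 8128), (nat_lit 8255), (nat_lit 8257), (nat_lit 8128), (nat_lit 8257), (nat_lit 8256), (nat_lit 8128), (nat_lit 8128), (nat_lit 8257), (nat_lit 8256), (nat_lit 8256), (nat_lit 8256), (nat_lit 8256), (nat_lit 8256), (nat_lit 8256), (nat_lit 8256), (nat_lit 8384), (nat_lit 8256)],
  [(nat_lit 8256), (nat_lit 8255), (nat_lit 8255), (nat_lit 8256), (nat_lit 8257), (nat_lit 8128), (nat_lit 8384), (nat_lit 8128), (nat_lit 8256), (nat_lit 8256), (nat_lit 8256), (nat_lit 8384), (nat_lit 8128), (nat_lit 8256), (nat_lit 8256), (nat_lit 8255), (nat_lit 8256), (nat_lit 8256), (nat_lit 8256), (nat_lit 8128), (nat_lit 8255), (nat_lit 8384), (nat_lit 8255), (nat_lit 8384), (nat_lit 8255), (nat_lit 8128), (nat_lit 8384), (nat_lit 8256)],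
  [(nat_lit 8256), (nat_lit 8257), (nat_lit 8255), (nat_lit 8128), (nat_lit 8257), (nat_lit 8255), (nat_lit 8128), (nat_lit 8257), (nat_lit 8255), (nat_lit 8256), (nat_lit 8128), (nat_lit 8257), (nat_lit 8256), (nat_lit 8257), (nat_lit 8256), (nat_lit 8257), (nat_lit 8256), (nat_lit 8384), (nat_lit 8384), (nat_lit 8384), (nat_lit 8255), (nat_lit 8384), (nat_lit 8257), (nat_lit 8128), (nat_lit 8255), (nat_lit 8128), (nat_lit 8255), (nat_lit 8256)],
  [(nat_lit 8256), (nat_lit 8384), (nat_lit 8384), (nat_lit 8256), (nat_lit 8384), (nat_lit 8256), (nat_lit 8255), (nat_lit 8128), (nat_lit 8256), (nat_lit 8255), (nat_lit 8256), (nat_lit 8256), (nat_lit 8256), (nat_lit 8255), (nat_lit 8255), (nat_lit 8384), (nat_lit 8257), (nat_lit 8256), (nat_lit 8384), (nat_lit 8255), (nat_lit 8128), (nat_lit 8257), (nat_lit 8128), (nat_lit 8255), (nat_lit 8384), (nat_lit 8257), (nat_lit 8256), (nat_lit 8257)],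
  [(nat_lit 8256), (nat_lit 8257), (nat_lit 8255), (nat_lit 8255), (nat_lit 8255), (nat_lit 8256), (nat_lit 8384), (nat_lit 8255), (nat_lit 8384), (nat_lit 8257), (nat_lit 8257), (nat_lit 8256), (nat_lit 8255), (nat_lit 8256), (nat_lit 8255), (nat_lit 8257), (nat_lit 8255), (nat_lit 8255), (nat_lit 8256), (nat_lit 8384), (nat_lit 8257), (nat_lit 8384), (nat_lit 8255), (nat_lit 8384), (nat_lit 8255), (nat_lit 8384), (nat_lit 8256), (nat_lit 8255)],
  [(nat_lit 8256), (nat_lit 8256), (nat_lit 8256), (nat_lit 8256), (nat_lit 8256), (nat_lit 8128), (nat_lit 8256), (nat_lit 8256), (nat_lit 8255), (nat_lit 8384), (nat_lit 8256), (nat_lit 8128), (nat_lit 8256), (nat_lit 8257), (nat_lit 8255), (nat_lit 8256), (nat_lit 8256), (nat_lit 8256), (nat_lit 8384), (nat_lit 8256), (nat_lit 8256), (nat_lit 8256), (nat_lit 8256), (nat_lit 8256), (nat_lit 8256), (nat_lit 8256), (nat_lit 8256), (nat_lit 8255)],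
  [(nat_lit 8256), (nat_lit 8256), (nat_lit 8256), (nat_lit 8257), (nat_lit 8256), (nat_lit 8256), (nat_lit 8256), (nat_lit 8257), (nat_lit 8256), (nat_lit 8256), (nat_lit 8128), (nat_lit 8256), (nat_lit 8384), (nat_lit 8256), (nat_lit 8256), (nat_lit 8256), (nat_lit 8255), (nat_lit 8128), (nat_lit 8256), (nat_lit 8256), (nat_lit 8256), (nat_lit 8256), (nat_lit 8256), (nat_lit 8256), (nat_lit 8256), (nat_lit 8256), (nat_lit 8255), (nat_lit 8256)],
  [(nat_lit 8256), (nat_lit 8256), (nat_lit 8256), (nat_lit 8255), (nat_lit 8256), (nat_lit 8384), (nat_lit 8256), (nat_lit 8384), (nat_lit 8256), (nat_lit 8128), (nat_lit 8384), (nat_lit 8384), (nat_lit 8256), (nat_lit 8128), (nat_lit 8257), (nat_lit 8256), (nat_lit 8256), (nat_lit 8384), (nat_lit 8255), (nat_lit 8256), (nat_lit 8256), (nat_lit 8256), (nat_lit 8256), (nat_lit 8256), (nat_lit 8256), (nat_lit 8256), (nat_lit 8256), (nat_lit 8257)],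
  [(nat_lit 8256), (nat_lit 8256), (nat_lit 8256), (nat_lit 8256), (nat_lit 8256), (nat_lit 8256), (nat_lit 8256), (nat_lit 8256), (nat_lit 8384), (nat_lit 8256), (nat_lit 8256), (nat_lit 8256), (nat_lit 8128), (nat_lit 8256), (nat_lit 8256), (nat_lit 8256), (nat_lit 8384), (nat_lit 8256), (nat_lit 8256), (nat_lit 8256), (nat_lit 8256), (nat_lit 8256), (nat_lit 8256), (nat_lit 8256), (nat_lit 8256), (nat_lit 8256), (nat_lit 8384), (nat_lit 8256)],
  [(nat_lit 8256), (nat_lit 8128), (nat_lit 8384), (nat_lit 8256), (nat_lit 8384), (nat_lit 8384), (nat_lit 8255), (nat_lit 8256), (nat_lit 8256), (nat_lit 8128), (nat_lit 8256), (nat_lit 8128), (nat_lit 8128), (nat_lit 8384), (nat_lit 8255), (nat_lit 8255), (nat_lit 8256), (nat_lit 8256), (nat_lit 8128), (nat_lit 8384), (nat_lit 8255), (nat_lit 8384), (nat_lit 8255), (nat_lit 8128), (nat_lit 8255), (nat_lit 8128), (nat_lit 8256), (nat_lit 8256)],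
  [(nat_lit 8256), (nat_lit 8255), (nat_lit 8255), (nat_lit 8384), (nat_lit 8257), (nat_lit 8256), (nat_lit 8128), (nat_lit 8256), (nat_lit 8384), (nat_lit 8256), (nat_lit 8255), (nat_lit 8256), (nat_lit 8128), (nat_lit 8255), (nat_lit 8256), (nat_lit 8128), (nat_lit 8384), (nat_lit 8257), (nat_lit 8257), (nat_lit 8255), (nat_lit 8128), (nat_lit 8257), (nat_lit 8384), (nat_lit 8255), (nat_lit 8384), (nat_lit 8257), (nat_lit 8257), (nat_lit 8257)],
  [(nat_lit 8256), (nat_lit 8384), (nat_lit 8384), (nat_lit 8256), (nat_lit 8384), (nat_lit 8256), (nat_lit 8255), (nat_lit 8128), (nat_lit 8256), (nat_lit 8256), (nat_lit 8256), (nat_lit 8256), (nat_lit 8257), (nat_lit 8255), (nat_lit 8256), (nat_lit 8255), (nat_lit 8128), (nat_lit 8256), (nat_lit 8257), (nat_lit 8128), (nat_lit 8257), (nat_lit 8384), (nat_lit 8255), (nat_lit 8384), (nat_lit 8257), (nat_lit 8128), (nat_lit 8257), (nat_lit 8255)],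
  [(nat_lit 8256), (nat_lit 8384), (nat_lit 8128), (nat_lit 8384), (nat_lit 8384), (nat_lit 8255), (nat_lit 8257), (nat_lit 8257), (nat_lit 8384), (nat_lit 8257), (nat_lit 8257), (nat_lit 8257), (nat_lit 8255), (nat_lit 8128), (nat_lit 8128), (nat_lit 8257), (nat_lit 8256), (nat_lit 8255), (nat_lit 8384), (nat_lit 8384), (nat_lit 8255), (nat_lit 8384), (nat_lit 8255), (nat_lit 8384), (nat_lit 8257), (nat_lit 8384), (nat_lit 8256), (nat_lit 8256)],
  [(nat_lit 8256), (nat_lit 8384), (nat_lit 8128), (nat_lit 8128), (nat_lit 8384), (nat_lit 8256), (nat_lit 8384), (nat_lit 8384), (nat_lit 8128), (nat_lit 8257), (nat_lit 8128), (nat_lit 8256), (nat_lit 8255), (nat_lit 8256), (nat_lit 8256), (nat_lit 8255), (nat_lit 8256), (nat_lit 8384), (nat_lit 8256), (nat_lit 8255), (nat_lit 8255), (nat_lit 8257), (nat_lit 8255), (nat_lit 8255), (nat_lit 8255), (nat_lit 8257), (nat_lit 8128), (nat_lit 8256)],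
  [(nat_lit 8256), (nat_lit 8128), (nat_lit 8384), (nat_lit 8257), (nat_lit 8384), (nat_lit 8257), (nat_lit 8128), (nat_lit 8257), (nat_lit 8384), (nat_lit 8256), (nat_lit 8255), (nat_lit 8255), (nat_lit 8256), (nat_lit 8384), (nat_lit 8255), (nat_lit 8255), (nat_lit 8384), (nat_lit 8257), (nat_lit 8255), (nat_lit 8257), (nat_lit 8257), (nat_lit 8255), (nat_lit 8257), (nat_lit 8255), (nat_lit 8255), (nat_lit 8257), (nat_lit 8256), (nat_lit 8255)],
  [(nat_lit 8256), (nat_lit 8384), (nat_lit 8384), (nat_lit 8384), (nat_lit 8384), (nat_lit 8256), (nat_lit 8384), (nat_lit 8256), (nat_lit 8257), (nat_lit 8128), (nat_lit 8255), (nat_lit 8256), (nat_lit 8256), (nat_lit 8257), (nat_lit 8256), (nat_lit 8255), (nat_lit 8256), (nat_lit 8257), (nat_lit 8128), (nat_lit 8257), (nat_lit 8255), (nat_lit 8257), (nat_lit 8257), (nat_lit 8255), (nat_lit 8257), (nat_lit 8255), (nat_lit 8255), (nat_lit 8256)],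
  [(nat_lit 8256), (nat_lit 8255), (nat_lit 8255), (nat_lit 8257), (nat_lit 8257), (nat_lit 8257), (nat_lit 8255), (nat_lit 8256), (nat_lit 8257), (nat_lit 8256), (nat_lit 8384), (nat_lit 8255), (nat_lit 8255), (nat_lit 8256), (nat_lit 8257), (nat_lit 8384), (nat_lit 8128), (nat_lit 8128), (nat_lit 8256), (nat_lit 8384), (nat_lit 8128), (nat_lit 8384), (nat_lit 8384), (nat_lit 8384), (nat_lit 8128), (nat_lit 8384), (nat_lit 8256), (nat_lit 8257)]]
noncomputable def Ak : List (List Nat) := [[(nat_lit 8384), (nat_lit 8256), (nat_lit 8256), (nat_lit 8255), (nat_lit 8256), (nat_lit 8256), (nat_lit 8256), (nat_lit 8383), (nat_lit 8509), (nat_lit 8385), (nat_lit 8256), (nat_lit 8000), (nat_lit 8001), (nat_lit 8385), (nat_lit 8128), (nat_lit 8256), (nat_lit 8256), (nat_lit 8513), (nat_lit 8257), (nat_lit 8383), (nat_lit 8256), (nat_lit 8256), (nat_lit 8256), (nat_lit 8127), (nat_lit 8383), (nat_lit 8256), (nat_lit 8127), (nat_lit 8256)],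
  [(nat_lit 8255), (nat_lit 8256), (nat_lit 8256), (nat_lit 8128), (nat_lit 8256), (nat_lit 8256), (nat_lit 8256), (nat_lit 8385), (nat_lit 7873), (nat_lit 7997), (nat_lit 8258), (nat_lit 8258), (nat_lit 8127), (nat_lit 8128), (nat_lit 8128), (nat_lit 8256), (nat_lit 8384), (nat_lit 8257), (nat_lit 8126), (nat_lit 8128), (nat_lit 8255), (nat_lit 8256), (nat_lit 8256), (nat_lit 8129), (nat_lit 8127), (nat_lit 8256), (nat_lit 8256), (nat_lit 8256)],
  [(nat_lit 8256), (nat_lit 8256), (nat_lit 8256), (nat_lit 8256), (nat_lit 8256), (nat_lit 8256), (nat_lit 8256), (nat_lit 8256), (nat_lit 8383), (nat_lit 8383), (nat_lit 8257), (nat_lit 8257), (nat_lit 8128), (nat_lit 8384), (nat_lit 8255), (nat_lit 8256), (nat_lit 8257), (nat_lit 8385), (nat_lit 8385), (nat_lit 8255), (nat_lit 8256), (nat_lit 8256), (nat_lit 8255), (nat_lit 8256), (nat_lit 8384), (nat_lit 8128), (nat_lit 8256), (nat_lit 8256)],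
  [(nat_lit 8256), (nat_lit 8256), (nat_lit 8256), (nat_lit 8128), (nat_lit 8256), (nat_lit 8256), (nat_lit 8256), (nat_lit 8129), (nat_lit 8127), (nat_lit 8384), (nat_lit 8128), (nat_lit 8256), (nat_lit 8385), (nat_lit 8128), (nat_lit 8257), (nat_lit 8256), (nat_lit 8000), (nat_lit 8128), (nat_lit 8257), (nat_lit 8256), (nat_lit 8256), (nat_lit 8256), (nat_lit 8256), (nat_lit 8256), (nat_lit 8256), (nat_lit 8256), (nat_lit 8256), (nat_lit 8256)],
  [(nat_lit 8126), (nat_lit 8256), (nat_lit 8256), (nat_lit 8383), (nat_lit 8256), (nat_lit 8256), (nat_lit 8256), (nat_lit 8256), (nat_lit 7999), (nat_lit 8000), (nat_lit 8385), (nat_lit 8257), (nat_lit 8001), (nat_lit 8385), (nat_lit 8128), (nat_lit 8255), (nat_lit 8256), (nat_lit 8386), (nat_lit 8256), (nat_lit 8000), (nat_lit 8256), (nat_lit 8256), (nat_lit 8256), (nat_lit 8256), (nat_lit 8127), (nat_lit 8384), (nat_lit 8256), (nat_lit 8256)],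
  [(nat_lit 8129), (nat_lit 8256), (nat_lit 8256), (nat_lit 8256), (nat_lit 8256), (nat_lit 8256), (nat_lit 8256), (nat_lit 8384), (nat_lit 8385), (nat_lit 7874), (nat_lit 8639), (nat_lit 8511), (nat_lit 8130), (nat_lit 7999), (nat_lit 8002), (nat_lit 8256), (nat_lit 8254), (nat_lit 8383), (nat_lit 8129), (nat_lit 8258), (nat_lit 8256), (nat_lit 8256), (nat_lit 8256), (nat_lit 8385), (nat_lit 8129), (nat_lit 8256), (nat_lit 8257), (nat_lit 8255)],
  [(nat_lit 8385), (nat_lit 8256), (nat_lit 8256), (nat_lit 8257), (nat_lit 8256), (nat_lit 8256), (nat_lit 8256), (nat_lit 8125), (nat_lit 8641), (nat_lit 8259), (nat_lit 8125), (nat_lit 8254), (nat_lit 8384), (nat_lit 8129), (nat_lit 8512), (nat_lit 8256), (nat_lit 8254), (nat_lit 8126), (nat_lit 8129), (nat_lit 8384), (nat_lit 8256), (nat_lit 8257), (nat_lit 8256), (nat_lit 8384), (nat_lit 8385), (nat_lit 8257), (nat_lit 8512), (nat_lit 8256)],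
  [(nat_lit 8256), (nat_lit 8256), (nat_lit 8256), (nat_lit 8256), (nat_lit 8256), (nat_lit 8256), (nat_lit 8256), (nat_lit 8128), (nat_lit 8384), (nat_lit 8257), (nat_lit 8256), (nat_lit 8256), (nat_lit 8256), (nat_lit 8383), (nat_lit 8127), (nat_lit 8256), (nat_lit 8255), (nat_lit 8256), (nat_lit 8129), (nat_lit 8256), (nat_lit 8256), (nat_lit 8256), (nat_lit 8256), (nat_lit 8256), (nat_lit 8256), (nat_lit 8256), (nat_lit 8127), (nat_lit 8256)],
  [(nat_lit 8256), (nat_lit 8256), (nat_lit 8256), (nat_lit 8256), (nat_lit 8256), (nat_lit 8256), (nat_lit 8256), (nat_lit 8256), (nat_lit 8001), (nat_lit 8383), (nat_lit 8256), (nat_lit 8256), (nat_lit 8511), (nat_lit 8384), (nat_lit 8511), (nat_lit 8256), (nat_lit 8386), (nat_lit 8383), (nat_lit 8510), (nat_lit 8256), (nat_lit 8256), (nat_lit 8256), (nat_lit 8256), (nat_lit 8256), (nat_lit 8256), (nat_lit 8256), (nat_lit 8256), (nat_lit 8256)],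
  [(nat_lit 8256), (nat_lit 8256), (nat_lit 8256), (nat_lit 8128), (nat_lit 8256), (nat_lit 8256), (nat_lit 8256), (nat_lit 8129), (nat_lit 7998), (nat_lit 8384), (nat_lit 8127), (nat_lit 8256), (nat_lit 8514), (nat_lit 8128), (nat_lit 8258), (nat_lit 8256), (nat_lit 8000), (nat_lit 8127), (nat_lit 8385), (nat_lit 8256), (nat_lit 8256), (nat_lit 8256), (nat_lit 8256), (nat_lit 8256), (nat_lit 8256), (nat_lit 8256), (nat_lit 8256), (nat_lit 8256)],
  [(nat_lit 8256), (nat_lit 8256), (nat_lit 8256), (nat_lit 8126), (nat_lit 8256), (nat_lit 8256), (nat_lit 8256), (nat_lit 8383), (nat_lit 7999), (nat_lit 8257), (nat_lit 8382), (nat_lit 8256), (nat_lit 8386), (nat_lit 8129), (nat_lit 8386), (nat_lit 8256), (nat_lit 8256), (nat_lit 8383), (nat_lit 8383), (nat_lit 8256), (nat_lit 8256), (nat_lit 8256), (nat_lit 8256), (nat_lit 8256), (nat_lit 8256), (nat_lit 8256), (nat_lit 8385), (nat_lit 8256)],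
  [(nat_lit 8383), (nat_lit 8256), (nat_lit 8256), (nat_lit 8257), (nat_lit 8256), (nat_lit 8256), (nat_lit 8256), (nat_lit 8129), (nat_lit 8253), (nat_lit 8638), (nat_lit 7873), (nat_lit 8001), (nat_lit 8255), (nat_lit 8385), (nat_lit 8255), (nat_lit 8256), (nat_lit 8129), (nat_lit 8129), (nat_lit 8385), (nat_lit 8254), (nat_lit 8256), (nat_lit 8256), (nat_lit 8256), (nat_lit 8127), (nat_lit 8383), (nat_lit 8256), (nat_lit 8127), (nat_lit 8256)],
  [(nat_lit 8256), (nat_lit 8256), (nat_lit 8256), (nat_lit 8383), (nat_lit 8256), (nat_lit 8256), (nat_lit 8256), (nat_lit 8385), (nat_lit 8128), (nat_lit 8255), (nat_lit 8385), (nat_lit 8256), (nat_lit 8255), (nat_lit 8127), (nat_lit 8256), (nat_lit 8256), (nat_lit 8257), (nat_lit 8256), (nat_lit 8383), (nat_lit 8256), (nat_lit 8256), (nat_lit 8256), (nat_lit 8256), (nat_lit 8256), (nat_lit 8256), (nat_lit 8256), (nat_lit 8129), (nat_lit 8256)],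
  [(nat_lit 8256), (nat_lit 8256), (nat_lit 8256), (nat_lit 8256), (nat_lit 8256), (nat_lit 8256), (nat_lit 8256), (nat_lit 8383), (nat_lit 8129), (nat_lit 8128), (nat_lit 8384), (nat_lit 8256), (nat_lit 8256), (nat_lit 8385), (nat_lit 8384), (nat_lit 8256), (nat_lit 8385), (nat_lit 8384), (nat_lit 8255), (nat_lit 8256), (nat_lit 8256), (nat_lit 8256), (nat_lit 8256), (nat_lit 8256), (nat_lit 8256), (nat_lit 8256), (nat_lit 8256), (nat_lit 8256)],
  [(nat_lit 8256), (nat_lit 8256), (nat_lit 8256), (nat_lit 8257), (nat_lit 8256), (nat_lit 8256), (nat_lit 8256), (nat_lit 8256), (nat_lit 8259), (nat_lit 8127), (nat_lit 8128), (nat_lit 8256), (nat_lit 8382), (nat_lit 8384), (nat_lit 8382), (nat_lit 8256), (nat_lit 8512), (nat_lit 8128), (nat_lit 8126), (nat_lit 8256), (nat_lit 8256), (nat_lit 8256), (nat_lit 8256), (nat_lit 8256), (nat_lit 8256), (nat_lit 8256), (nat_lit 8383), (nat_lit 8256)],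
  [(nat_lit 8258), (nat_lit 8256), (nat_lit 8256), (nat_lit 8129), (nat_lit 8257), (nat_lit 8256), (nat_lit 8256), (nat_lit 8129), (nat_lit 8385), (nat_lit 8385), (nat_lit 8254), (nat_lit 8382), (nat_lit 8513), (nat_lit 8126), (nat_lit 8257), (nat_lit 8256), (nat_lit 8128), (nat_lit 8126), (nat_lit 8257), (nat_lit 8385), (nat_lit 8256), (nat_lit 8256), (nat_lit 8256), (nat_lit 8384), (nat_lit 8257), (nat_lit 8128), (nat_lit 8256), (nat_lit 8256)],
  [(nat_lit 8256), (nat_lit 8256), (nat_lit 8256), (nat_lit 8257), (nat_lit 8256), (nat_lit 8256), (nat_lit 8256), (nat_lit 8258), (nat_lit 8256), (nat_lit 8254), (nat_lit 8129), (nat_lit 8256), (nat_lit 8255), (nat_lit 8127), (nat_lit 8128), (nat_lit 8256), (nat_lit 8256), (nat_lit 8000), (nat_lit 8256), (nat_lit 8256), (nat_lit 8256), (nat_lit 8256), (nat_lit 8256), (nat_lit 8256), (nat_lit 8256), (nat_lit 8256), (nat_lit 8256), (nat_lit 8256)],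
  [(nat_lit 8256), (nat_lit 8256), (nat_lit 8256), (nat_lit 8384), (nat_lit 8256), (nat_lit 8256), (nat_lit 8256), (nat_lit 8256), (nat_lit 8385), (nat_lit 8128), (nat_lit 8257), (nat_lit 8256), (nat_lit 8127), (nat_lit 8256), (nat_lit 8255), (nat_lit 8256), (nat_lit 8256), (nat_lit 8129), (nat_lit 8128), (nat_lit 8256), (nat_lit 8256), (nat_lit 8256), (nat_lit 8256), (nat_lit 8256), (nat_lit 8256), (nat_lit 8256), (nat_lit 8256), (nat_lit 8256)],
  [(nat_lit 8256), (nat_lit 8256), (nat_lit 8256), (nat_lit 8256), (nat_lit 8256), (nat_lit 8256), (nat_lit 8256), (nat_lit 8383), (nat_lit 8383), (nat_lit 8257), (nat_lit 8384), (nat_lit 8256), (nat_lit 8129), (nat_lit 8257), (nat_lit 8257), (nat_lit 8256), (nat_lit 8256), (nat_lit 8513), (nat_lit 8385), (nat_lit 8256), (nat_lit 8256), (nat_lit 8256), (nat_lit 8256), (nat_lit 8256), (nat_lit 8256), (nat_lit 8256), (nat_lit 8256), (nat_lit 8256)],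
  [(nat_lit 8383), (nat_lit 8256), (nat_lit 8256), (nat_lit 8258), (nat_lit 8256), (nat_lit 8256), (nat_lit 8256), (nat_lit 8256), (nat_lit 8256), (nat_lit 8255), (nat_lit 8001), (nat_lit 8129), (nat_lit 8255), (nat_lit 8130), (nat_lit 8385), (nat_lit 8256), (nat_lit 8128), (nat_lit 8001), (nat_lit 8129), (nat_lit 8255), (nat_lit 8256), (nat_lit 8256), (nat_lit 8256), (nat_lit 8256), (nat_lit 8256), (nat_lit 8256), (nat_lit 8256), (nat_lit 8256)],
  [(nat_lit 8255), (nat_lit 8257), (nat_lit 8256), (nat_lit 8258), (nat_lit 8256), (nat_lit 8256), (nat_lit 8256), (nat_lit 8000), (nat_lit 8127), (nat_lit 8512), (nat_lit 7873), (nat_lit 8129), (nat_lit 8512), (nat_lit 8642), (nat_lit 8511), (nat_lit 8256), (nat_lit 8001), (nat_lit 8129), (nat_lit 8386), (nat_lit 8255), (nat_lit 8256), (nat_lit 8256), (nat_lit 8256), (nat_lit 8256), (nat_lit 8256), (nat_lit 8256), (nat_lit 8254), (nat_lit 8256)],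
  [(nat_lit 8257), (nat_lit 8256), (nat_lit 8256), (nat_lit 8130), (nat_lit 8256), (nat_lit 8256), (nat_lit 8255), (nat_lit 8128), (nat_lit 8259), (nat_lit 8384), (nat_lit 7999), (nat_lit 8255), (nat_lit 8638), (nat_lit 8383), (nat_lit 8511), (nat_lit 8256), (nat_lit 8256), (nat_lit 7870), (nat_lit 8128), (nat_lit 8384), (nat_lit 8256), (nat_lit 8256), (nat_lit 8256), (nat_lit 8256), (nat_lit 8257), (nat_lit 8128), (nat_lit 8256), (nat_lit 8256)],
  [(nat_lit 8257), (nat_lit 8256), (nat_lit 8257), (nat_lit 8254), (nat_lit 8256), (nat_lit 8256), (nat_lit 8256), (nat_lit 8128), (nat_lit 8509), (nat_lit 8771), (nat_lit 8254), (nat_lit 8127), (nat_lit 8258), (nat_lit 8256), (nat_lit 8257), (nat_lit 8256), (nat_lit 8000), (nat_lit 8384), (nat_lit 8514), (nat_lit 8384), (nat_lit 8256), (nat_lit 8256), (nat_lit 8256), (nat_lit 8255), (nat_lit 8385), (nat_lit 8255), (nat_lit 8256), (nat_lit 8256)],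
  [(nat_lit 8000), (nat_lit 8256), (nat_lit 8256), (nat_lit 8512), (nat_lit 8256), (nat_lit 8256), (nat_lit 8256), (nat_lit 8257), (nat_lit 8515), (nat_lit 7874), (nat_lit 8514), (nat_lit 8384), (nat_lit 7999), (nat_lit 8383), (nat_lit 7999), (nat_lit 8256), (nat_lit 8255), (nat_lit 8258), (nat_lit 8001), (nat_lit 8258), (nat_lit 8256), (nat_lit 8256), (nat_lit 8256), (nat_lit 8384), (nat_lit 8129), (nat_lit 8383), (nat_lit 8127), (nat_lit 8256)],
  [(nat_lit 8383), (nat_lit 8256), (nat_lit 8256), (nat_lit 8512), (nat_lit 8256), (nat_lit 8256), (nat_lit 8256), (nat_lit 8128), (nat_lit 8254), (nat_lit 8255), (nat_lit 8129), (nat_lit 8128), (nat_lit 8127), (nat_lit 8255), (nat_lit 8127), (nat_lit 8256), (nat_lit 8255), (nat_lit 8001), (nat_lit 8256), (nat_lit 8127), (nat_lit 8256), (nat_lit 8256), (nat_lit 8256), (nat_lit 8256), (nat_lit 8255), (nat_lit 8385), (nat_lit 8256), (nat_lit 8256)],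
  [(nat_lit 8511), (nat_lit 8256), (nat_lit 8256), (nat_lit 8514), (nat_lit 8256), (nat_lit 8256), (nat_lit 8256), (nat_lit 8129), (nat_lit 8384), (nat_lit 8509), (nat_lit 7746), (nat_lit 8000), (nat_lit 8379), (nat_lit 8513), (nat_lit 8508), (nat_lit 8256), (nat_lit 8386), (nat_lit 7874), (nat_lit 8383), (nat_lit 8254), (nat_lit 8256), (nat_lit 8256), (nat_lit 8256), (nat_lit 8255), (nat_lit 8511), (nat_lit 8257), (nat_lit 8254), (nat_lit 8256)],
  [(nat_lit 8256), (nat_lit 8256), (nat_lit 8256), (nat_lit 8254), (nat_lit 8256), (nat_lit 8256), (nat_lit 8256), (nat_lit 8255), (nat_lit 8383), (nat_lit 8130), (nat_lit 8511), (nat_lit 8256), (nat_lit 8002), (nat_lit 8128), (nat_lit 8129), (nat_lit 8256), (nat_lit 8255), (nat_lit 8384), (nat_lit 8129), (nat_lit 8256), (nat_lit 8256), (nat_lit 8256), (nat_lit 8256), (nat_lit 8256), (nat_lit 8256), (nat_lit 8256), (nat_lit 8257), (nat_lit 8256)],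
  [(nat_lit 8256), (nat_lit 8256), (nat_lit 8256), (nat_lit 8256), (nat_lit 8256), (nat_lit 8257), (nat_lit 8256), (nat_lit 8256), (nat_lit 8255), (nat_lit 8256), (nat_lit 8385), (nat_lit 8257), (nat_lit 8129), (nat_lit 8256), (nat_lit 8129), (nat_lit 8256), (nat_lit 8128), (nat_lit 8385), (nat_lit 8257), (nat_lit 8256), (nat_lit 8256), (nat_lit 8256), (nat_lit 8256), (nat_lit 8256), (nat_lit 8256), (nat_lit 8256), (nat_lit 8128), (nat_lit 8256)]]
noncomputable def Qs : List (List Nat) := [[(nat_lit 8252), (nat_lit 8384), (nat_lit 8384), (nat_lit 8255), (nat_lit 8384), (nat_lit 8255), (nat_lit 8384), (nat_lit 8257), (nat_lit 8128), (nat_lit 8255), (nat_lit 8128), (nat_lit 8257), (nat_lit 8255), (nat_lit 8257), (nat_lit 8255), (nat_lit 8384), (nat_lit 8255), (nat_lit 8384), (nat_lit 8128), (nat_lit 8128), (nat_lit 8128), (nat_lit 8128), (nat_lit 8384), (nat_lit 8384), (nat_lit 8128), (nat_lit 8384), (nat_lit 8128), (nat_lit 8128)],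
  [(nat_lit 8256), (nat_lit 8255), (nat_lit 8255), (nat_lit 8256), (nat_lit 8257), (nat_lit 8255), (nat_lit 8257), (nat_lit 8256), (nat_lit 8256), (nat_lit 8255), (nat_lit 8256), (nat_lit 8257), (nat_lit 8257), (nat_lit 8255), (nat_lit 8257), (nat_lit 8257), (nat_lit 8257), (nat_lit 8256), (nat_lit 8128), (nat_lit 8255), (nat_lit 8257), (nat_lit 8255), (nat_lit 8255), (nat_lit 8255), (nat_lit 8255), (nat_lit 8255), (nat_lit 8128), (nat_lit 8257)],
  [(nat_lit 8256), (nat_lit 8255), (nat_lit 8257), (nat_lit 8256), (nat_lit 8257), (nat_lit 8255), (nat_lit 8257), (nat_lit 8255), (nat_lit 8256), (nat_lit 8257), (nat_lit 8256), (nat_lit 8257), (nat_lit 8256), (nat_lit 8256), (nat_lit 8255), (nat_lit 8255), (nat_lit 8257), (nat_lit 8256), (nat_lit 8256), (nat_lit 8255), (nat_lit 8255), (nat_lit 8257), (nat_lit 8255), (nat_lit 8257), (nat_lit 8255), (nat_lit 8255), (nat_lit 8255), (nat_lit 8128)],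
  [(nat_lit 8256), (nat_lit 8255), (nat_lit 8257), (nat_lit 8255), (nat_lit 8255), (nat_lit 8255), (nat_lit 8255), (nat_lit 8256), (nat_lit 8128), (nat_lit 8257), (nat_lit 8384), (nat_lit 8257), (nat_lit 8256), (nat_lit 8256), (nat_lit 8257), (nat_lit 8257), (nat_lit 8255), (nat_lit 8128), (nat_lit 8256), (nat_lit 8257), (nat_lit 8255), (nat_lit 8255), (nat_lit 8255), (nat_lit 8257), (nat_lit 8257), (nat_lit 8255), (nat_lit 8257), (nat_lit 8255)],
  [(nat_lit 8256), (nat_lit 8256), (nat_lit 8256), (nat_lit 8128), (nat_lit 8256), (nat_lit 8257), (nat_lit 8256), (nat_lit 8256), (nat_lit 8257), (nat_lit 8256), (nat_lit 8256), (nat_lit 8257), (nat_lit 8256), (nat_lit 8257), (nat_lit 8256), (nat_lit 8256), (nat_lit 8256), (nat_lit 8256), (nat_lit 8128), (nat_lit 8256), (nat_lit 8256), (nat_lit 8256), (nat_lit 8256), (nat_lit 8256), (nat_lit 8256), (nat_lit 8256), (nat_lit 8256), (nat_lit 8256)],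
  [(nat_lit 8256), (nat_lit 8256), (nat_lit 8256), (nat_lit 8384), (nat_lit 8256), (nat_lit 8256), (nat_lit 8256), (nat_lit 8255), (nat_lit 8257), (nat_lit 8128), (nat_lit 8256), (nat_lit 8256), (nat_lit 8256), (nat_lit 8384), (nat_lit 8384), (nat_lit 8256), (nat_lit 8384), (nat_lit 8256), (nat_lit 8255), (nat_lit 8256), (nat_lit 8256), (nat_lit 8256), (nat_lit 8256), (nat_lit 8256), (nat_lit 8256), (nat_lit 8256), (nat_lit 8384), (nat_lit 8257)],
  [(nat_lit 8256), (nat_lit 8256), (nat_lit 8256), (nat_lit 8256), (nat_lit 8256), (nat_lit 8256), (nat_lit 8256), (nat_lit 8257), (nat_lit 8256), (nat_lit 8255), (nat_lit 8257), (nat_lit 8256), (nat_lit 8255), (nat_lit 8256), (nat_lit 8255), (nat_lit 8256), (nat_lit 8257), (nat_lit 8257), (nat_lit 8256), (nat_lit 8256), (nat_lit 8256), (nat_lit 8256), (nat_lit 8256), (nat_lit 8256), (nat_lit 8256), (nat_lit 8256), (nat_lit 8255), (nat_lit 8384)],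
  [(nat_lit 8256), (nat_lit 8256), (nat_lit 8256), (nat_lit 8256), (nat_lit 8256), (nat_lit 8255), (nat_lit 8256), (nat_lit 8256), (nat_lit 8256), (nat_lit 8256), (nat_lit 8128), (nat_lit 8255), (nat_lit 8255), (nat_lit 8256), (nat_lit 8256), (nat_lit 8256), (nat_lit 8256), (nat_lit 8128), (nat_lit 8256), (nat_lit 8256), (nat_lit 8256), (nat_lit 8256), (nat_lit 8256), (nat_lit 8256), (nat_lit 8256), (nat_lit 8256), (nat_lit 8256), (nat_lit 8256)],
  [(nat_lit 8256), (nat_lit 8256), (nat_lit 8256), (nat_lit 8256), (nat_lit 8256), (nat_lit 8257), (nat_lit 8256), (nat_lit 8256), (nat_lit 8128), (nat_lit 8256), (nat_lit 8257), (nat_lit 8257), (nat_lit 8256), (nat_lit 8256), (nat_lit 8257), (nat_lit 8256), (nat_lit 8128), (nat_lit 8257), (nat_lit 8256), (nat_lit 8256), (nat_lit 8256), (nat_lit 8256), (nat_lit 8256), (nat_lit 8256), (nat_lit 8256), (nat_lit 8256), (nat_lit 8128), (nat_lit 8256)],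
  [(nat_lit 8256), (nat_lit 8256), (nat_lit 8256), (nat_lit 8256), (nat_lit 8256), (nat_lit 8255), (nat_lit 8256), (nat_lit 8257), (nat_lit 8255), (nat_lit 8256), (nat_lit 8128), (nat_lit 8255), (nat_lit 8257), (nat_lit 8128), (nat_lit 8257), (nat_lit 8256), (nat_lit 8128), (nat_lit 8128), (nat_lit 8257), (nat_lit 8256), (nat_lit 8256), (nat_lit 8256), (nat_lit 8256), (nat_lit 8256), (nat_lit 8256), (nat_lit 8256), (nat_lit 8384), (nat_lit 8256)],
  [(nat_lit 8256), (nat_lit 8256), (nat_lit 8256), (nat_lit 8257), (nat_lit 8256), (nat_lit 8256), (nat_lit 8256), (nat_lit 8256), (nat_lit 8256), (nat_lit 8255), (nat_lit 8256), (nat_lit 8256), (nat_lit 8256), (nat_lit 8256), (nat_lit 8256), (nat_lit 8256), (nat_lit 8256), (nat_lit 8256), (nat_lit 8256), (nat_lit 8256), (nat_lit 8256), (nat_lit 8256), (nat_lit 8256), (nat_lit 8256), (nat_lit 8256), (nat_lit 8256), (nat_lit 8256), (nat_lit 8384)],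
  [(nat_lit 8256), (nat_lit 8256), (nat_lit 8256), (nat_lit 8257), (nat_lit 8256), (nat_lit 8256), (nat_lit 8256), (nat_lit 8255), (nat_lit 8256), (nat_lit 8128), (nat_lit 8256), (nat_lit 8256), (nat_lit 8128), (nat_lit 8257), (nat_lit 8256), (nat_lit 8256), (nat_lit 8256), (nat_lit 8256), (nat_lit 8128), (nat_lit 8256), (nat_lit 8256), (nat_lit 8256), (nat_lit 8256), (nat_lit 8256), (nat_lit 8256), (nat_lit 8256), (nat_lit 8256), (nat_lit 8255)],
  [(nat_lit 8256), (nat_lit 8255), (nat_lit 8255), (nat_lit 8256), (nat_lit 8255), (nat_lit 8256), (nat_lit 8128), (nat_lit 8257), (nat_lit 8256), (nat_lit 8128), (nat_lit 8256), (nat_lit 8256), (nat_lit 8256), (nat_lit 8128), (nat_lit 8128), (nat_lit 8255), (nat_lit 8384), (nat_lit 8256), (nat_lit 8255), (nat_lit 8128), (nat_lit 8257), (nat_lit 8384), (nat_lit 8257), (nat_lit 8128), (nat_lit 8255), (nat_lit 8384), (nat_lit 8256), (nat_lit 8384)],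
  [(nat_lit 8256), (nat_lit 8255), (nat_lit 8257), (nat_lit 8257), (nat_lit 8257), (nat_lit 8256), (nat_lit 8128), (nat_lit 8257), (nat_lit 8128), (nat_lit 8255), (nat_lit 8255), (nat_lit 8256), (nat_lit 8257), (nat_lit 8256), (nat_lit 8257), (nat_lit 8255), (nat_lit 8257), (nat_lit 8257), (nat_lit 8256), (nat_lit 8128), (nat_lit 8255), (nat_lit 8128), (nat_lit 8257), (nat_lit 8128), (nat_lit 8257), (nat_lit 8128), (nat_lit 8256), (nat_lit 8257)],
  [(nat_lit 8256), (nat_lit 8128), (nat_lit 8128), (nat_lit 8256), (nat_lit 8384), (nat_lit 8257), (nat_lit 8255), (nat_lit 8257), (nat_lit 8256), (nat_lit 8256), (nat_lit 8256), (nat_lit 8255), (nat_lit 8257), (nat_lit 8256), (nat_lit 8256), (nat_lit 8128), (nat_lit 8256), (nat_lit 8256), (nat_lit 8256), (nat_lit 8257), (nat_lit 8128), (nat_lit 8255), (nat_lit 8128), (nat_lit 8255), (nat_lit 8128), (nat_lit 8257), (nat_lit 8255), (nat_lit 8256)],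
  [(nat_lit 8256), (nat_lit 8257), (nat_lit 8255), (nat_lit 8128), (nat_lit 8257), (nat_lit 8255), (nat_lit 8128), (nat_lit 8257), (nat_lit 8255), (nat_lit 8256), (nat_lit 8128), (nat_lit 8257), (nat_lit 8256), (nat_lit 8257), (nat_lit 8256), (nat_lit 8257), (nat_lit 8256), (nat_lit 8384), (nat_lit 8384), (nat_lit 8384), (nat_lit 8255), (nat_lit 8384), (nat_lit 8257), (nat_lit 8128), (nat_lit 8255), (nat_lit 8128), (nat_lit 8255), (nat_lit 8256)],
  [(nat_lit 8256), (nat_lit 8256), (nat_lit 8256), (nat_lit 8384), (nat_lit 8256), (nat_lit 8257), (nat_lit 8256), (nat_lit 8257), (nat_lit 8256), (nat_lit 8255), (nat_lit 8257), (nat_lit 8257), (nat_lit 8256), (nat_lit 8255), (nat_lit 8128), (nat_lit 8256), (nat_lit 8256), (nat_lit 8257), (nat_lit 8384), (nat_lit 8256), (nat_lit 8256), (nat_lit 8256), (nat_lit 8256), (nat_lit 8256), (nat_lit 8256), (nat_lit 8256), (nat_lit 8256), (nat_lit 8128)],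
  [(nat_lit 8256), (nat_lit 8256), (nat_lit 8256), (nat_lit 8256), (nat_lit 8256), (nat_lit 8256), (nat_lit 8256), (nat_lit 8256), (nat_lit 8384), (nat_lit 8256), (nat_lit 8256), (nat_lit 8256), (nat_lit 8128), (nat_lit 8256), (nat_lit 8256), (nat_lit 8256), (nat_lit 8384), (nat_lit 8256), (nat_lit 8256), (nat_lit 8256), (nat_lit 8256), (nat_lit 8256), (nat_lit 8256), (nat_lit 8256), (nat_lit 8256), (nat_lit 8256), (nat_lit 8384), (nat_lit 8256)],
  [(nat_lit 8256), (nat_lit 8256), (nat_lit 8256), (nat_lit 8256), (nat_lit 8256), (nat_lit 8255), (nat_lit 8256), (nat_lit 8256), (nat_lit 8384), (nat_lit 8257), (nat_lit 8256), (nat_lit 8255), (nat_lit 8256), (nat_lit 8128), (nat_lit 8384), (nat_lit 8256), (nat_lit 8256), (nat_lit 8256), (nat_lit 8257), (nat_lit 8256), (nat_lit 8256), (nat_lit 8256), (nat_lit 8256), (nat_lit 8256), (nat_lit 8256), (nat_lit 8256), (nat_lit 8256), (nat_lit 8384)],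
  [(nat_lit 8256), (nat_lit 8256), (nat_lit 8256), (nat_lit 8255), (nat_lit 8256), (nat_lit 8256), (nat_lit 8256), (nat_lit 8255), (nat_lit 8256), (nat_lit 8256), (nat_lit 8384), (nat_lit 8256), (nat_lit 8128), (nat_lit 8256), (nat_lit 8256), (nat_lit 8256), (nat_lit 8257), (nat_lit 8384), (nat_lit 8256), (nat_lit 8256), (nat_lit 8256), (nat_lit 8256), (nat_lit 8256), (nat_lit 8256), (nat_lit 8256), (nat_lit 8256), (nat_lit 8257), (nat_lit 8256)],
  [(nat_lit 8256), (nat_lit 8255), (nat_lit 8255), (nat_lit 8256), (nat_lit 8255), (nat_lit 8256), (nat_lit 8128), (nat_lit 8257), (nat_lit 8256), (nat_lit 8256), (nat_lit 8256), (nat_lit 8256), (nat_lit 8384), (nat_lit 8128), (nat_lit 8256), (nat_lit 8128), (nat_lit 8257), (nat_lit 8256), (nat_lit 8384), (nat_lit 8257), (nat_lit 8384), (nat_lit 8255), (nat_lit 8128), (nat_lit 8255), (nat_lit 8384), (nat_lit 8257), (nat_lit 8384), (nat_lit 8128)],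
  [(nat_lit 8256), (nat_lit 8128), (nat_lit 8384), (nat_lit 8128), (nat_lit 8128), (nat_lit 8257), (nat_lit 8255), (nat_lit 8255), (nat_lit 8128), (nat_lit 8255), (nat_lit 8255), (nat_lit 8255), (nat_lit 8257), (nat_lit 8384), (nat_lit 8384), (nat_lit 8255), (nat_lit 8256), (nat_lit 8257), (nat_lit 8128), (nat_lit 8128), (nat_lit 8257), (nat_lit 8128), (nat_lit 8257), (nat_lit 8128), (nat_lit 8255), (nat_lit 8128), (nat_lit 8256), (nat_lit 8256)],
  [(nat_lit 8256), (nat_lit 8257), (nat_lit 8255), (nat_lit 8256), (nat_lit 8255), (nat_lit 8255), (nat_lit 8128), (nat_lit 8256), (nat_lit 8256), (nat_lit 8257), (nat_lit 8256), (nat_lit 8257), (nat_lit 8257), (nat_lit 8255), (nat_lit 8128), (nat_lit 8128), (nat_lit 8256), (nat_lit 8256), (nat_lit 8257), (nat_lit 8255), (nat_lit 8128), (nat_lit 8255), (nat_lit 8128), (nat_lit 8257), (nat_lit 8128), (nat_lit 8257), (nat_lit 8256), (nat_lit 8256)],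
  [(nat_lit 8256), (nat_lit 8255), (nat_lit 8255), (nat_lit 8384), (nat_lit 8257), (nat_lit 8256), (nat_lit 8128), (nat_lit 8256), (nat_lit 8384), (nat_lit 8256), (nat_lit 8255), (nat_lit 8256), (nat_lit 8128), (nat_lit 8255), (nat_lit 8256), (nat_lit 8128), (nat_lit 8384), (nat_lit 8257), (nat_lit 8257), (nat_lit 8255), (nat_lit 8128), (nat_lit 8257), (nat_lit 8384), (nat_lit 8255), (nat_lit 8384), (nat_lit 8257), (nat_lit 8257), (nat_lit 8257)],
  [(nat_lit 8256), (nat_lit 8255), (nat_lit 8255), (nat_lit 8255), (nat_lit 8255), (nat_lit 8256), (nat_lit 8255), (nat_lit 8256), (nat_lit 8384), (nat_lit 8257), (nat_lit 8128), (nat_lit 8256), (nat_lit 8256), (nat_lit 8384), (nat_lit 8256), (nat_lit 8128), (nat_lit 8256), (nat_lit 8384), (nat_lit 8257), (nat_lit 8384), (nat_lit 8128), (nat_lit 8384), (nat_lit 8384), (nat_lit 8128), (nat_lit 8384), (nat_lit 8128), (nat_lit 8128), (nat_lit 8256)],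
  [(nat_lit 8256), (nat_lit 8257), (nat_lit 8257), (nat_lit 8255), (nat_lit 8255), (nat_lit 8255), (nat_lit 8257), (nat_lit 8256), (nat_lit 8255), (nat_lit 8256), (nat_lit 8128), (nat_lit 8257), (nat_lit 8257), (nat_lit 8256), (nat_lit 8255), (nat_lit 8128), (nat_lit 8384), (nat_lit 8384), (nat_lit 8256), (nat_lit 8128), (nat_lit 8384), (nat_lit 8128), (nat_lit 8128), (nat_lit 8128), (nat_lit 8384), (nat_lit 8128), (nat_lit 8256), (nat_lit 8255)],
  [(nat_lit 8256), (nat_lit 8255), (nat_lit 8257), (nat_lit 8257), (nat_lit 8255), (nat_lit 8256), (nat_lit 8255), (nat_lit 8255), (nat_lit 8257), (nat_lit 8384), (nat_lit 8257), (nat_lit 8256), (nat_lit 8128), (nat_lit 8256), (nat_lit 8256), (nat_lit 8128), (nat_lit 8256), (nat_lit 8255), (nat_lit 8256), (nat_lit 8128), (nat_lit 8128), (nat_lit 8384), (nat_lit 8128), (nat_lit 8128), (nat_lit 8128), (nat_lit 8384), (nat_lit 8257), (nat_lit 8256)],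
  [(nat_lit 8256), (nat_lit 8128), (nat_lit 8384), (nat_lit 8257), (nat_lit 8384), (nat_lit 8257), (nat_lit 8128), (nat_lit 8257), (nat_lit 8384), (nat_lit 8256), (nat_lit 8255), (nat_lit 8255), (nat_lit 8256), (nat_lit 8384), (nat_lit 8255), (nat_lit 8255), (nat_lit 8384), (nat_lit 8257), (nat_lit 8255), (nat_lit 8257), (nat_lit 8257), (nat_lit 8255), (nat_lit 8257), (nat_lit 8255), (nat_lit 8255), (nat_lit 8257), (nat_lit 8256), (nat_lit 8255)]]
noncomputable def As : List (List Nat) := [[(nat_lit 8255), (nat_lit 8256), (nat_lit 8256), (nat_lit 8382), (nat_lit 8256), (nat_lit 8256), (nat_lit 8256), (nat_lit 8001), (nat_lit 8510), (nat_lit 8256), (nat_lit 8256), (nat_lit 8256), (nat_lit 8129), (nat_lit 8256), (nat_lit 7997), (nat_lit 8256), (nat_lit 8255), (nat_lit 8256), (nat_lit 8257), (nat_lit 8256), (nat_lit 8256), (nat_lit 8256), (nat_lit 8256), (nat_lit 8256), (nat_lit 8256), (nat_lit 8256), (nat_lit 8383), (nat_lit 8000)],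
  [(nat_lit 8256), (nat_lit 8255), (nat_lit 8256), (nat_lit 8001), (nat_lit 8256), (nat_lit 8256), (nat_lit 8256), (nat_lit 8512), (nat_lit 7874), (nat_lit 8256), (nat_lit 8256), (nat_lit 8256), (nat_lit 8639), (nat_lit 8129), (nat_lit 8387), (nat_lit 8256), (nat_lit 8130), (nat_lit 8256), (nat_lit 8256), (nat_lit 8256), (nat_lit 8256), (nat_lit 8256), (nat_lit 8256), (nat_lit 8256), (nat_lit 8256), (nat_lit 8256), (nat_lit 8000), (nat_lit 8258)],
  [(nat_lit 8256), (nat_lit 8256), (nat_lit 8255), (nat_lit 8383), (nat_lit 8256), (nat_lit 8256), (nat_lit 8256), (nat_lit 8129), (nat_lit 8255), (nat_lit 8127), (nat_lit 8256), (nat_lit 8256), (nat_lit 8257), (nat_lit 8127), (nat_lit 8128), (nat_lit 8256), (nat_lit 8256), (nat_lit 8256), (nat_lit 8256), (nat_lit 8256), (nat_lit 8256), (nat_lit 8256), (nat_lit 8256), (nat_lit 8256), (nat_lit 8256), (nat_lit 8256), (nat_lit 8383), (nat_lit 8257)],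
  [(nat_lit 8256), (nat_lit 8256), (nat_lit 8256), (nat_lit 8257), (nat_lit 8256), (nat_lit 8256), (nat_lit 8256), (nat_lit 8256), (nat_lit 8256), (nat_lit 8256), (nat_lit 8256), (nat_lit 8256), (nat_lit 8256), (nat_lit 8256), (nat_lit 8256), (nat_lit 8256), (nat_lit 8256), (nat_lit 8256), (nat_lit 8256), (nat_lit 8256), (nat_lit 8256), (nat_lit 8256), (nat_lit 8256), (nat_lit 8256), (nat_lit 8256), (nat_lit 8256), (nat_lit 8256), (nat_lit 8256)],
  [(nat_lit 8256), (nat_lit 8256), (nat_lit 8256), (nat_lit 8128), (nat_lit 8255), (nat_lit 8256), (nat_lit 8256), (nat_lit 8255), (nat_lit 8002), (nat_lit 8256), (nat_lit 8256), (nat_lit 8256), (nat_lit 8254), (nat_lit 8385), (nat_lit 8255), (nat_lit 8256), (nat_lit 8384), (nat_lit 8256), (nat_lit 8126), (nat_lit 8256), (nat_lit 8256), (nat_lit 8256), (nat_lit 8256), (nat_lit 8256), (nat_lit 8256), (nat_lit 8256), (nat_lit 8000), (nat_lit 8257)],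
  [(nat_lit 8256), (nat_lit 8256), (nat_lit 8256), (nat_lit 8258), (nat_lit 8256), (nat_lit 8256), (nat_lit 8256), (nat_lit 8382), (nat_lit 8388), (nat_lit 8129), (nat_lit 8256), (nat_lit 8257), (nat_lit 8254), (nat_lit 8385), (nat_lit 8640), (nat_lit 8256), (nat_lit 8385), (nat_lit 8256), (nat_lit 8129), (nat_lit 8256), (nat_lit 8256), (nat_lit 8256), (nat_lit 8256), (nat_lit 8256), (nat_lit 8256), (nat_lit 8256), (nat_lit 8130), (nat_lit 8511)],
  [(nat_lit 8256), (nat_lit 8256), (nat_lit 8256), (nat_lit 8384), (nat_lit 8256), (nat_lit 8256), (nat_lit 8255), (nat_lit 7999), (nat_lit 8639), (nat_lit 8385), (nat_lit 8256), (nat_lit 8256), (nat_lit 8127), (nat_lit 8383), (nat_lit 8382), (nat_lit 8256), (nat_lit 8384), (nat_lit 8256), (nat_lit 8513), (nat_lit 8256), (nat_lit 8256), (nat_lit 8256), (nat_lit 8256), (nat_lit 8256), (nat_lit 8256), (nat_lit 8256), (nat_lit 8385), (nat_lit 8254)],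
  [(nat_lit 8256), (nat_lit 8256), (nat_lit 8256), (nat_lit 8256), (nat_lit 8256), (nat_lit 8256), (nat_lit 8256), (nat_lit 8257), (nat_lit 8256), (nat_lit 8256), (nat_lit 8256), (nat_lit 8256), (nat_lit 8256), (nat_lit 8256), (nat_lit 8256), (nat_lit 8256), (nat_lit 8256), (nat_lit 8256), (nat_lit 8256), (nat_lit 8256), (nat_lit 8256), (nat_lit 8256), (nat_lit 8256), (nat_lit 8256), (nat_lit 8256), (nat_lit 8256), (nat_lit 8256), (nat_lit 8256)],
  [(nat_lit 8256), (nat_lit 8256), (nat_lit 8256), (nat_lit 8255), (nat_lit 8256), (nat_lit 8256), (nat_lit 8256), (nat_lit 8258), (nat_lit 8255), (nat_lit 8256), (nat_lit 8256), (nat_lit 8256), (nat_lit 8257), (nat_lit 8127), (nat_lit 8001), (nat_lit 8256), (nat_lit 8255), (nat_lit 8256), (nat_lit 8256), (nat_lit 8256), (nat_lit 8256), (nat_lit 8256), (nat_lit 8256), (nat_lit 8256), (nat_lit 8256), (nat_lit 8256), (nat_lit 8256), (nat_lit 8256)],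
  [(nat_lit 8256), (nat_lit 8256), (nat_lit 8256), (nat_lit 8256), (nat_lit 8256), (nat_lit 8256), (nat_lit 8256), (nat_lit 8256), (nat_lit 8256), (nat_lit 8257), (nat_lit 8256), (nat_lit 8256), (nat_lit 8256), (nat_lit 8256), (nat_lit 8256), (nat_lit 8256), (nat_lit 8256), (nat_lit 8256), (nat_lit 8256), (nat_lit 8256), (nat_lit 8256), (nat_lit 8256), (nat_lit 8256), (nat_lit 8256), (nat_lit 8256), (nat_lit 8256), (nat_lit 8256), (nat_lit 8256)],
  [(nat_lit 8256), (nat_lit 8256), (nat_lit 8256), (nat_lit 8256), (nat_lit 8256), (nat_lit 8256), (nat_lit 8256), (nat_lit 8127), (nat_lit 8385), (nat_lit 8257), (nat_lit 8256), (nat_lit 8256), (nat_lit 8256), (nat_lit 8384), (nat_lit 8255), (nat_lit 8256), (nat_lit 8256), (nat_lit 8257), (nat_lit 8257), (nat_lit 8256), (nat_lit 8256), (nat_lit 8256), (nat_lit 8256), (nat_lit 8256), (nat_lit 8256), (nat_lit 8256), (nat_lit 8256), (nat_lit 8256)],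
  [(nat_lit 8256), (nat_lit 8256), (nat_lit 8256), (nat_lit 8254), (nat_lit 8256), (nat_lit 8257), (nat_lit 8256), (nat_lit 8130), (nat_lit 8124), (nat_lit 8383), (nat_lit 8256), (nat_lit 8256), (nat_lit 8258), (nat_lit 8127), (nat_lit 7872), (nat_lit 8256), (nat_lit 8127), (nat_lit 8256), (nat_lit 8383), (nat_lit 8256), (nat_lit 8256), (nat_lit 8256), (nat_lit 8256), (nat_lit 8256), (nat_lit 8256), (nat_lit 8256), (nat_lit 8382), (nat_lit 8001)],
  [(nat_lit 8256), (nat_lit 8256), (nat_lit 8256), (nat_lit 8128), (nat_lit 8256), (nat_lit 8256), (nat_lit 8256), (nat_lit 8512), (nat_lit 8000), (nat_lit 8256), (nat_lit 8256), (nat_lit 8256), (nat_lit 8385), (nat_lit 8129), (nat_lit 8386), (nat_lit 8256), (nat_lit 8128), (nat_lit 8256), (nat_lit 8256), (nat_lit 8256), (nat_lit 8256), (nat_lit 8256), (nat_lit 8256), (nat_lit 8256), (nat_lit 8256), (nat_lit 8256), (nat_lit 8256), (nat_lit 8256)],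
  [(nat_lit 8256), (nat_lit 8256), (nat_lit 8256), (nat_lit 8256), (nat_lit 8256), (nat_lit 8256), (nat_lit 8256), (nat_lit 8256), (nat_lit 8256), (nat_lit 8256), (nat_lit 8256), (nat_lit 8256), (nat_lit 8256), (nat_lit 8257), (nat_lit 8256), (nat_lit 8256), (nat_lit 8256), (nat_lit 8256), (nat_lit 8256), (nat_lit 8256), (nat_lit 8256), (nat_lit 8256), (nat_lit 8256), (nat_lit 8256), (nat_lit 8256), (nat_lit 8256), (nat_lit 8256), (nat_lit 8256)],
  [(nat_lit 8256), (nat_lit 8256), (nat_lit 8256), (nat_lit 8256), (nat_lit 8256), (nat_lit 8256), (nat_lit 8256), (nat_lit 8256), (nat_lit 8256), (nat_lit 8256), (nat_lit 8256), (nat_lit 8256), (nat_lit 8256), (nat_lit 8256), (nat_lit 8257), (nat_lit 8256), (nat_lit 8256), (nat_lit 8256), (nat_lit 8256), (nat_lit 8256), (nat_lit 8256), (nat_lit 8256), (nat_lit 8256), (nat_lit 8256), (nat_lit 8256), (nat_lit 8256), (nat_lit 8256), (nat_lit 8256)],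
  [(nat_lit 8256), (nat_lit 8256), (nat_lit 8256), (nat_lit 8385), (nat_lit 8256), (nat_lit 8256), (nat_lit 8256), (nat_lit 8384), (nat_lit 8513), (nat_lit 8129), (nat_lit 8256), (nat_lit 8256), (nat_lit 8128), (nat_lit 8256), (nat_lit 8384), (nat_lit 8255), (nat_lit 8256), (nat_lit 8256), (nat_lit 8129), (nat_lit 8256), (nat_lit 8256), (nat_lit 8256), (nat_lit 8256), (nat_lit 8256), (nat_lit 8256), (nat_lit 8256), (nat_lit 8385), (nat_lit 8382)],
  [(nat_lit 8256), (nat_lit 8256), (nat_lit 8256), (nat_lit 8128), (nat_lit 8256), (nat_lit 8256), (nat_lit 8256), (nat_lit 8512), (nat_lit 8000), (nat_lit 8256), (nat_lit 8256), (nat_lit 8256), (nat_lit 8384), (nat_lit 8129), (nat_lit 8386), (nat_lit 8256), (nat_lit 8129), (nat_lit 8256), (nat_lit 8256), (nat_lit 8256), (nat_lit 8256), (nat_lit 8256), (nat_lit 8256), (nat_lit 8256), (nat_lit 8256), (nat_lit 8256), (nat_lit 8256), (nat_lit 8256)],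
  [(nat_lit 8256), (nat_lit 8256), (nat_lit 8256), (nat_lit 8257), (nat_lit 8256), (nat_lit 8256), (nat_lit 8256), (nat_lit 8383), (nat_lit 8129), (nat_lit 8255), (nat_lit 8257), (nat_lit 8256), (nat_lit 8255), (nat_lit 8257), (nat_lit 8512), (nat_lit 8256), (nat_lit 8257), (nat_lit 8256), (nat_lit 8255), (nat_lit 8256), (nat_lit 8256), (nat_lit 8256), (nat_lit 8256), (nat_lit 8256), (nat_lit 8256), (nat_lit 8256), (nat_lit 8256), (nat_lit 8256)],
  [(nat_lit 8256), (nat_lit 8256), (nat_lit 8256), (nat_lit 8384), (nat_lit 8256), (nat_lit 8256), (nat_lit 8256), (nat_lit 8000), (nat_lit 8512), (nat_lit 8256), (nat_lit 8256), (nat_lit 8256), (nat_lit 8128), (nat_lit 8383), (nat_lit 8126), (nat_lit 8256), (nat_lit 8384), (nat_lit 8256), (nat_lit 8257), (nat_lit 8256), (nat_lit 8256), (nat_lit 8256), (nat_lit 8256), (nat_lit 8256), (nat_lit 8256), (nat_lit 8256), (nat_lit 8256), (nat_lit 8256)],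
  [(nat_lit 8256), (nat_lit 8256), (nat_lit 8256), (nat_lit 8256), (nat_lit 8256), (nat_lit 8256), (nat_lit 8256), (nat_lit 8255), (nat_lit 8254), (nat_lit 8512), (nat_lit 8256), (nat_lit 8256), (nat_lit 8255), (nat_lit 8256), (nat_lit 8256), (nat_lit 8256), (nat_lit 8257), (nat_lit 8256), (nat_lit 8512), (nat_lit 8255), (nat_lit 8256), (nat_lit 8256), (nat_lit 8256), (nat_lit 8256), (nat_lit 8256), (nat_lit 8256), (nat_lit 8256), (nat_lit 8129)],
  [(nat_lit 8256), (nat_lit 8256), (nat_lit 8256), (nat_lit 8383), (nat_lit 8256), (nat_lit 8256), (nat_lit 8256), (nat_lit 8002), (nat_lit 8253), (nat_lit 8383), (nat_lit 8256), (nat_lit 8256), (nat_lit 8000), (nat_lit 8255), (nat_lit 7871), (nat_lit 8256), (nat_lit 8383), (nat_lit 8256), (nat_lit 8382), (nat_lit 8256), (nat_lit 8255), (nat_lit 8256), (nat_lit 8256), (nat_lit 8256), (nat_lit 8256), (nat_lit 8256), (nat_lit 8383), (nat_lit 8129)],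
  [(nat_lit 8256), (nat_lit 8256), (nat_lit 8256), (nat_lit 8256), (nat_lit 8256), (nat_lit 8256), (nat_lit 8256), (nat_lit 8385), (nat_lit 8254), (nat_lit 8384), (nat_lit 8256), (nat_lit 8256), (nat_lit 8257), (nat_lit 8256), (nat_lit 8258), (nat_lit 8256), (nat_lit 8128), (nat_lit 8256), (nat_lit 8384), (nat_lit 8256), (nat_lit 8256), (nat_lit 8255), (nat_lit 8256), (nat_lit 8256), (nat_lit 8256), (nat_lit 8256), (nat_lit 8384), (nat_lit 8255)],
  [(nat_lit 8256), (nat_lit 8256), (nat_lit 8256), (nat_lit 8511), (nat_lit 8256), (nat_lit 8256), (nat_lit 8256), (nat_lit 7872), (nat_lit 8639), (nat_lit 8256), (nat_lit 8256), (nat_lit 8256), (nat_lit 7874), (nat_lit 8381), (nat_lit 7997), (nat_lit 8256), (nat_lit 8254), (nat_lit 8256), (nat_lit 8129), (nat_lit 8256), (nat_lit 8256), (nat_lit 8256), (nat_lit 8255), (nat_lit 8256), (nat_lit 8256), (nat_lit 8256), (nat_lit 8513), (nat_lit 8127)],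
  [(nat_lit 8256), (nat_lit 8256), (nat_lit 8256), (nat_lit 8258), (nat_lit 8256), (nat_lit 8256), (nat_lit 8256), (nat_lit 8383), (nat_lit 8259), (nat_lit 8255), (nat_lit 8256), (nat_lit 8256), (nat_lit 7998), (nat_lit 8385), (nat_lit 8512), (nat_lit 8256), (nat_lit 8384), (nat_lit 8256), (nat_lit 7999), (nat_lit 8256), (nat_lit 8256), (nat_lit 8256), (nat_lit 8256), (nat_lit 8255), (nat_lit 8256), (nat_lit 8256), (nat_lit 8130), (nat_lit 8384)],
  [(nat_lit 8256), (nat_lit 8256), (nat_lit 8256), (nat_lit 7999), (nat_lit 8256), (nat_lit 8256), (nat_lit 8256), (nat_lit 8384), (nat_lit 7871), (nat_lit 8256), (nat_lit 8256), (nat_lit 8256), (nat_lit 8384), (nat_lit 8257), (nat_lit 8256), (nat_lit 8256), (nat_lit 8256), (nat_lit 8256), (nat_lit 8254), (nat_lit 8256), (nat_lit 8256), (nat_lit 8256), (nat_lit 8256), (nat_lit 8256), (nat_lit 8255), (nat_lit 8256), (nat_lit 8126), (nat_lit 8128)],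
  [(nat_lit 8256), (nat_lit 8256), (nat_lit 8256), (nat_lit 8253), (nat_lit 8256), (nat_lit 8256), (nat_lit 8256), (nat_lit 8258), (nat_lit 7995), (nat_lit 8383), (nat_lit 8256), (nat_lit 8256), (nat_lit 8258), (nat_lit 8000), (nat_lit 8001), (nat_lit 8256), (nat_lit 8127), (nat_lit 8256), (nat_lit 8382), (nat_lit 8256), (nat_lit 8256), (nat_lit 8256), (nat_lit 8256), (nat_lit 8256), (nat_lit 8256), (nat_lit 8255), (nat_lit 8381), (nat_lit 8000)],
  [(nat_lit 8256), (nat_lit 8256), (nat_lit 8256), (nat_lit 8257), (nat_lit 8256), (nat_lit 8256), (nat_lit 8256), (nat_lit 8254), (nat_lit 8258), (nat_lit 8256), (nat_lit 8256), (nat_lit 8256), (nat_lit 8255), (nat_lit 8385), (nat_lit 8511), (nat_lit 8256), (nat_lit 8257), (nat_lit 8256), (nat_lit 8256), (nat_lit 8256), (nat_lit 8256), (nat_lit 8256), (nat_lit 8256), (nat_lit 8256), (nat_lit 8256), (nat_lit 8256), (nat_lit 8257), (nat_lit 8256)],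
  [(nat_lit 8256), (nat_lit 8256), (nat_lit 8256), (nat_lit 8256), (nat_lit 8256), (nat_lit 8256), (nat_lit 8256), (nat_lit 8256), (nat_lit 8256), (nat_lit 8256), (nat_lit 8256), (nat_lit 8256), (nat_lit 8256), (nat_lit 8256), (nat_lit 8256), (nat_lit 8256), (nat_lit 8256), (nat_lit 8256), (nat_lit 8256), (nat_lit 8256), (nat_lit 8256), (nat_lit 8256), (nat_lit 8256), (nat_lit 8256), (nat_lit 8256), (nat_lit 8256), (nat_lit 8256), (nat_lit 8257)]]
noncomputable def Qh : List (List Nat) := [[(nat_lit 8256), (nat_lit 8256), (nat_lit 8256), (nat_lit 8128), (nat_lit 8256), (nat_lit 8257), (nat_lit 8256), (nat_lit 8256), (nat_lit 8257), (nat_lit 8256), (nat_lit 8256), (nat_lit 8257), (nat_lit 8256), (nat_lit 8257), (nat_lit 8256), (nat_lit 8256), (nat_lit 8256), (nat_lit 8256), (nat_lit 8128), (nat_lit 8256), (nat_lit 8256), (nat_lit 8256), (nat_lit 8256), (nat_lit 8256), (nat_lit 8256), (nat_lit 8256), (nat_lit 8256), (nat_lit 8256)],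
  [(nat_lit 8256), (nat_lit 8256), (nat_lit 8256), (nat_lit 8384), (nat_lit 8256), (nat_lit 8256), (nat_lit 8256), (nat_lit 8255), (nat_lit 8257), (nat_lit 8128), (nat_lit 8256), (nat_lit 8256), (nat_lit 8256), (nat_lit 8384), (nat_lit 8384), (nat_lit 8256), (nat_lit 8384), (nat_lit 8256), (nat_lit 8255), (nat_lit 8256), (nat_lit 8256), (nat_lit 8256), (nat_lit 8256), (nat_lit 8256), (nat_lit 8256), (nat_lit 8256), (nat_lit 8384), (nat_lit 8257)],
  [(nat_lit 8256), (nat_lit 8256), (nat_lit 8256), (nat_lit 8256), (nat_lit 8256), (nat_lit 8256), (nat_lit 8256), (nat_lit 8257), (nat_lit 8256), (nat_lit 8255), (nat_lit 8257), (nat_lit 8256), (nat_lit 8255), (nat_lit 8256), (nat_lit 8255), (nat_lit 8256), (nat_lit 8257), (nat_lit 8257), (nat_lit 8256), (nat_lit 8256), (nat_lit 8256), (nat_lit 8256), (nat_lit 8256), (nat_lit 8256), (nat_lit 8256), (nat_lit 8256), (nat_lit 8255), (nat_lit 8384)],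
  [(nat_lit 8256), (nat_lit 8256), (nat_lit 8256), (nat_lit 8256), (nat_lit 8256), (nat_lit 8255), (nat_lit 8256), (nat_lit 8256), (nat_lit 8256), (nat_lit 8256), (nat_lit 8128), (nat_lit 8255), (nat_lit 8255), (nat_lit 8256), (nat_lit 8256), (nat_lit 8256), (nat_lit 8256), (nat_lit 8128), (nat_lit 8256), (nat_lit 8256), (nat_lit 8256), (nat_lit 8256), (nat_lit 8256), (nat_lit 8256), (nat_lit 8256), (nat_lit 8256), (nat_lit 8256), (nat_lit 8256)],
  [(nat_lit 8256), (nat_lit 8256), (nat_lit 8256), (nat_lit 8256), (nat_lit 8256), (nat_lit 8257), (nat_lit 8256), (nat_lit 8256), (nat_lit 8128), (nat_lit 8256), (nat_lit 8257), (nat_lit 8257), (nat_lit 8256), (nat_lit 8256), (nat_lit 8257), (nat_lit 8256), (nat_lit 8128), (nat_lit 8257), (nat_lit 8256), (nat_lit 8256), (nat_lit 8256), (nat_lit 8256), (nat_lit 8256), (nat_lit 8256), (nat_lit 8256), (nat_lit 8256), (nat_lit 8128), (nat_lit 8256)],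
  [(nat_lit 8256), (nat_lit 8256), (nat_lit 8256), (nat_lit 8256), (nat_lit 8256), (nat_lit 8255), (nat_lit 8256), (nat_lit 8257), (nat_lit 8255), (nat_lit 8256), (nat_lit 8128), (nat_lit 8255), (nat_lit 8257), (nat_lit 8128), (nat_lit 8257), (nat_lit 8256), (nat_lit 8128), (nat_lit 8128), (nat_lit 8257), (nat_lit 8256), (nat_lit 8256), (nat_lit 8256), (nat_lit 8256), (nat_lit 8256), (nat_lit 8256), (nat_lit 8256), (nat_lit 8384), (nat_lit 8256)],
  [(nat_lit 8256), (nat_lit 8256), (nat_lit 8256), (nat_lit 8257), (nat_lit 8256), (nat_lit 8256), (nat_lit 8256), (nat_lit 8256), (nat_lit 8256), (nat_lit 8255), (nat_lit 8256), (nat_lit 8256), (nat_lit 8256), (nat_lit 8256), (nat_lit 8256), (nat_lit 8256), (nat_lit 8256), (nat_lit 8256), (nat_lit 8256), (nat_lit 8256), (nat_lit 8256), (nat_lit 8256), (nat_lit 8256), (nat_lit 8256), (nat_lit 8256), (nat_lit 8256), (nat_lit 8256), (nat_lit 8384)],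
  [(nat_lit 8256), (nat_lit 8256), (nat_lit 8256), (nat_lit 8257), (nat_lit 8256), (nat_lit 8256), (nat_lit 8256), (nat_lit 8255), (nat_lit 8256), (nat_lit 8128), (nat_lit 8256), (nat_lit 8256), (nat_lit 8128), (nat_lit 8257), (nat_lit 8256), (nat_lit 8256), (nat_lit 8256), (nat_lit 8256), (nat_lit 8128), (nat_lit 8256), (nat_lit 8256), (nat_lit 8256), (nat_lit 8256), (nat_lit 8256), (nat_lit 8256), (nat_lit 8256), (nat_lit 8256), (nat_lit 8255)],
  [(nat_lit 8256), (nat_lit 8257), (nat_lit 8257), (nat_lit 8256), (nat_lit 8257), (nat_lit 8256), (nat_lit 8384), (nat_lit 8255), (nat_lit 8256), (nat_lit 8384), (nat_lit 8256), (nat_lit 8256), (nat_lit 8256), (nat_lit 8384), (nat_lit 8384), (nat_lit 8257), (nat_lit 8128), (nat_lit 8256), (nat_lit 8257), (nat_lit 8384), (nat_lit 8255), (nat_lit 8128), (nat_lit 8255), (nat_lit 8384), (nat_lit 8257), (nat_lit 8128), (nat_lit 8256), (nat_lit 8128)],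
  [(nat_lit 8256), (nat_lit 8257), (nat_lit 8255), (nat_lit 8255), (nat_lit 8255), (nat_lit 8256), (nat_lit 8384), (nat_lit 8255), (nat_lit 8384), (nat_lit 8257), (nat_lit 8257), (nat_lit 8256), (nat_lit 8255), (nat_lit 8256), (nat_lit 8255), (nat_lit 8257), (nat_lit 8255), (nat_lit 8255), (nat_lit 8256), (nat_lit 8384), (nat_lit 8257), (nat_lit 8384), (nat_lit 8255), (nat_lit 8384), (nat_lit 8255), (nat_lit 8384), (nat_lit 8256), (nat_lit 8255)],
  [(nat_lit 8256), (nat_lit 8384), (nat_lit 8384), (nat_lit 8256), (nat_lit 8128), (nat_lit 8255), (nat_lit 8257), (nat_lit 8255), (nat_lit 8256), (nat_lit 8256), (nat_lit 8256), (nat_lit 8257), (nat_lit 8255), (nat_lit 8256), (nat_lit 8256), (nat_lit 8384), (nat_lit 8256), (nat_lit 8256), (nat_lit 8256), (nat_lit 8255), (nat_lit 8384), (nat_lit 8257), (nat_lit 8384), (nat_lit 8257), (nat_lit 8384), (nat_lit 8255), (nat_lit 8257), (nat_lit 8256)],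
  [(nat_lit 8256), (nat_lit 8255), (nat_lit 8257), (nat_lit 8384), (nat_lit 8255), (nat_lit 8257), (nat_lit 8384), (nat_lit 8255), (nat_lit 8257), (nat_lit 8256), (nat_lit 8384), (nat_lit 8255), (nat_lit 8256), (nat_lit 8255), (nat_lit 8256), (nat_lit 8255), (nat_lit 8256), (nat_lit 8128), (nat_lit 8128), (nat_lit 8128), (nat_lit 8257), (nat_lit 8128), (nat_lit 8255), (nat_lit 8384), (nat_lit 8257), (nat_lit 8384), (nat_lit 8257), (nat_lit 8256)],
  [(nat_lit 8256), (nat_lit 8256), (nat_lit 8256), (nat_lit 8384), (nat_lit 8256), (nat_lit 8257), (nat_lit 8256), (nat_lit 8257), (nat_lit 8256), (nat_lit 8255), (nat_lit 8257), (nat_lit 8257), (nat_lit 8256), (nat_lit 8255), (nat_lit 8128), (nat_lit 8256), (nat_lit 8256), (nat_lit 8257), (nat_lit 8384), (nat_lit 8256), (nat_lit 8256), (nat_lit 8256), (nat_lit 8256), (nat_lit 8256), (nat_lit 8256), (nat_lit 8256), (nat_lit 8256), (nat_lit 8128)],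
  [(nat_lit 8256), (nat_lit 8256), (nat_lit 8256), (nat_lit 8256), (nat_lit 8256), (nat_lit 8256), (nat_lit 8256), (nat_lit 8256), (nat_lit 8384), (nat_lit 8256), (nat_lit 8256), (nat_lit 8256), (nat_lit 8128), (nat_lit 8256), (nat_lit 8256), (nat_lit 8256), (nat_lit 8384), (nat_lit 8256), (nat_lit 8256), (nat_lit 8256), (nat_lit 8256), (nat_lit 8256), (nat_lit 8256), (nat_lit 8256), (nat_lit 8256), (nat_lit 8256), (nat_lit 8384), (nat_lit 8256)],
  [(nat_lit 8256), (nat_lit 8256), (nat_lit 8256), (nat_lit 8256), (nat_lit 8256), (nat_lit 8255), (nat_lit 8256), (nat_lit 8256), (nat_lit 8384), (nat_lit 8257), (nat_lit 8256), (nat_lit 8255), (nat_lit 8256), (nat_lit 8128), (nat_lit 8384), (nat_lit 8256), (nat_lit 8256), (nat_lit 8256), (nat_lit 8257), (nat_lit 8256), (nat_lit 8256), (nat_lit 8256), (nat_lit 8256), (nat_lit 8256), (nat_lit 8256), (nat_lit 8256), (nat_lit 8256), (nat_lit 8384)],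
  [(nat_lit 8256), (nat_lit 8256), (nat_lit 8256), (nat_lit 8255), (nat_lit 8256), (nat_lit 8256), (nat_lit 8256), (nat_lit 8255), (nat_lit 8256), (nat_lit 8256), (nat_lit 8384), (nat_lit 8256), (nat_lit 8128), (nat_lit 8256), (nat_lit 8256), (nat_lit 8256), (nat_lit 8257), (nat_lit 8384), (nat_lit 8256), (nat_lit 8256), (nat_lit 8256), (nat_lit 8256), (nat_lit 8256), (nat_lit 8256), (nat_lit 8256), (nat_lit 8256), (nat_lit 8257), (nat_lit 8256)],
  [(nat_lit 8256), (nat_lit 8257), (nat_lit 8257), (nat_lit 8256), (nat_lit 8257), (nat_lit 8256), (nat_lit 8384), (nat_lit 8255), (nat_lit 8256), (nat_lit 8256), (nat_lit 8256), (nat_lit 8256), (nat_lit 8128), (nat_lit 8384), (nat_lit 8256), (nat_lit 8384), (nat_lit 8255), (nat_lit 8256), (nat_lit 8128), (nat_lit 8255), (nat_lit 8128), (nat_lit 8257), (nat_lit 8384), (nat_lit 8257), (nat_lit 8128), (nat_lit 8255), (nat_lit 8128), (nat_lit 8384)],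
  [(nat_lit 8256), (nat_lit 8384), (nat_lit 8128), (nat_lit 8384), (nat_lit 8384), (nat_lit 8255), (nat_lit 8257), (nat_lit 8257), (nat_lit 8384), (nat_lit 8257), (nat_lit 8257), (nat_lit 8257), (nat_lit 8255), (nat_lit 8128), (nat_lit 8128), (nat_lit 8257), (nat_lit 8256), (nat_lit 8255), (nat_lit 8384), (nat_lit 8384), (nat_lit 8255), (nat_lit 8384), (nat_lit 8255), (nat_lit 8384), (nat_lit 8257), (nat_lit 8384), (nat_lit 8256), (nat_lit 8256)],
  [(nat_lit 8256), (nat_lit 8255), (nat_lit 8257), (nat_lit 8256), (nat_lit 8257), (nat_lit 8257), (nat_lit 8384), (nat_lit 8256), (nat_lit 8256), (nat_lit 8255), (nat_lit 8256), (nat_lit 8255), (nat_lit 8255), (nat_lit 8257), (nat_lit 8384), (nat_lit 8384), (nat_lit 8256), (nat_lit 8256), (nat_lit 8255), (nat_lit 8257), (nat_lit 8384), (nat_lit 8257), (nat_lit 8384), (nat_lit 8255), (nat_lit 8384), (nat_lit 8255), (nat_lit 8256), (nat_lit 8256)],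
  [(nat_lit 8256), (nat_lit 8257), (nat_lit 8257), (nat_lit 8128), (nat_lit 8255), (nat_lit 8256), (nat_lit 8384), (nat_lit 8256), (nat_lit 8128), (nat_lit 8256), (nat_lit 8257), (nat_lit 8256), (nat_lit 8384), (nat_lit 8257), (nat_lit 8256), (nat_lit 8384), (nat_lit 8128), (nat_lit 8255), (nat_lit 8255), (nat_lit 8257), (nat_lit 8384), (nat_lit 8255), (nat_lit 8128), (nat_lit 8257), (nat_lit 8128), (nat_lit 8255), (nat_lit 8255), (nat_lit 8255)],
  [(nat_lit 8256), (nat_lit 8257), (nat_lit 8257), (nat_lit 8257), (nat_lit 8257), (nat_lit 8256), (nat_lit 8257), (nat_lit 8256), (nat_lit 8128), (nat_lit 8255), (nat_lit 8384), (nat_lit 8256), (nat_lit 8256), (nat_lit 8128), (nat_lit 8256), (nat_lit 8384), (nat_lit 8256), (nat_lit 8128), (nat_lit 8255), (nat_lit 8128), (nat_lit 8384), (nat_lit 8128), (nat_lit 8128), (nat_lit 8384), (nat_lit 8128), (nat_lit 8384), (nat_lit 8384), (nat_lit 8256)],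
  [(nat_lit 8256), (nat_lit 8255), (nat_lit 8255), (nat_lit 8257), (nat_lit 8257), (nat_lit 8257), (nat_lit 8255), (nat_lit 8256), (nat_lit 8257), (nat_lit 8256), (nat_lit 8384), (nat_lit 8255), (nat_lit 8255), (nat_lit 8256), (nat_lit 8257), (nat_lit 8384), (nat_lit 8128), (nat_lit 8128), (nat_lit 8256), (nat_lit 8384), (nat_lit 8128), (nat_lit 8384), (nat_lit 8384), (nat_lit 8384), (nat_lit 8128), (nat_lit 8384), (nat_lit 8256), (nat_lit 8257)],
  [(nat_lit 8256), (nat_lit 8257), (nat_lit 8255), (nat_lit 8255), (nat_lit 8257), (nat_lit 8256), (nat_lit 8257), (nat_lit 8257), (nat_lit 8255), (nat_lit 8128), (nat_lit 8255), (nat_lit 8256), (nat_lit 8384), (nat_lit 8256), (nat_lit 8256), (nat_lit 8384), (nat_lit 8256), (nat_lit 8257), (nat_lit 8256), (nat_lit 8384), (nat_lit 8384), (nat_lit 8128), (nat_lit 8384), (nat_lit 8384), (nat_lit 8384), (nat_lit 8128), (nat_lit 8255), (nat_lit 8256)],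
  [(nat_lit 8256), (nat_lit 8384), (nat_lit 8128), (nat_lit 8255), (nat_lit 8128), (nat_lit 8255), (nat_lit 8384), (nat_lit 8255), (nat_lit 8128), (nat_lit 8256), (nat_lit 8257), (nat_lit 8257), (nat_lit 8256), (nat_lit 8128), (nat_lit 8257), (nat_lit 8257), (nat_lit 8128), (nat_lit 8255), (nat_lit 8257), (nat_lit 8255), (nat_lit 8255), (nat_lit 8257), (nat_lit 8255), (nat_lit 8257), (nat_lit 8257), (nat_lit 8255), (nat_lit 8256), (nat_lit 8257)],
  [(nat_lit 8260), (nat_lit 8128), (nat_lit 8128), (nat_lit 8257), (nat_lit 8128), (nat_lit 8257), (nat_lit 8128), (nat_lit 8255), (nat_lit 8384), (nat_lit 8257), (nat_lit 8384), (nat_lit 8255), (nat_lit 8257), (nat_lit 8255), (nat_lit 8257), (nat_lit 8128), (nat_lit 8257), (nat_lit 8128), (nat_lit 8384), (nat_lit 8384), (nat_lit 8384), (nat_lit 8384), (nat_lit 8128), (nat_lit 8128), (nat_lit 8384), (nat_lit 8128), (nat_lit 8384), (nat_lit 8384)],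
  [(nat_lit 8256), (nat_lit 8257), (nat_lit 8257), (nat_lit 8256), (nat_lit 8255), (nat_lit 8257), (nat_lit 8255), (nat_lit 8256), (nat_lit 8256), (nat_lit 8257), (nat_lit 8256), (nat_lit 8255), (nat_lit 8255), (nat_lit 8257), (nat_lit 8255), (nat_lit 8255), (nat_lit 8255), (nat_lit 8256), (nat_lit 8384), (nat_lit 8257), (nat_lit 8255), (nat_lit 8257), (nat_lit 8257), (nat_lit 8257), (nat_lit 8257), (nat_lit 8257), (nat_lit 8384), (nat_lit 8255)],
  [(nat_lit 8256), (nat_lit 8257), (nat_lit 8255), (nat_lit 8256), (nat_lit 8255), (nat_lit 8257), (nat_lit 8255), (nat_lit 8257), (nat_lit 8256), (nat_lit 8255), (nat_lit 8256), (nat_lit 8255), (nat_lit 8256), (nat_lit 8256), (nat_lit 8257), (nat_lit 8257), (nat_lit 8255), (nat_lit 8256), (nat_lit 8256), (nat_lit 8257), (nat_lit 8257), (nat_lit 8255), (nat_lit 8257), (nat_lit 8255), (nat_lit 8257), (nat_lit 8257), (nat_lit 8257), (nat_lit 8384)],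
  [(nat_lit 8256), (nat_lit 8257), (nat_lit 8255), (nat_lit 8257), (nat_lit 8257), (nat_lit 8257), (nat_lit 8257), (nat_lit 8256), (nat_lit 8384), (nat_lit 8255), (nat_lit 8128), (nat_lit 8255), (nat_lit 8256), (nat_lit 8256), (nat_lit 8255), (nat_lit 8255), (nat_lit 8257), (nat_lit 8384), (nat_lit 8256), (nat_lit 8255), (nat_lit 8257), (nat_lit 8257), (nat_lit 8257), (nat_lit 8255), (nat_lit 8255), (nat_lit 8257), (nat_lit 8255), (nat_lit 8257)]]
noncomputable def Ah : List (List Nat) := [[(nat_lit 8257), (nat_lit 7871), (nat_lit 8387), (nat_lit 8128), (nat_lit 8127), (nat_lit 8387), (nat_lit 8382), (nat_lit 8384), (nat_lit 8129), (nat_lit 8127), (nat_lit 8384), (nat_lit 8254), (nat_lit 8130), (nat_lit 8386), (nat_lit 8513), (nat_lit 8253), (nat_lit 8128), (nat_lit 8129), (nat_lit 7871), (nat_lit 8130), (nat_lit 8129), (nat_lit 8256), (nat_lit 8257), (nat_lit 8001), (nat_lit 8383), (nat_lit 8126), (nat_lit 8255), (nat_lit 8638)],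
  [(nat_lit 8256), (nat_lit 8383), (nat_lit 8255), (nat_lit 8129), (nat_lit 8002), (nat_lit 8128), (nat_lit 8001), (nat_lit 8000), (nat_lit 8256), (nat_lit 8511), (nat_lit 8510), (nat_lit 8386), (nat_lit 8256), (nat_lit 8127), (nat_lit 8001), (nat_lit 8257), (nat_lit 8384), (nat_lit 8257), (nat_lit 8383), (nat_lit 8000), (nat_lit 8513), (nat_lit 8127), (nat_lit 8129), (nat_lit 8511), (nat_lit 8129), (nat_lit 8255), (nat_lit 8257), (nat_lit 8001)],
  [(nat_lit 8256), (nat_lit 8255), (nat_lit 8257), (nat_lit 8256), (nat_lit 8128), (nat_lit 8256), (nat_lit 8384), (nat_lit 8256), (nat_lit 8256), (nat_lit 8256), (nat_lit 8256), (nat_lit 8256), (nat_lit 8256), (nat_lit 8256), (nat_lit 8257), (nat_lit 8255), (nat_lit 8255), (nat_lit 8128), (nat_lit 8128), (nat_lit 8129), (nat_lit 8384), (nat_lit 8256), (nat_lit 8384), (nat_lit 8257), (nat_lit 8256), (nat_lit 8254), (nat_lit 8256), (nat_lit 8383)],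
  [(nat_lit 8256), (nat_lit 8256), (nat_lit 8256), (nat_lit 8384), (nat_lit 8256), (nat_lit 8384), (nat_lit 8128), (nat_lit 8256), (nat_lit 8385), (nat_lit 8256), (nat_lit 8255), (nat_lit 8127), (nat_lit 8384), (nat_lit 8254), (nat_lit 8255), (nat_lit 8128), (nat_lit 8384), (nat_lit 8256), (nat_lit 8257), (nat_lit 8256), (nat_lit 8257), (nat_lit 8129), (nat_lit 8384), (nat_lit 8256), (nat_lit 8257), (nat_lit 8385), (nat_lit 8257), (nat_lit 8257)],
  [(nat_lit 8128), (nat_lit 8000), (nat_lit 8514), (nat_lit 8386), (nat_lit 8383), (nat_lit 8257), (nat_lit 8126), (nat_lit 8383), (nat_lit 8129), (nat_lit 7998), (nat_lit 8254), (nat_lit 7999), (nat_lit 8129), (nat_lit 8257), (nat_lit 8257), (nat_lit 8255), (nat_lit 8256), (nat_lit 8002), (nat_lit 8129), (nat_lit 8257), (nat_lit 8129), (nat_lit 8001), (nat_lit 8129), (nat_lit 8127), (nat_lit 8259), (nat_lit 8255), (nat_lit 8257), (nat_lit 8255)],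
  [(nat_lit 8128), (nat_lit 8000), (nat_lit 7999), (nat_lit 8256), (nat_lit 8386), (nat_lit 8130), (nat_lit 8386), (nat_lit 8386), (nat_lit 8128), (nat_lit 8254), (nat_lit 7999), (nat_lit 8638), (nat_lit 8384), (nat_lit 8257), (nat_lit 8514), (nat_lit 8385), (nat_lit 8127), (nat_lit 8384), (nat_lit 8254), (nat_lit 8386), (nat_lit 8255), (nat_lit 8000), (nat_lit 8385), (nat_lit 8254), (nat_lit 8256), (nat_lit 8129), (nat_lit 8383), (nat_lit 8259)],
  [(nat_lit 8385), (nat_lit 8256), (nat_lit 8000), (nat_lit 8258), (nat_lit 8514), (nat_lit 8385), (nat_lit 8512), (nat_lit 8257), (nat_lit 8257), (nat_lit 8256), (nat_lit 8128), (nat_lit 8381), (nat_lit 8255), (nat_lit 8512), (nat_lit 8511), (nat_lit 8254), (nat_lit 8258), (nat_lit 8383), (nat_lit 8000), (nat_lit 8384), (nat_lit 8253), (nat_lit 8256), (nat_lit 8384), (nat_lit 8127), (nat_lit 8127), (nat_lit 8002), (nat_lit 8127), (nat_lit 8385)],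
  [(nat_lit 8256), (nat_lit 8127), (nat_lit 8254), (nat_lit 8384), (nat_lit 8385), (nat_lit 8256), (nat_lit 8128), (nat_lit 8130), (nat_lit 8384), (nat_lit 8256), (nat_lit 8127), (nat_lit 8384), (nat_lit 8257), (nat_lit 8255), (nat_lit 8256), (nat_lit 8000), (nat_lit 8384), (nat_lit 8384), (nat_lit 8385), (nat_lit 8257), (nat_lit 8127), (nat_lit 8384), (nat_lit 8256), (nat_lit 8255), (nat_lit 8383), (nat_lit 8130), (nat_lit 8384), (nat_lit 8257)],
  [(nat_lit 8384), (nat_lit 8514), (nat_lit 8511), (nat_lit 8383), (nat_lit 8128), (nat_lit 8382), (nat_lit 8128), (nat_lit 8126), (nat_lit 8383), (nat_lit 8130), (nat_lit 8130), (nat_lit 7875), (nat_lit 8255), (nat_lit 8255), (nat_lit 8126), (nat_lit 8129), (nat_lit 8256), (nat_lit 8385), (nat_lit 8386), (nat_lit 8382), (nat_lit 8384), (nat_lit 8514), (nat_lit 8383), (nat_lit 8258), (nat_lit 8383), (nat_lit 8256), (nat_lit 8128), (nat_lit 8126)],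
  [(nat_lit 8256), (nat_lit 8130), (nat_lit 8256), (nat_lit 8384), (nat_lit 8384), (nat_lit 8512), (nat_lit 8127), (nat_lit 8384), (nat_lit 8385), (nat_lit 8128), (nat_lit 8128), (nat_lit 7870), (nat_lit 8512), (nat_lit 8254), (nat_lit 8382), (nat_lit 8001), (nat_lit 8256), (nat_lit 8256), (nat_lit 8258), (nat_lit 8513), (nat_lit 8257), (nat_lit 8129), (nat_lit 8383), (nat_lit 8256), (nat_lit 8129), (nat_lit 8386), (nat_lit 8256), (nat_lit 8256)],
  [(nat_lit 8129), (nat_lit 8258), (nat_lit 8513), (nat_lit 8129), (nat_lit 8128), (nat_lit 8385), (nat_lit 8254), (nat_lit 8253), (nat_lit 8130), (nat_lit 8000), (nat_lit 8384), (nat_lit 7999), (nat_lit 8256), (nat_lit 8513), (nat_lit 8511), (nat_lit 8510), (nat_lit 8002), (nat_lit 8130), (nat_lit 8001), (nat_lit 8383), (nat_lit 8386), (nat_lit 8130), (nat_lit 8256), (nat_lit 8256), (nat_lit 8257), (nat_lit 8126), (nat_lit 8128), (nat_lit 8255)],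
  [(nat_lit 8384), (nat_lit 8256), (nat_lit 8258), (nat_lit 8256), (nat_lit 8255), (nat_lit 8383), (nat_lit 8255), (nat_lit 8384), (nat_lit 8384), (nat_lit 8385), (nat_lit 8385), (nat_lit 8000), (nat_lit 8256), (nat_lit 8255), (nat_lit 8127), (nat_lit 8000), (nat_lit 8384), (nat_lit 8127), (nat_lit 8257), (nat_lit 8256), (nat_lit 8128), (nat_lit 8383), (nat_lit 8255), (nat_lit 8258), (nat_lit 8128), (nat_lit 8384), (nat_lit 8128), (nat_lit 8382)],
  [(nat_lit 8255), (nat_lit 8385), (nat_lit 8256), (nat_lit 8126), (nat_lit 8255), (nat_lit 8127), (nat_lit 8384), (nat_lit 8383), (nat_lit 8126), (nat_lit 8384), (nat_lit 8386), (nat_lit 8257), (nat_lit 8255), (nat_lit 8128), (nat_lit 8128), (nat_lit 8515), (nat_lit 8127), (nat_lit 8127), (nat_lit 8383), (nat_lit 8382), (nat_lit 8129), (nat_lit 8255), (nat_lit 8127), (nat_lit 8384), (nat_lit 8127), (nat_lit 8512), (nat_lit 8128), (nat_lit 8128)],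
  [(nat_lit 8256), (nat_lit 8256), (nat_lit 8512), (nat_lit 8256), (nat_lit 8256), (nat_lit 8384), (nat_lit 8255), (nat_lit 8127), (nat_lit 8256), (nat_lit 8128), (nat_lit 8256), (nat_lit 8129), (nat_lit 8128), (nat_lit 8256), (nat_lit 8256), (nat_lit 8255), (nat_lit 8128), (nat_lit 8257), (nat_lit 8129), (nat_lit 8256), (nat_lit 8384), (nat_lit 8385), (nat_lit 8255), (nat_lit 8256), (nat_lit 8384), (nat_lit 8127), (nat_lit 8257), (nat_lit 8255)],
  [(nat_lit 8256), (nat_lit 8639), (nat_lit 8254), (nat_lit 8256), (nat_lit 8129), (nat_lit 8126), (nat_lit 8129), (nat_lit 7872), (nat_lit 8384), (nat_lit 8386), (nat_lit 8384), (nat_lit 8388), (nat_lit 8127), (nat_lit 8128), (nat_lit 8000), (nat_lit 8256), (nat_lit 8257), (nat_lit 8384), (nat_lit 8513), (nat_lit 8127), (nat_lit 8510), (nat_lit 8512), (nat_lit 8127), (nat_lit 8512), (nat_lit 8385), (nat_lit 8127), (nat_lit 8385), (nat_lit 8000)],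
  [(nat_lit 8256), (nat_lit 8257), (nat_lit 7997), (nat_lit 8382), (nat_lit 8384), (nat_lit 8256), (nat_lit 8258), (nat_lit 8258), (nat_lit 8383), (nat_lit 8257), (nat_lit 8002), (nat_lit 8384), (nat_lit 8512), (nat_lit 8126), (nat_lit 8255), (nat_lit 8130), (nat_lit 8255), (nat_lit 8511), (nat_lit 8512), (nat_lit 8384), (nat_lit 8256), (nat_lit 8384), (nat_lit 8383), (nat_lit 8256), (nat_lit 8254), (nat_lit 8387), (nat_lit 8383), (nat_lit 8258)],
  [(nat_lit 8255), (nat_lit 8384), (nat_lit 7999), (nat_lit 8127), (nat_lit 8256), (nat_lit 8127), (nat_lit 8257), (nat_lit 8257), (nat_lit 8255), (nat_lit 8512), (nat_lit 8385), (nat_lit 8385), (nat_lit 8383), (nat_lit 7999), (nat_lit 8000), (nat_lit 8259), (nat_lit 8255), (nat_lit 8254), (nat_lit 8511), (nat_lit 8256), (nat_lit 8256), (nat_lit 8254), (nat_lit 8127), (nat_lit 8512), (nat_lit 8000), (nat_lit 8513), (nat_lit 8256), (nat_lit 8129)],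
  [(nat_lit 8255), (nat_lit 8383), (nat_lit 8129), (nat_lit 8256), (nat_lit 8383), (nat_lit 8128), (nat_lit 8384), (nat_lit 8256), (nat_lit 8127), (nat_lit 8383), (nat_lit 8384), (nat_lit 8384), (nat_lit 8128), (nat_lit 8128), (nat_lit 8129), (nat_lit 8513), (nat_lit 8255), (nat_lit 8127), (nat_lit 8255), (nat_lit 8127), (nat_lit 8128), (nat_lit 8127), (nat_lit 8128), (nat_lit 8255), (nat_lit 8129), (nat_lit 8512), (nat_lit 8257), (nat_lit 8257)],
  [(nat_lit 8257), (nat_lit 8000), (nat_lit 8258), (nat_lit 8257), (nat_lit 8128), (nat_lit 8386), (nat_lit 8384), (nat_lit 8384), (nat_lit 8257), (nat_lit 8127), (nat_lit 8127), (nat_lit 8254), (nat_lit 8256), (nat_lit 8386), (nat_lit 8513), (nat_lit 8254), (nat_lit 8256), (nat_lit 8257), (nat_lit 7999), (nat_lit 8258), (nat_lit 8384), (nat_lit 8129), (nat_lit 8386), (nat_lit 8000), (nat_lit 8384), (nat_lit 8126), (nat_lit 8255), (nat_lit 8511)],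
  [(nat_lit 8384), (nat_lit 8256), (nat_lit 8002), (nat_lit 8129), (nat_lit 8385), (nat_lit 8384), (nat_lit 8385), (nat_lit 8385), (nat_lit 8256), (nat_lit 8383), (nat_lit 8383), (nat_lit 8255), (nat_lit 8383), (nat_lit 8128), (nat_lit 8128), (nat_lit 8257), (nat_lit 8384), (nat_lit 8254), (nat_lit 8127), (nat_lit 8257), (nat_lit 8383), (nat_lit 8127), (nat_lit 8256), (nat_lit 8256), (nat_lit 8001), (nat_lit 8384), (nat_lit 8128), (nat_lit 8384)],
  [(nat_lit 8384), (nat_lit 8257), (nat_lit 8513), (nat_lit 8641), (nat_lit 8511), (nat_lit 8638), (nat_lit 8127), (nat_lit 8256), (nat_lit 8641), (nat_lit 8001), (nat_lit 7999), (nat_lit 7744), (nat_lit 8256), (nat_lit 8254), (nat_lit 8126), (nat_lit 7743), (nat_lit 8512), (nat_lit 8256), (nat_lit 8132), (nat_lit 8385), (nat_lit 8255), (nat_lit 8386), (nat_lit 8383), (nat_lit 8129), (nat_lit 8386), (nat_lit 8257), (nat_lit 8257), (nat_lit 8382)],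
  [(nat_lit 8384), (nat_lit 8641), (nat_lit 8124), (nat_lit 8255), (nat_lit 8385), (nat_lit 8253), (nat_lit 8130), (nat_lit 8001), (nat_lit 8511), (nat_lit 8387), (nat_lit 8257), (nat_lit 8387), (nat_lit 8383), (nat_lit 8126), (nat_lit 7998), (nat_lit 8130), (nat_lit 8385), (nat_lit 8510), (nat_lit 8641), (nat_lit 8382), (nat_lit 8382), (nat_lit 8639), (nat_lit 8126), (nat_lit 8512), (nat_lit 8254), (nat_lit 8259), (nat_lit 8384), (nat_lit 8001)],
  [(nat_lit 8257), (nat_lit 8002), (nat_lit 8258), (nat_lit 8383), (nat_lit 8253), (nat_lit 8385), (nat_lit 8383), (nat_lit 8511), (nat_lit 8257), (nat_lit 8001), (nat_lit 8002), (nat_lit 7997), (nat_lit 8385), (nat_lit 8513), (nat_lit 8639), (nat_lit 8255), (nat_lit 8256), (nat_lit 8128), (nat_lit 8128), (nat_lit 8384), (nat_lit 8002), (nat_lit 8257), (nat_lit 8385), (nat_lit 7874), (nat_lit 8383), (nat_lit 8384), (nat_lit 8254), (nat_lit 8639)],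
  [(nat_lit 8127), (nat_lit 8126), (nat_lit 8127), (nat_lit 8511), (nat_lit 8511), (nat_lit 8000), (nat_lit 8258), (nat_lit 8258), (nat_lit 8255), (nat_lit 8255), (nat_lit 7999), (nat_lit 8641), (nat_lit 8129), (nat_lit 8001), (nat_lit 8131), (nat_lit 8258), (nat_lit 8382), (nat_lit 8383), (nat_lit 8511), (nat_lit 8129), (nat_lit 7999), (nat_lit 8256), (nat_lit 8129), (nat_lit 8126), (nat_lit 8513), (nat_lit 8385), (nat_lit 8513), (nat_lit 8259)],
  [(nat_lit 8255), (nat_lit 8255), (nat_lit 8257), (nat_lit 8257), (nat_lit 8383), (nat_lit 8128), (nat_lit 8254), (nat_lit 8384), (nat_lit 8128), (nat_lit 8383), (nat_lit 8512), (nat_lit 8255), (nat_lit 8128), (nat_lit 8256), (nat_lit 8128), (nat_lit 8256), (nat_lit 8257), (nat_lit 8000), (nat_lit 8256), (nat_lit 8255), (nat_lit 7872), (nat_lit 8126), (nat_lit 8000), (nat_lit 8383), (nat_lit 8001), (nat_lit 8385), (nat_lit 8128), (nat_lit 8128)],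
  [(nat_lit 8383), (nat_lit 8638), (nat_lit 8129), (nat_lit 8255), (nat_lit 8382), (nat_lit 8125), (nat_lit 8383), (nat_lit 8256), (nat_lit 8382), (nat_lit 8514), (nat_lit 8515), (nat_lit 8131), (nat_lit 7998), (nat_lit 7999), (nat_lit 7743), (nat_lit 8129), (nat_lit 8384), (nat_lit 8126), (nat_lit 8513), (nat_lit 8126), (nat_lit 8126), (nat_lit 8638), (nat_lit 7997), (nat_lit 8385), (nat_lit 8128), (nat_lit 8512), (nat_lit 8129), (nat_lit 8254)],
  [(nat_lit 8128), (nat_lit 8000), (nat_lit 8257), (nat_lit 8129), (nat_lit 8384), (nat_lit 8258), (nat_lit 8383), (nat_lit 8384), (nat_lit 8001), (nat_lit 8126), (nat_lit 8255), (nat_lit 8381), (nat_lit 8257), (nat_lit 8385), (nat_lit 8513), (nat_lit 8511), (nat_lit 8128), (nat_lit 8128), (nat_lit 7999), (nat_lit 8257), (nat_lit 8129), (nat_lit 8000), (nat_lit 8257), (nat_lit 8127), (nat_lit 8128), (nat_lit 8256), (nat_lit 8256), (nat_lit 8385)],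
  [(nat_lit 8256), (nat_lit 8000), (nat_lit 8257), (nat_lit 8256), (nat_lit 8256), (nat_lit 8385), (nat_lit 8256), (nat_lit 8385), (nat_lit 8256), (nat_lit 8255), (nat_lit 8127), (nat_lit 8254), (nat_lit 8385), (nat_lit 8256), (nat_lit 8385), (nat_lit 8128), (nat_lit 8255), (nat_lit 8256), (nat_lit 8128), (nat_lit 8258), (nat_lit 8257), (nat_lit 8128), (nat_lit 8385), (nat_lit 8128), (nat_lit 8256), (nat_lit 8256), (nat_lit 8256), (nat_lit 8384)]]
noncomputable def Bw : List (Nat × List Nat) := [((nat_lit 0), []),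
  ((nat_lit 1), []),
  ((nat_lit 2), []),
  ((nat_lit 10), [(nat_lit 3)]),
  ((nat_lit 4), []),
  ((nat_lit 5), []),
  ((nat_lit 2), [(nat_lit 1), (nat_lit 0)]),
  ((nat_lit 5), [(nat_lit 2), (nat_lit 3), (nat_lit 3), (nat_lit 3), (nat_lit 3)]),
  ((nat_lit 19), [(nat_lit 3), (nat_lit 2), (nat_lit 1), (nat_lit 0)]),
  ((nat_lit 9), []),
  ((nat_lit 8), [(nat_lit 3), (nat_lit 0)]),
  ((nat_lit 5), [(nat_lit 2)]),
  ((nat_lit 9), [(nat_lit 3), (nat_lit 3), (nat_lit 1), (nat_lit 0)]),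
  ((nat_lit 15), [(nat_lit 3), (nat_lit 2), (nat_lit 3), (nat_lit 0)]),
  ((nat_lit 14), []),
  ((nat_lit 4), [(nat_lit 1)]),
  ((nat_lit 16), []),
  ((nat_lit 8), [(nat_lit 2), (nat_lit 3), (nat_lit 0)]),
  ((nat_lit 14), [(nat_lit 3), (nat_lit 3), (nat_lit 0)]),
  ((nat_lit 1), [(nat_lit 0)]),
  ((nat_lit 1), [(nat_lit 1)]),
  ((nat_lit 2), [(nat_lit 0)]),
  ((nat_lit 2), [(nat_lit 1)]),
  ((nat_lit 3), [(nat_lit 0)]),
  ((nat_lit 3), [(nat_lit 1)]),
  ((nat_lit 4), [(nat_lit 0)]),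
  ((nat_lit 5), [(nat_lit 0)]),
  ((nat_lit 5), [(nat_lit 1)])]
noncomputable def A0 : List (List Nat) := [[(nat_lit 8383), (nat_lit 8257), (nat_lit 8257), (nat_lit 8254), (nat_lit 8383), (nat_lit 7998), (nat_lit 8642), (nat_lit 8258), (nat_lit 8126), (nat_lit 8514), (nat_lit 8130), (nat_lit 8256), (nat_lit 8254), (nat_lit 8000), (nat_lit 7999), (nat_lit 8256), (nat_lit 8381), (nat_lit 8127), (nat_lit 8381), (nat_lit 8128), (nat_lit 8255), (nat_lit 8511), (nat_lit 7998), (nat_lit 8640), (nat_lit 8125), (nat_lit 8512), (nat_lit 8254), (nat_lit 8254)],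
  [(nat_lit 8257), (nat_lit 8256), (nat_lit 8384), (nat_lit 8130), (nat_lit 8129), (nat_lit 8387), (nat_lit 7998), (nat_lit 8128), (nat_lit 8385), (nat_lit 8125), (nat_lit 8382), (nat_lit 8256), (nat_lit 8257), (nat_lit 8385), (nat_lit 8385), (nat_lit 8384), (nat_lit 8385), (nat_lit 8130), (nat_lit 8384), (nat_lit 8256), (nat_lit 8258), (nat_lit 8257), (nat_lit 8387), (nat_lit 8127), (nat_lit 8513), (nat_lit 8128), (nat_lit 8385), (nat_lit 8385)],
  [(nat_lit 8256), (nat_lit 8257), (nat_lit 8257), (nat_lit 8256), (nat_lit 8256), (nat_lit 8256), (nat_lit 8384), (nat_lit 8127), (nat_lit 8256), (nat_lit 8256), (nat_lit 8384), (nat_lit 8256), (nat_lit 8127), (nat_lit 8257), (nat_lit 8255), (nat_lit 8384), (nat_lit 8255), (nat_lit 8127), (nat_lit 8254), (nat_lit 8256), (nat_lit 8256), (nat_lit 8384), (nat_lit 8127), (nat_lit 8512), (nat_lit 8256), (nat_lit 8383), (nat_lit 8383), (nat_lit 8383)],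
  [(nat_lit 8257), (nat_lit 8256), (nat_lit 8128), (nat_lit 8256), (nat_lit 8127), (nat_lit 8257), (nat_lit 8255), (nat_lit 8383), (nat_lit 8256), (nat_lit 8256), (nat_lit 8385), (nat_lit 8256), (nat_lit 8255), (nat_lit 8128), (nat_lit 8256), (nat_lit 8256), (nat_lit 8128), (nat_lit 8256), (nat_lit 8384), (nat_lit 8256), (nat_lit 8384), (nat_lit 8256), (nat_lit 8128), (nat_lit 8128), (nat_lit 8256), (nat_lit 8256), (nat_lit 8257), (nat_lit 8255)],
  [(nat_lit 8255), (nat_lit 8127), (nat_lit 8510), (nat_lit 7871), (nat_lit 8000), (nat_lit 8254), (nat_lit 8000), (nat_lit 8257), (nat_lit 8256), (nat_lit 8258), (nat_lit 7999), (nat_lit 8256), (nat_lit 8127), (nat_lit 8129), (nat_lit 8255), (nat_lit 8127), (nat_lit 8127), (nat_lit 8385), (nat_lit 8000), (nat_lit 8385), (nat_lit 8255), (nat_lit 8384), (nat_lit 8385), (nat_lit 8129), (nat_lit 8380), (nat_lit 8128), (nat_lit 8255), (nat_lit 8126)],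
  [(nat_lit 8385), (nat_lit 8128), (nat_lit 8255), (nat_lit 8641), (nat_lit 8641), (nat_lit 8512), (nat_lit 8002), (nat_lit 8259), (nat_lit 8510), (nat_lit 7872), (nat_lit 7871), (nat_lit 8256), (nat_lit 8385), (nat_lit 8382), (nat_lit 8254), (nat_lit 8126), (nat_lit 8512), (nat_lit 8643), (nat_lit 8256), (nat_lit 8128), (nat_lit 8513), (nat_lit 8384), (nat_lit 8512), (nat_lit 7871), (nat_lit 8382), (nat_lit 8001), (nat_lit 8127), (nat_lit 8510)],
  [(nat_lit 8256), (nat_lit 8385), (nat_lit 8256), (nat_lit 8511), (nat_lit 8510), (nat_lit 8511), (nat_lit 8513), (nat_lit 8512), (nat_lit 8127), (nat_lit 8001), (nat_lit 8257), (nat_lit 8256), (nat_lit 8512), (nat_lit 8254), (nat_lit 8257), (nat_lit 8384), (nat_lit 8254), (nat_lit 8382), (nat_lit 8256), (nat_lit 8256), (nat_lit 8512), (nat_lit 8256), (nat_lit 8381), (nat_lit 8257), (nat_lit 8257), (nat_lit 8384), (nat_lit 8257), (nat_lit 8384)],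
  [(nat_lit 8257), (nat_lit 8255), (nat_lit 8256), (nat_lit 8385), (nat_lit 8257), (nat_lit 8256), (nat_lit 8255), (nat_lit 8128), (nat_lit 8385), (nat_lit 8256), (nat_lit 8255), (nat_lit 8255), (nat_lit 8256), (nat_lit 8383), (nat_lit 8512), (nat_lit 8382), (nat_lit 8129), (nat_lit 8002), (nat_lit 8256), (nat_lit 8255), (nat_lit 8256), (nat_lit 8256), (nat_lit 8127), (nat_lit 8382), (nat_lit 8384), (nat_lit 8127), (nat_lit 8383), (nat_lit 8385)],
  [(nat_lit 8127), (nat_lit 8385), (nat_lit 8256), (nat_lit 8129), (nat_lit 8128), (nat_lit 8128), (nat_lit 8383), (nat_lit 8254), (nat_lit 8129), (nat_lit 8512), (nat_lit 8385), (nat_lit 8256), (nat_lit 8001), (nat_lit 8514), (nat_lit 8129), (nat_lit 8129), (nat_lit 8001), (nat_lit 8126), (nat_lit 8002), (nat_lit 8384), (nat_lit 7999), (nat_lit 8127), (nat_lit 8257), (nat_lit 8385), (nat_lit 7874), (nat_lit 8256), (nat_lit 8129), (nat_lit 7873)],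
  [(nat_lit 8256), (nat_lit 8256), (nat_lit 8256), (nat_lit 8255), (nat_lit 8126), (nat_lit 8257), (nat_lit 8254), (nat_lit 8512), (nat_lit 8128), (nat_lit 8256), (nat_lit 8385), (nat_lit 8256), (nat_lit 8127), (nat_lit 8128), (nat_lit 8128), (nat_lit 8127), (nat_lit 8000), (nat_lit 8385), (nat_lit 8128), (nat_lit 8257), (nat_lit 8383), (nat_lit 8127), (nat_lit 8001), (nat_lit 7999), (nat_lit 8128), (nat_lit 8128), (nat_lit 8129), (nat_lit 7998)],
  [(nat_lit 8127), (nat_lit 8129), (nat_lit 8255), (nat_lit 7999), (nat_lit 8254), (nat_lit 8128), (nat_lit 8385), (nat_lit 8641), (nat_lit 7999), (nat_lit 8385), (nat_lit 8131), (nat_lit 8256), (nat_lit 8256), (nat_lit 8129), (nat_lit 7873), (nat_lit 8002), (nat_lit 8126), (nat_lit 8510), (nat_lit 8129), (nat_lit 8386), (nat_lit 8256), (nat_lit 8255), (nat_lit 8384), (nat_lit 8130), (nat_lit 7871), (nat_lit 8385), (nat_lit 8001), (nat_lit 7871)],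
  [(nat_lit 8256), (nat_lit 8384), (nat_lit 8257), (nat_lit 8126), (nat_lit 7999), (nat_lit 8128), (nat_lit 8510), (nat_lit 8254), (nat_lit 8129), (nat_lit 8384), (nat_lit 8640), (nat_lit 8256), (nat_lit 8126), (nat_lit 8001), (nat_lit 8257), (nat_lit 8384), (nat_lit 8128), (nat_lit 7999), (nat_lit 8254), (nat_lit 8256), (nat_lit 8255), (nat_lit 8256), (nat_lit 7872), (nat_lit 8511), (nat_lit 8257), (nat_lit 8382), (nat_lit 8384), (nat_lit 8256)],
  [(nat_lit 8255), (nat_lit 8255), (nat_lit 8256), (nat_lit 8255), (nat_lit 8384), (nat_lit 8256), (nat_lit 8127), (nat_lit 8129), (nat_lit 8384), (nat_lit 8256), (nat_lit 8127), (nat_lit 8256), (nat_lit 8257), (nat_lit 8256), (nat_lit 8255), (nat_lit 8000), (nat_lit 8385), (nat_lit 8385), (nat_lit 8130), (nat_lit 8129), (nat_lit 8128), (nat_lit 8128), (nat_lit 8258), (nat_lit 7999), (nat_lit 8257), (nat_lit 8129), (nat_lit 8128), (nat_lit 8256)],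
  [(nat_lit 8255), (nat_lit 8384), (nat_lit 8256), (nat_lit 8128), (nat_lit 8128), (nat_lit 8255), (nat_lit 8256), (nat_lit 8256), (nat_lit 8128), (nat_lit 8385), (nat_lit 8256), (nat_lit 8256), (nat_lit 8128), (nat_lit 8385), (nat_lit 8129), (nat_lit 8257), (nat_lit 8127), (nat_lit 8127), (nat_lit 8128), (nat_lit 8384), (nat_lit 8127), (nat_lit 8255), (nat_lit 8384), (nat_lit 8385), (nat_lit 8128), (nat_lit 8384), (nat_lit 8256), (nat_lit 8000)],
  [(nat_lit 8129), (nat_lit 8384), (nat_lit 8256), (nat_lit 8258), (nat_lit 8002), (nat_lit 8385), (nat_lit 8128), (nat_lit 8126), (nat_lit 8258), (nat_lit 8254), (nat_lit 8511), (nat_lit 8256), (nat_lit 8258), (nat_lit 8512), (nat_lit 8387), (nat_lit 8514), (nat_lit 8130), (nat_lit 7999), (nat_lit 8385), (nat_lit 8511), (nat_lit 8129), (nat_lit 8129), (nat_lit 8512), (nat_lit 8513), (nat_lit 8387), (nat_lit 8383), (nat_lit 8513), (nat_lit 8132)],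
  [(nat_lit 8257), (nat_lit 8256), (nat_lit 8001), (nat_lit 8641), (nat_lit 8512), (nat_lit 8257), (nat_lit 8256), (nat_lit 8256), (nat_lit 8384), (nat_lit 8256), (nat_lit 8257), (nat_lit 8256), (nat_lit 8257), (nat_lit 8382), (nat_lit 8255), (nat_lit 8127), (nat_lit 8258), (nat_lit 8385), (nat_lit 8386), (nat_lit 8127), (nat_lit 8256), (nat_lit 8128), (nat_lit 8127), (nat_lit 8127), (nat_lit 8130), (nat_lit 8129), (nat_lit 8129), (nat_lit 8256)],
  [(nat_lit 8257), (nat_lit 8255), (nat_lit 8257), (nat_lit 8384), (nat_lit 8256), (nat_lit 8386), (nat_lit 7998), (nat_lit 8128), (nat_lit 8385), (nat_lit 8126), (nat_lit 8382), (nat_lit 8256), (nat_lit 8257), (nat_lit 8255), (nat_lit 8384), (nat_lit 8255), (nat_lit 8386), (nat_lit 8258), (nat_lit 8384), (nat_lit 8128), (nat_lit 8257), (nat_lit 8129), (nat_lit 8130), (nat_lit 7998), (nat_lit 8514), (nat_lit 8128), (nat_lit 8385), (nat_lit 8385)],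
  [(nat_lit 8256), (nat_lit 8255), (nat_lit 8256), (nat_lit 8256), (nat_lit 8256), (nat_lit 8383), (nat_lit 8000), (nat_lit 8128), (nat_lit 8384), (nat_lit 8129), (nat_lit 8127), (nat_lit 8256), (nat_lit 8384), (nat_lit 8255), (nat_lit 8383), (nat_lit 8256), (nat_lit 8384), (nat_lit 8256), (nat_lit 8385), (nat_lit 8256), (nat_lit 8256), (nat_lit 8257), (nat_lit 8384), (nat_lit 8129), (nat_lit 8512), (nat_lit 8257), (nat_lit 8384), (nat_lit 8384)],
  [(nat_lit 8384), (nat_lit 8130), (nat_lit 8256), (nat_lit 8256), (nat_lit 8384), (nat_lit 8255), (nat_lit 8387), (nat_lit 8385), (nat_lit 8254), (nat_lit 8257), (nat_lit 8129), (nat_lit 8256), (nat_lit 8255), (nat_lit 8129), (nat_lit 8127), (nat_lit 8256), (nat_lit 8382), (nat_lit 8383), (nat_lit 8253), (nat_lit 8256), (nat_lit 8384), (nat_lit 8511), (nat_lit 8255), (nat_lit 8385), (nat_lit 8125), (nat_lit 8384), (nat_lit 8254), (nat_lit 8382)],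
  [(nat_lit 8384), (nat_lit 8384), (nat_lit 8385), (nat_lit 8254), (nat_lit 8127), (nat_lit 8513), (nat_lit 8255), (nat_lit 8383), (nat_lit 8128), (nat_lit 7999), (nat_lit 8511), (nat_lit 8256), (nat_lit 8383), (nat_lit 8000), (nat_lit 8385), (nat_lit 8384), (nat_lit 8383), (nat_lit 8384), (nat_lit 8381), (nat_lit 8129), (nat_lit 8512), (nat_lit 8257), (nat_lit 8257), (nat_lit 8128), (nat_lit 8512), (nat_lit 8384), (nat_lit 8513), (nat_lit 8384)],
  [(nat_lit 8256), (nat_lit 8384), (nat_lit 8256), (nat_lit 7999), (nat_lit 7743), (nat_lit 8255), (nat_lit 8382), (nat_lit 8380), (nat_lit 8002), (nat_lit 8386), (nat_lit 8640), (nat_lit 8256), (nat_lit 7998), (nat_lit 8130), (nat_lit 8386), (nat_lit 8384), (nat_lit 7743), (nat_lit 7998), (nat_lit 7998), (nat_lit 8512), (nat_lit 8253), (nat_lit 8255), (nat_lit 7999), (nat_lit 8513), (nat_lit 8128), (nat_lit 8382), (nat_lit 8512), (nat_lit 8000)],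
  [(nat_lit 8129), (nat_lit 8383), (nat_lit 8129), (nat_lit 8385), (nat_lit 8129), (nat_lit 8386), (nat_lit 8254), (nat_lit 8253), (nat_lit 8259), (nat_lit 8254), (nat_lit 8639), (nat_lit 8256), (nat_lit 8258), (nat_lit 8511), (nat_lit 8515), (nat_lit 8385), (nat_lit 8131), (nat_lit 8128), (nat_lit 8258), (nat_lit 8383), (nat_lit 8128), (nat_lit 7873), (nat_lit 8256), (nat_lit 8255), (nat_lit 8261), (nat_lit 8255), (nat_lit 8386), (nat_lit 8133)],
  [(nat_lit 8255), (nat_lit 8001), (nat_lit 7999), (nat_lit 8255), (nat_lit 8511), (nat_lit 7870), (nat_lit 8643), (nat_lit 8513), (nat_lit 8126), (nat_lit 8514), (nat_lit 8004), (nat_lit 8256), (nat_lit 8254), (nat_lit 7872), (nat_lit 7998), (nat_lit 8000), (nat_lit 8255), (nat_lit 8510), (nat_lit 8256), (nat_lit 8128), (nat_lit 8255), (nat_lit 8383), (nat_lit 7997), (nat_lit 8385), (nat_lit 7741), (nat_lit 8385), (nat_lit 7999), (nat_lit 8254)],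
  [(nat_lit 8385), (nat_lit 8126), (nat_lit 8254), (nat_lit 8386), (nat_lit 8260), (nat_lit 8382), (nat_lit 7746), (nat_lit 7873), (nat_lit 8640), (nat_lit 8129), (nat_lit 7869), (nat_lit 8256), (nat_lit 8385), (nat_lit 8382), (nat_lit 8638), (nat_lit 8254), (nat_lit 8386), (nat_lit 8259), (nat_lit 8385), (nat_lit 8254), (nat_lit 8256), (nat_lit 8385), (nat_lit 8511), (nat_lit 8256), (nat_lit 8637), (nat_lit 8001), (nat_lit 8510), (nat_lit 8513)],
  [(nat_lit 8256), (nat_lit 8254), (nat_lit 8512), (nat_lit 8126), (nat_lit 8127), (nat_lit 8255), (nat_lit 8126), (nat_lit 8128), (nat_lit 8385), (nat_lit 8257), (nat_lit 8254), (nat_lit 8256), (nat_lit 8256), (nat_lit 8127), (nat_lit 8384), (nat_lit 8255), (nat_lit 8256), (nat_lit 8129), (nat_lit 8129), (nat_lit 8256), (nat_lit 8128), (nat_lit 8257), (nat_lit 8129), (nat_lit 8127), (nat_lit 8640), (nat_lit 8127), (nat_lit 8256), (nat_lit 8384)],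
  [(nat_lit 8256), (nat_lit 8511), (nat_lit 8386), (nat_lit 8126), (nat_lit 7872), (nat_lit 8383), (nat_lit 8253), (nat_lit 7868), (nat_lit 8259), (nat_lit 8384), (nat_lit 8765), (nat_lit 8256), (nat_lit 8128), (nat_lit 8256), (nat_lit 8514), (nat_lit 8513), (nat_lit 8130), (nat_lit 7742), (nat_lit 8256), (nat_lit 8383), (nat_lit 7999), (nat_lit 8129), (nat_lit 8000), (nat_lit 8640), (nat_lit 8644), (nat_lit 8382), (nat_lit 8641), (nat_lit 8259)],
  [(nat_lit 8255), (nat_lit 8127), (nat_lit 8255), (nat_lit 8255), (nat_lit 8511), (nat_lit 8255), (nat_lit 8257), (nat_lit 8387), (nat_lit 8254), (nat_lit 8129), (nat_lit 7873), (nat_lit 8256), (nat_lit 8383), (nat_lit 8127), (nat_lit 8126), (nat_lit 8127), (nat_lit 8382), (nat_lit 8513), (nat_lit 8256), (nat_lit 8129), (nat_lit 8384), (nat_lit 8384), (nat_lit 8383), (nat_lit 8000), (nat_lit 8253), (nat_lit 8257), (nat_lit 8127), (nat_lit 8382)],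
  [(nat_lit 8384), (nat_lit 8256), (nat_lit 8256), (nat_lit 8256), (nat_lit 8256), (nat_lit 8256), (nat_lit 8256), (nat_lit 8257), (nat_lit 8255), (nat_lit 8256), (nat_lit 8256), (nat_lit 8256), (nat_lit 8255), (nat_lit 8128), (nat_lit 8255), (nat_lit 8255), (nat_lit 8255), (nat_lit 8257), (nat_lit 8254), (nat_lit 8128), (nat_lit 8384), (nat_lit 8383), (nat_lit 8128), (nat_lit 8255), (nat_lit 8254), (nat_lit 8256), (nat_lit 8255), (nat_lit 8382)]]
noncomputable def S0 : List (List Nat) := [[(nat_lit 8127), (nat_lit 8257), (nat_lit 8256), (nat_lit 8257), (nat_lit 8255), (nat_lit 8129), (nat_lit 8256), (nat_lit 8257), (nat_lit 8383), (nat_lit 8256), (nat_lit 8383), (nat_lit 8256), (nat_lit 8255), (nat_lit 8255), (nat_lit 8385), (nat_lit 8257), (nat_lit 8257), (nat_lit 8256), (nat_lit 8128), (nat_lit 8128), (nat_lit 8256), (nat_lit 8385), (nat_lit 8255), (nat_lit 8129), (nat_lit 8256), (nat_lit 8256), (nat_lit 8255), (nat_lit 8128)],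
  [(nat_lit 8257), (nat_lit 8256), (nat_lit 8257), (nat_lit 8256), (nat_lit 8383), (nat_lit 8384), (nat_lit 8129), (nat_lit 8255), (nat_lit 8129), (nat_lit 8256), (nat_lit 8385), (nat_lit 8128), (nat_lit 8255), (nat_lit 8128), (nat_lit 8128), (nat_lit 8256), (nat_lit 8255), (nat_lit 8255), (nat_lit 8386), (nat_lit 8128), (nat_lit 8128), (nat_lit 8127), (nat_lit 8513), (nat_lit 8382), (nat_lit 8254), (nat_lit 7999), (nat_lit 8383), (nat_lit 8256)],
  [(nat_lit 8257), (nat_lit 8128), (nat_lit 8257), (nat_lit 8384), (nat_lit 7998), (nat_lit 8255), (nat_lit 8256), (nat_lit 8256), (nat_lit 8256), (nat_lit 8256), (nat_lit 8255), (nat_lit 8257), (nat_lit 8256), (nat_lit 8256), (nat_lit 8256), (nat_lit 8513), (nat_lit 8257), (nat_lit 8256), (nat_lit 8256), (nat_lit 8129), (nat_lit 8256), (nat_lit 8385), (nat_lit 8511), (nat_lit 8254), (nat_lit 8000), (nat_lit 8130), (nat_lit 8255), (nat_lit 8256)],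
  [(nat_lit 8254), (nat_lit 8386), (nat_lit 8256), (nat_lit 8256), (nat_lit 8639), (nat_lit 7873), (nat_lit 7999), (nat_lit 8129), (nat_lit 8385), (nat_lit 8255), (nat_lit 8511), (nat_lit 8382), (nat_lit 8255), (nat_lit 8384), (nat_lit 8258), (nat_lit 7873), (nat_lit 8128), (nat_lit 8256), (nat_lit 8256), (nat_lit 8254), (nat_lit 8511), (nat_lit 8129), (nat_lit 8255), (nat_lit 8130), (nat_lit 8382), (nat_lit 8382), (nat_lit 8255), (nat_lit 8256)],
  [(nat_lit 8127), (nat_lit 8385), (nat_lit 8256), (nat_lit 8383), (nat_lit 8512), (nat_lit 7873), (nat_lit 7998), (nat_lit 8257), (nat_lit 8384), (nat_lit 8382), (nat_lit 8254), (nat_lit 8511), (nat_lit 8128), (nat_lit 8384), (nat_lit 8514), (nat_lit 8000), (nat_lit 8256), (nat_lit 8256), (nat_lit 8128), (nat_lit 8383), (nat_lit 8767), (nat_lit 8385), (nat_lit 7999), (nat_lit 8260), (nat_lit 8383), (nat_lit 8640), (nat_lit 7999), (nat_lit 8256)],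
  [(nat_lit 8510), (nat_lit 8131), (nat_lit 8256), (nat_lit 8257), (nat_lit 8254), (nat_lit 8000), (nat_lit 7999), (nat_lit 8256), (nat_lit 8384), (nat_lit 8257), (nat_lit 8384), (nat_lit 8384), (nat_lit 8256), (nat_lit 8255), (nat_lit 8129), (nat_lit 8257), (nat_lit 8130), (nat_lit 8127), (nat_lit 8255), (nat_lit 8001), (nat_lit 8255), (nat_lit 8130), (nat_lit 8638), (nat_lit 8126), (nat_lit 8255), (nat_lit 8127), (nat_lit 8255), (nat_lit 8256)],
  [(nat_lit 7874), (nat_lit 8510), (nat_lit 8128), (nat_lit 8255), (nat_lit 8512), (nat_lit 8514), (nat_lit 8001), (nat_lit 8255), (nat_lit 8127), (nat_lit 8254), (nat_lit 8129), (nat_lit 7998), (nat_lit 8383), (nat_lit 8256), (nat_lit 8384), (nat_lit 8256), (nat_lit 8510), (nat_lit 8512), (nat_lit 8131), (nat_lit 8255), (nat_lit 8126), (nat_lit 8254), (nat_lit 7875), (nat_lit 8770), (nat_lit 8382), (nat_lit 8253), (nat_lit 8257), (nat_lit 8256)],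
  [(nat_lit 8258), (nat_lit 8384), (nat_lit 8383), (nat_lit 8127), (nat_lit 8257), (nat_lit 8259), (nat_lit 8000), (nat_lit 8384), (nat_lit 8254), (nat_lit 8000), (nat_lit 7873), (nat_lit 8254), (nat_lit 8385), (nat_lit 8256), (nat_lit 8382), (nat_lit 8256), (nat_lit 8384), (nat_lit 8384), (nat_lit 8129), (nat_lit 8127), (nat_lit 8124), (nat_lit 8253), (nat_lit 8001), (nat_lit 8641), (nat_lit 8384), (nat_lit 8636), (nat_lit 8131), (nat_lit 8257)],
  [(nat_lit 8382), (nat_lit 8129), (nat_lit 8256), (nat_lit 8256), (nat_lit 8256), (nat_lit 7998), (nat_lit 8383), (nat_lit 8129), (nat_lit 8385), (nat_lit 8384), (nat_lit 8511), (nat_lit 8385), (nat_lit 8128), (nat_lit 8384), (nat_lit 8258), (nat_lit 8128), (nat_lit 8129), (nat_lit 8128), (nat_lit 8254), (nat_lit 8384), (nat_lit 8514), (nat_lit 8259), (nat_lit 8382), (nat_lit 7872), (nat_lit 8129), (nat_lit 8259), (nat_lit 8254), (nat_lit 8255)],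
  [(nat_lit 8002), (nat_lit 8381), (nat_lit 8256), (nat_lit 8256), (nat_lit 8258), (nat_lit 8640), (nat_lit 8513), (nat_lit 8256), (nat_lit 8000), (nat_lit 8256), (nat_lit 8129), (nat_lit 8128), (nat_lit 8256), (nat_lit 8129), (nat_lit 8254), (nat_lit 8256), (nat_lit 8382), (nat_lit 8385), (nat_lit 8257), (nat_lit 8511), (nat_lit 8130), (nat_lit 8254), (nat_lit 8002), (nat_lit 8385), (nat_lit 8257), (nat_lit 8128), (nat_lit 8385), (nat_lit 8256)],
  [(nat_lit 8386), (nat_lit 8126), (nat_lit 8128), (nat_lit 8129), (nat_lit 8511), (nat_lit 8639), (nat_lit 8257), (nat_lit 8255), (nat_lit 8129), (nat_lit 8129), (nat_lit 8387), (nat_lit 7872), (nat_lit 8383), (nat_lit 8256), (nat_lit 7999), (nat_lit 8257), (nat_lit 8126), (nat_lit 8383), (nat_lit 8385), (nat_lit 7999), (nat_lit 7872), (nat_lit 7871), (nat_lit 8516), (nat_lit 8637), (nat_lit 8254), (nat_lit 7741), (nat_lit 8641), (nat_lit 8256)],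
  [(nat_lit 8256), (nat_lit 8256), (nat_lit 8256), (nat_lit 8256), (nat_lit 8256), (nat_lit 8256), (nat_lit 8256), (nat_lit 8255), (nat_lit 8256), (nat_lit 8256), (nat_lit 8256), (nat_lit 8256), (nat_lit 8256), (nat_lit 8256), (nat_lit 8256), (nat_lit 8256), (nat_lit 8256), (nat_lit 8256), (nat_lit 8256), (nat_lit 8256), (nat_lit 8256), (nat_lit 8256), (nat_lit 8256), (nat_lit 8256), (nat_lit 8256), (nat_lit 8256), (nat_lit 8256), (nat_lit 8256)],
  [(nat_lit 8254), (nat_lit 8257), (nat_lit 8383), (nat_lit 8255), (nat_lit 8383), (nat_lit 8129), (nat_lit 8000), (nat_lit 8256), (nat_lit 8513), (nat_lit 8383), (nat_lit 8256), (nat_lit 8382), (nat_lit 8257), (nat_lit 8384), (nat_lit 8258), (nat_lit 8257), (nat_lit 8257), (nat_lit 8128), (nat_lit 8255), (nat_lit 8127), (nat_lit 8510), (nat_lit 8258), (nat_lit 8254), (nat_lit 8129), (nat_lit 8256), (nat_lit 8384), (nat_lit 8127), (nat_lit 8255)],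
  [(nat_lit 8512), (nat_lit 8129), (nat_lit 8257), (nat_lit 8384), (nat_lit 8385), (nat_lit 8126), (nat_lit 8254), (nat_lit 8127), (nat_lit 8002), (nat_lit 8384), (nat_lit 8385), (nat_lit 8513), (nat_lit 8256), (nat_lit 8129), (nat_lit 8000), (nat_lit 8126), (nat_lit 8255), (nat_lit 8255), (nat_lit 8385), (nat_lit 8512), (nat_lit 8386), (nat_lit 7999), (nat_lit 8640), (nat_lit 8126), (nat_lit 8383), (nat_lit 8256), (nat_lit 8383), (nat_lit 8384)],
  [(nat_lit 8511), (nat_lit 8129), (nat_lit 8255), (nat_lit 8256), (nat_lit 8255), (nat_lit 8254), (nat_lit 8257), (nat_lit 8000), (nat_lit 8385), (nat_lit 8384), (nat_lit 8641), (nat_lit 8257), (nat_lit 8255), (nat_lit 8385), (nat_lit 8131), (nat_lit 8255), (nat_lit 8128), (nat_lit 8127), (nat_lit 8383), (nat_lit 8129), (nat_lit 8130), (nat_lit 8003), (nat_lit 8510), (nat_lit 7870), (nat_lit 8128), (nat_lit 8002), (nat_lit 8382), (nat_lit 8255)],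
  [(nat_lit 8256), (nat_lit 8128), (nat_lit 8128), (nat_lit 8256), (nat_lit 8383), (nat_lit 8382), (nat_lit 8128), (nat_lit 8126), (nat_lit 8385), (nat_lit 8383), (nat_lit 8514), (nat_lit 8128), (nat_lit 8512), (nat_lit 8257), (nat_lit 8002), (nat_lit 8383), (nat_lit 8255), (nat_lit 8256), (nat_lit 8256), (nat_lit 8128), (nat_lit 8128), (nat_lit 8129), (nat_lit 8512), (nat_lit 8254), (nat_lit 8255), (nat_lit 8001), (nat_lit 8383), (nat_lit 8255)],
  [(nat_lit 8125), (nat_lit 8129), (nat_lit 8255), (nat_lit 8384), (nat_lit 8383), (nat_lit 8000), (nat_lit 8254), (nat_lit 8385), (nat_lit 8513), (nat_lit 8512), (nat_lit 8382), (nat_lit 8384), (nat_lit 8129), (nat_lit 8383), (nat_lit 8386), (nat_lit 8258), (nat_lit 8130), (nat_lit 8128), (nat_lit 8126), (nat_lit 8127), (nat_lit 8767), (nat_lit 8387), (nat_lit 8255), (nat_lit 8130), (nat_lit 8256), (nat_lit 8386), (nat_lit 8126), (nat_lit 8255)],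
  [(nat_lit 8383), (nat_lit 8386), (nat_lit 8383), (nat_lit 8256), (nat_lit 8129), (nat_lit 7875), (nat_lit 8126), (nat_lit 8514), (nat_lit 8382), (nat_lit 8129), (nat_lit 7998), (nat_lit 8511), (nat_lit 8129), (nat_lit 8383), (nat_lit 8511), (nat_lit 8129), (nat_lit 8258), (nat_lit 8256), (nat_lit 8127), (nat_lit 8128), (nat_lit 8510), (nat_lit 8384), (nat_lit 7998), (nat_lit 8259), (nat_lit 8385), (nat_lit 8766), (nat_lit 8001), (nat_lit 8257)],
  [(nat_lit 8125), (nat_lit 8128), (nat_lit 8254), (nat_lit 8128), (nat_lit 8512), (nat_lit 8256), (nat_lit 8256), (nat_lit 8256), (nat_lit 8514), (nat_lit 8384), (nat_lit 8385), (nat_lit 8254), (nat_lit 8386), (nat_lit 8384), (nat_lit 8129), (nat_lit 8130), (nat_lit 8128), (nat_lit 8129), (nat_lit 8253), (nat_lit 8125), (nat_lit 8510), (nat_lit 8258), (nat_lit 8256), (nat_lit 8129), (nat_lit 8385), (nat_lit 8256), (nat_lit 8256), (nat_lit 8254)],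
  [(nat_lit 8384), (nat_lit 8256), (nat_lit 8256), (nat_lit 8256), (nat_lit 8129), (nat_lit 8384), (nat_lit 8256), (nat_lit 8255), (nat_lit 8128), (nat_lit 8257), (nat_lit 8130), (nat_lit 8256), (nat_lit 8385), (nat_lit 8128), (nat_lit 7999), (nat_lit 8383), (nat_lit 8384), (nat_lit 8256), (nat_lit 8256), (nat_lit 8385), (nat_lit 8000), (nat_lit 8127), (nat_lit 8384), (nat_lit 8254), (nat_lit 8256), (nat_lit 8127), (nat_lit 8385), (nat_lit 8384)],
  [(nat_lit 8255), (nat_lit 8258), (nat_lit 8256), (nat_lit 8128), (nat_lit 8255), (nat_lit 8001), (nat_lit 8000), (nat_lit 8256), (nat_lit 8511), (nat_lit 8127), (nat_lit 8256), (nat_lit 8255), (nat_lit 8384), (nat_lit 8383), (nat_lit 8385), (nat_lit 8256), (nat_lit 8257), (nat_lit 8256), (nat_lit 8128), (nat_lit 8000), (nat_lit 8253), (nat_lit 8384), (nat_lit 8255), (nat_lit 8256), (nat_lit 8384), (nat_lit 8511), (nat_lit 8128), (nat_lit 8128)],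
  [(nat_lit 7999), (nat_lit 8257), (nat_lit 8128), (nat_lit 8256), (nat_lit 8128), (nat_lit 8128), (nat_lit 8256), (nat_lit 8256), (nat_lit 8383), (nat_lit 8383), (nat_lit 8255), (nat_lit 8256), (nat_lit 8384), (nat_lit 8255), (nat_lit 8385), (nat_lit 8384), (nat_lit 8385), (nat_lit 8257), (nat_lit 7999), (nat_lit 8257), (nat_lit 8255), (nat_lit 8641), (nat_lit 8127), (nat_lit 8129), (nat_lit 8257), (nat_lit 8385), (nat_lit 8128), (nat_lit 8127)],
  [(nat_lit 8510), (nat_lit 8131), (nat_lit 8383), (nat_lit 8384), (nat_lit 8129), (nat_lit 8000), (nat_lit 8125), (nat_lit 8383), (nat_lit 8257), (nat_lit 8513), (nat_lit 8128), (nat_lit 8640), (nat_lit 8258), (nat_lit 8128), (nat_lit 8000), (nat_lit 8383), (nat_lit 8386), (nat_lit 8128), (nat_lit 8255), (nat_lit 8257), (nat_lit 8511), (nat_lit 8256), (nat_lit 8509), (nat_lit 7999), (nat_lit 8385), (nat_lit 8512), (nat_lit 8127), (nat_lit 8384)],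
  [(nat_lit 7872), (nat_lit 8383), (nat_lit 8000), (nat_lit 8384), (nat_lit 8385), (nat_lit 8639), (nat_lit 8257), (nat_lit 8126), (nat_lit 8129), (nat_lit 8511), (nat_lit 8386), (nat_lit 7999), (nat_lit 8511), (nat_lit 8129), (nat_lit 8001), (nat_lit 8383), (nat_lit 8510), (nat_lit 8385), (nat_lit 8129), (nat_lit 8384), (nat_lit 8001), (nat_lit 8255), (nat_lit 8129), (nat_lit 8256), (nat_lit 8383), (nat_lit 7872), (nat_lit 8512), (nat_lit 8255)],
  [(nat_lit 8381), (nat_lit 8001), (nat_lit 8256), (nat_lit 8256), (nat_lit 8124), (nat_lit 8126), (nat_lit 8257), (nat_lit 8128), (nat_lit 8642), (nat_lit 8384), (nat_lit 8639), (nat_lit 8257), (nat_lit 8257), (nat_lit 8384), (nat_lit 8131), (nat_lit 8386), (nat_lit 8002), (nat_lit 8000), (nat_lit 8381), (nat_lit 8000), (nat_lit 8384), (nat_lit 8261), (nat_lit 8765), (nat_lit 7869), (nat_lit 7872), (nat_lit 7876), (nat_lit 8253), (nat_lit 8254)],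
  [(nat_lit 8000), (nat_lit 8384), (nat_lit 8127), (nat_lit 8256), (nat_lit 8384), (nat_lit 8513), (nat_lit 8128), (nat_lit 8383), (nat_lit 8256), (nat_lit 8384), (nat_lit 8129), (nat_lit 8126), (nat_lit 8385), (nat_lit 8128), (nat_lit 8127), (nat_lit 8385), (nat_lit 8384), (nat_lit 8257), (nat_lit 8128), (nat_lit 8128), (nat_lit 8126), (nat_lit 8255), (nat_lit 8129), (nat_lit 8513), (nat_lit 8383), (nat_lit 8126), (nat_lit 8257), (nat_lit 8256)],
  [(nat_lit 8254), (nat_lit 8129), (nat_lit 8127), (nat_lit 8257), (nat_lit 8255), (nat_lit 8383), (nat_lit 8257), (nat_lit 8127), (nat_lit 8385), (nat_lit 8385), (nat_lit 8513), (nat_lit 8128), (nat_lit 8384), (nat_lit 8256), (nat_lit 8001), (nat_lit 8385), (nat_lit 8129), (nat_lit 8128), (nat_lit 8254), (nat_lit 8001), (nat_lit 8000), (nat_lit 8130), (nat_lit 8511), (nat_lit 7998), (nat_lit 8256), (nat_lit 7873), (nat_lit 8383), (nat_lit 8255)],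
  [(nat_lit 8254), (nat_lit 8129), (nat_lit 8127), (nat_lit 8255), (nat_lit 8382), (nat_lit 7998), (nat_lit 8128), (nat_lit 8129), (nat_lit 8641), (nat_lit 8510), (nat_lit 8639), (nat_lit 8256), (nat_lit 8256), (nat_lit 8512), (nat_lit 8388), (nat_lit 8256), (nat_lit 8129), (nat_lit 8128), (nat_lit 8126), (nat_lit 8128), (nat_lit 8512), (nat_lit 8389), (nat_lit 8254), (nat_lit 8001), (nat_lit 8128), (nat_lit 8259), (nat_lit 8126), (nat_lit 8126)]]
noncomputable def H0 : List (List Nat) := [[(nat_lit 8384), (nat_lit 8257), (nat_lit 8257), (nat_lit 8256), (nat_lit 8257), (nat_lit 8384), (nat_lit 8256), (nat_lit 8128), (nat_lit 8256), (nat_lit 8384), (nat_lit 8256), (nat_lit 8257), (nat_lit 8256), (nat_lit 8255), (nat_lit 8256), (nat_lit 8257), (nat_lit 8255), (nat_lit 8256), (nat_lit 8256), (nat_lit 8256), (nat_lit 8255), (nat_lit 8256), (nat_lit 8256), (nat_lit 8257), (nat_lit 8128), (nat_lit 8256), (nat_lit 8256), (nat_lit 8256)],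
  [(nat_lit 8384), (nat_lit 8256), (nat_lit 8384), (nat_lit 8257), (nat_lit 8384), (nat_lit 8257), (nat_lit 8256), (nat_lit 8256), (nat_lit 8257), (nat_lit 8256), (nat_lit 8255), (nat_lit 8256), (nat_lit 8256), (nat_lit 8256), (nat_lit 8256), (nat_lit 8255), (nat_lit 8256), (nat_lit 8257), (nat_lit 8128), (nat_lit 8256), (nat_lit 8128), (nat_lit 8256), (nat_lit 8256), (nat_lit 8384), (nat_lit 8256), (nat_lit 8257), (nat_lit 8256), (nat_lit 8255)],
  [(nat_lit 8255), (nat_lit 8384), (nat_lit 8384), (nat_lit 8255), (nat_lit 8256), (nat_lit 8255), (nat_lit 8256), (nat_lit 8255), (nat_lit 8256), (nat_lit 8256), (nat_lit 8256), (nat_lit 8257), (nat_lit 8128), (nat_lit 8256), (nat_lit 8255), (nat_lit 8256), (nat_lit 8256), (nat_lit 8384), (nat_lit 8256), (nat_lit 8255), (nat_lit 8128), (nat_lit 8257), (nat_lit 8255), (nat_lit 8384), (nat_lit 8384), (nat_lit 8256), (nat_lit 8256), (nat_lit 8128)],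
  [(nat_lit 8257), (nat_lit 8256), (nat_lit 8128), (nat_lit 8256), (nat_lit 8256), (nat_lit 8384), (nat_lit 8256), (nat_lit 8255), (nat_lit 8384), (nat_lit 8256), (nat_lit 8257), (nat_lit 8256), (nat_lit 8128), (nat_lit 8255), (nat_lit 8256), (nat_lit 8257), (nat_lit 8256), (nat_lit 8255), (nat_lit 8256), (nat_lit 8255), (nat_lit 8257), (nat_lit 8384), (nat_lit 8255), (nat_lit 8128), (nat_lit 8255), (nat_lit 8384), (nat_lit 8257), (nat_lit 8384)],
  [(nat_lit 8256), (nat_lit 8256), (nat_lit 8256), (nat_lit 8256), (nat_lit 8256), (nat_lit 8384), (nat_lit 8256), (nat_lit 8256), (nat_lit 8257), (nat_lit 8256), (nat_lit 8384), (nat_lit 8384), (nat_lit 8256), (nat_lit 8256), (nat_lit 8384), (nat_lit 8256), (nat_lit 8257), (nat_lit 8384), (nat_lit 8256), (nat_lit 8256), (nat_lit 8256), (nat_lit 8256), (nat_lit 8256), (nat_lit 8256), (nat_lit 8256), (nat_lit 8256), (nat_lit 8257), (nat_lit 8256)],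
  [(nat_lit 8257), (nat_lit 8256), (nat_lit 8256), (nat_lit 8256), (nat_lit 8256), (nat_lit 8255), (nat_lit 8256), (nat_lit 8255), (nat_lit 8256), (nat_lit 8256), (nat_lit 8256), (nat_lit 8256), (nat_lit 8128), (nat_lit 8256), (nat_lit 8257), (nat_lit 8257), (nat_lit 8256), (nat_lit 8256), (nat_lit 8256), (nat_lit 8256), (nat_lit 8256), (nat_lit 8384), (nat_lit 8256), (nat_lit 8128), (nat_lit 8256), (nat_lit 8255), (nat_lit 8257), (nat_lit 8384)],
  [(nat_lit 8256), (nat_lit 8257), (nat_lit 8256), (nat_lit 8256), (nat_lit 8256), (nat_lit 8384), (nat_lit 8128), (nat_lit 8257), (nat_lit 8255), (nat_lit 8256), (nat_lit 8255), (nat_lit 8128), (nat_lit 8257), (nat_lit 8128), (nat_lit 8256), (nat_lit 8255), (nat_lit 8128), (nat_lit 8257), (nat_lit 8257), (nat_lit 8256), (nat_lit 8384), (nat_lit 8128), (nat_lit 8256), (nat_lit 8256), (nat_lit 8257), (nat_lit 8256), (nat_lit 8384), (nat_lit 8255)],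
  [(nat_lit 8257), (nat_lit 8128), (nat_lit 8256), (nat_lit 8257), (nat_lit 8256), (nat_lit 8257), (nat_lit 8255), (nat_lit 8256), (nat_lit 8384), (nat_lit 8256), (nat_lit 8255), (nat_lit 8252), (nat_lit 8256), (nat_lit 8256), (nat_lit 8384), (nat_lit 8255), (nat_lit 8256), (nat_lit 8128), (nat_lit 8256), (nat_lit 8257), (nat_lit 8257), (nat_lit 8256), (nat_lit 8257), (nat_lit 8255), (nat_lit 8256), (nat_lit 8257), (nat_lit 8384), (nat_lit 8384)],
  [(nat_lit 8128), (nat_lit 8255), (nat_lit 8256), (nat_lit 8256), (nat_lit 8256), (nat_lit 8255), (nat_lit 8256), (nat_lit 8255), (nat_lit 8256), (nat_lit 8256), (nat_lit 8257), (nat_lit 8257), (nat_lit 8128), (nat_lit 8384), (nat_lit 8256), (nat_lit 8256), (nat_lit 8257), (nat_lit 8255), (nat_lit 8256), (nat_lit 8255), (nat_lit 8256), (nat_lit 8384), (nat_lit 8255), (nat_lit 8128), (nat_lit 8255), (nat_lit 8255), (nat_lit 8257), (nat_lit 8257)],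
  [(nat_lit 8255), (nat_lit 8257), (nat_lit 8384), (nat_lit 8256), (nat_lit 8257), (nat_lit 8256), (nat_lit 8256), (nat_lit 8257), (nat_lit 8256), (nat_lit 8255), (nat_lit 8256), (nat_lit 8257), (nat_lit 8255), (nat_lit 8384), (nat_lit 8255), (nat_lit 8384), (nat_lit 8256), (nat_lit 8257), (nat_lit 8256), (nat_lit 8384), (nat_lit 8255), (nat_lit 8128), (nat_lit 8256), (nat_lit 8384), (nat_lit 8256), (nat_lit 8128), (nat_lit 8255), (nat_lit 8128)],
  [(nat_lit 8257), (nat_lit 8257), (nat_lit 8256), (nat_lit 8256), (nat_lit 8256), (nat_lit 8384), (nat_lit 8256), (nat_lit 8255), (nat_lit 8256), (nat_lit 8257), (nat_lit 8128), (nat_lit 8128), (nat_lit 8384), (nat_lit 8255), (nat_lit 8256), (nat_lit 8128), (nat_lit 8128), (nat_lit 8256), (nat_lit 8257), (nat_lit 8384), (nat_lit 8384), (nat_lit 8257), (nat_lit 8255), (nat_lit 8256), (nat_lit 8256), (nat_lit 8256), (nat_lit 8256), (nat_lit 8128)],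
  [(nat_lit 8128), (nat_lit 8384), (nat_lit 8255), (nat_lit 8256), (nat_lit 8128), (nat_lit 8256), (nat_lit 8256), (nat_lit 8256), (nat_lit 8384), (nat_lit 8257), (nat_lit 8256), (nat_lit 8256), (nat_lit 8255), (nat_lit 8256), (nat_lit 8128), (nat_lit 8255), (nat_lit 8128), (nat_lit 8256), (nat_lit 8257), (nat_lit 8384), (nat_lit 8384), (nat_lit 8257), (nat_lit 8384), (nat_lit 8384), (nat_lit 8257), (nat_lit 8255), (nat_lit 8256), (nat_lit 8128)],
  [(nat_lit 8256), (nat_lit 8256), (nat_lit 8128), (nat_lit 8255), (nat_lit 8256), (nat_lit 8256), (nat_lit 8256), (nat_lit 8257), (nat_lit 8384), (nat_lit 8257), (nat_lit 8384), (nat_lit 8384), (nat_lit 8256), (nat_lit 8128), (nat_lit 8257), (nat_lit 8257), (nat_lit 8255), (nat_lit 8256), (nat_lit 8256), (nat_lit 8257), (nat_lit 8256), (nat_lit 8255), (nat_lit 8256), (nat_lit 8384), (nat_lit 8257), (nat_lit 8256), (nat_lit 8256), (nat_lit 8384)],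
  [(nat_lit 8255), (nat_lit 8384), (nat_lit 8256), (nat_lit 8256), (nat_lit 8256), (nat_lit 8255), (nat_lit 8256), (nat_lit 8384), (nat_lit 8128), (nat_lit 8256), (nat_lit 8128), (nat_lit 8128), (nat_lit 8255), (nat_lit 8257), (nat_lit 8256), (nat_lit 8256), (nat_lit 8256), (nat_lit 8256), (nat_lit 8256), (nat_lit 8255), (nat_lit 8128), (nat_lit 8257), (nat_lit 8384), (nat_lit 8256), (nat_lit 8256), (nat_lit 8384), (nat_lit 8128), (nat_lit 8256)],
  [(nat_lit 8384), (nat_lit 8384), (nat_lit 8128), (nat_lit 8384), (nat_lit 8257), (nat_lit 8384), (nat_lit 8256), (nat_lit 8257), (nat_lit 8255), (nat_lit 8256), (nat_lit 8257), (nat_lit 8128), (nat_lit 8256), (nat_lit 8128), (nat_lit 8257), (nat_lit 8257), (nat_lit 8128), (nat_lit 8256), (nat_lit 8384), (nat_lit 8384), (nat_lit 8255), (nat_lit 8384), (nat_lit 8384), (nat_lit 8256), (nat_lit 8256), (nat_lit 8384), (nat_lit 8255), (nat_lit 8256)],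
  [(nat_lit 8256), (nat_lit 8384), (nat_lit 8257), (nat_lit 8256), (nat_lit 8384), (nat_lit 8256), (nat_lit 8384), (nat_lit 8256), (nat_lit 8256), (nat_lit 8257), (nat_lit 8256), (nat_lit 8256), (nat_lit 8256), (nat_lit 8128), (nat_lit 8256), (nat_lit 8255), (nat_lit 8128), (nat_lit 8256), (nat_lit 8257), (nat_lit 8256), (nat_lit 8255), (nat_lit 8257), (nat_lit 8255), (nat_lit 8384), (nat_lit 8257), (nat_lit 8256), (nat_lit 8256), (nat_lit 8255)],
  [(nat_lit 8256), (nat_lit 8256), (nat_lit 8128), (nat_lit 8256), (nat_lit 8255), (nat_lit 8384), (nat_lit 8128), (nat_lit 8256), (nat_lit 8256), (nat_lit 8384), (nat_lit 8256), (nat_lit 8256), (nat_lit 8256), (nat_lit 8255), (nat_lit 8256), (nat_lit 8256), (nat_lit 8256), (nat_lit 8255), (nat_lit 8255), (nat_lit 8255), (nat_lit 8257), (nat_lit 8255), (nat_lit 8256), (nat_lit 8128), (nat_lit 8128), (nat_lit 8384), (nat_lit 8257), (nat_lit 8257)],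
  [(nat_lit 8256), (nat_lit 8256), (nat_lit 8256), (nat_lit 8257), (nat_lit 8256), (nat_lit 8256), (nat_lit 8128), (nat_lit 8256), (nat_lit 8256), (nat_lit 8256), (nat_lit 8384), (nat_lit 8255), (nat_lit 8256), (nat_lit 8256), (nat_lit 8256), (nat_lit 8384), (nat_lit 8256), (nat_lit 8128), (nat_lit 8255), (nat_lit 8256), (nat_lit 8257), (nat_lit 8255), (nat_lit 8257), (nat_lit 8256), (nat_lit 8128), (nat_lit 8384), (nat_lit 8256), (nat_lit 8256)],
  [(nat_lit 8257), (nat_lit 8128), (nat_lit 8128), (nat_lit 8256), (nat_lit 8256), (nat_lit 8257), (nat_lit 8257), (nat_lit 8384), (nat_lit 8384), (nat_lit 8257), (nat_lit 8384), (nat_lit 8384), (nat_lit 8256), (nat_lit 8384), (nat_lit 8256), (nat_lit 8256), (nat_lit 8384), (nat_lit 8256), (nat_lit 8255), (nat_lit 8384), (nat_lit 8256), (nat_lit 8255), (nat_lit 8256), (nat_lit 8256), (nat_lit 8255), (nat_lit 8256), (nat_lit 8255), (nat_lit 8256)],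
  [(nat_lit 8256), (nat_lit 8256), (nat_lit 8257), (nat_lit 8128), (nat_lit 8257), (nat_lit 8128), (nat_lit 8384), (nat_lit 8255), (nat_lit 8128), (nat_lit 8256), (nat_lit 8256), (nat_lit 8255), (nat_lit 8256), (nat_lit 8257), (nat_lit 8384), (nat_lit 8384), (nat_lit 8256), (nat_lit 8256), (nat_lit 8256), (nat_lit 8128), (nat_lit 8256), (nat_lit 8257), (nat_lit 8256), (nat_lit 8256), (nat_lit 8255), (nat_lit 8256), (nat_lit 8256), (nat_lit 8384)],
  [(nat_lit 8257), (nat_lit 8128), (nat_lit 8128), (nat_lit 8255), (nat_lit 8255), (nat_lit 8128), (nat_lit 8256), (nat_lit 8256), (nat_lit 8255), (nat_lit 8257), (nat_lit 8256), (nat_lit 8256), (nat_lit 8257), (nat_lit 8128), (nat_lit 8257), (nat_lit 8257), (nat_lit 8255), (nat_lit 8128), (nat_lit 8256), (nat_lit 8256), (nat_lit 8256), (nat_lit 8255), (nat_lit 8128), (nat_lit 8128), (nat_lit 8256), (nat_lit 8256), (nat_lit 8384), (nat_lit 8384)],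
  [(nat_lit 8256), (nat_lit 8128), (nat_lit 8256), (nat_lit 8256), (nat_lit 8128), (nat_lit 8384), (nat_lit 8257), (nat_lit 8255), (nat_lit 8256), (nat_lit 8256), (nat_lit 8255), (nat_lit 8257), (nat_lit 8257), (nat_lit 8384), (nat_lit 8256), (nat_lit 8128), (nat_lit 8384), (nat_lit 8384), (nat_lit 8128), (nat_lit 8256), (nat_lit 8384), (nat_lit 8128), (nat_lit 8256), (nat_lit 8128), (nat_lit 8255), (nat_lit 8255), (nat_lit 8256), (nat_lit 8128)],
  [(nat_lit 8256), (nat_lit 8255), (nat_lit 8256), (nat_lit 8257), (nat_lit 8256), (nat_lit 8256), (nat_lit 8256), (nat_lit 8256), (nat_lit 8256), (nat_lit 8255), (nat_lit 8256), (nat_lit 8255), (nat_lit 8128), (nat_lit 8128), (nat_lit 8257), (nat_lit 8256), (nat_lit 8256), (nat_lit 8128), (nat_lit 8128), (nat_lit 8128), (nat_lit 8257), (nat_lit 8256), (nat_lit 8256), (nat_lit 8255), (nat_lit 8256), (nat_lit 8384), (nat_lit 8257), (nat_lit 8384)],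
  [(nat_lit 8256), (nat_lit 8256), (nat_lit 8384), (nat_lit 8256), (nat_lit 8257), (nat_lit 8256), (nat_lit 8256), (nat_lit 8256), (nat_lit 8256), (nat_lit 8256), (nat_lit 8256), (nat_lit 8257), (nat_lit 8256), (nat_lit 8256), (nat_lit 8256), (nat_lit 8256), (nat_lit 8128), (nat_lit 8257), (nat_lit 8257), (nat_lit 8384), (nat_lit 8255), (nat_lit 8257), (nat_lit 8255), (nat_lit 8384), (nat_lit 8384), (nat_lit 8128), (nat_lit 8256), (nat_lit 8128)],
  [(nat_lit 8384), (nat_lit 8255), (nat_lit 8256), (nat_lit 8384), (nat_lit 8256), (nat_lit 8256), (nat_lit 8256), (nat_lit 8255), (nat_lit 8384), (nat_lit 8257), (nat_lit 8384), (nat_lit 8256), (nat_lit 8128), (nat_lit 8256), (nat_lit 8256), (nat_lit 8256), (nat_lit 8384), (nat_lit 8256), (nat_lit 8256), (nat_lit 8255), (nat_lit 8128), (nat_lit 8384), (nat_lit 8256), (nat_lit 8256), (nat_lit 8255), (nat_lit 8384), (nat_lit 8256), (nat_lit 8256)],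
  [(nat_lit 8256), (nat_lit 8128), (nat_lit 8256), (nat_lit 8256), (nat_lit 8384), (nat_lit 8384), (nat_lit 8256), (nat_lit 8256), (nat_lit 8384), (nat_lit 8255), (nat_lit 8255), (nat_lit 8255), (nat_lit 8128), (nat_lit 8255), (nat_lit 8256), (nat_lit 8256), (nat_lit 8256), (nat_lit 8256), (nat_lit 8128), (nat_lit 8256), (nat_lit 8257), (nat_lit 8255), (nat_lit 8255), (nat_lit 8255), (nat_lit 8256), (nat_lit 8256), (nat_lit 8257), (nat_lit 8384)],
  [(nat_lit 8256), (nat_lit 8255), (nat_lit 8128), (nat_lit 8255), (nat_lit 8256), (nat_lit 8256), (nat_lit 8384), (nat_lit 8256), (nat_lit 8255), (nat_lit 8256), (nat_lit 8257), (nat_lit 8257), (nat_lit 8128), (nat_lit 8256), (nat_lit 8128), (nat_lit 8256), (nat_lit 8256), (nat_lit 8256), (nat_lit 8256), (nat_lit 8255), (nat_lit 8255), (nat_lit 8384), (nat_lit 8255), (nat_lit 8128), (nat_lit 8255), (nat_lit 8255), (nat_lit 8255), (nat_lit 8257)],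
  [(nat_lit 8257), (nat_lit 8255), (nat_lit 8128), (nat_lit 8257), (nat_lit 8128), (nat_lit 8384), (nat_lit 8128), (nat_lit 8256), (nat_lit 8256), (nat_lit 8256), (nat_lit 8384), (nat_lit 8256), (nat_lit 8257), (nat_lit 8255), (nat_lit 8257), (nat_lit 8128), (nat_lit 8257), (nat_lit 8255), (nat_lit 8256), (nat_lit 8256), (nat_lit 8384), (nat_lit 8255), (nat_lit 8256), (nat_lit 8128), (nat_lit 8256), (nat_lit 8256), (nat_lit 8257), (nat_lit 8256)]]
noncomputable def A1 : List (List Nat) := [[(nat_lit 8256), (nat_lit 8001), (nat_lit 8382), (nat_lit 8512), (nat_lit 8385), (nat_lit 8258), (nat_lit 8128), (nat_lit 8512), (nat_lit 8384), (nat_lit 7872), (nat_lit 8512), (nat_lit 8000), (nat_lit 8129), (nat_lit 8642), (nat_lit 8256), (nat_lit 8255), (nat_lit 8386), (nat_lit 8386), (nat_lit 8000), (nat_lit 8511), (nat_lit 8130), (nat_lit 8254), (nat_lit 8385), (nat_lit 8255), (nat_lit 8256), (nat_lit 8000), (nat_lit 7742), (nat_lit 8256)],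
  [(nat_lit 8385), (nat_lit 8384), (nat_lit 8257), (nat_lit 8129), (nat_lit 8256), (nat_lit 8511), (nat_lit 8000), (nat_lit 8001), (nat_lit 8256), (nat_lit 8384), (nat_lit 8254), (nat_lit 8512), (nat_lit 8384), (nat_lit 8254), (nat_lit 8128), (nat_lit 8513), (nat_lit 8127), (nat_lit 7998), (nat_lit 8382), (nat_lit 8384), (nat_lit 8255), (nat_lit 8383), (nat_lit 8128), (nat_lit 8257), (nat_lit 8256), (nat_lit 8384), (nat_lit 8640), (nat_lit 8128)],
  [(nat_lit 8257), (nat_lit 8127), (nat_lit 8127), (nat_lit 8384), (nat_lit 8385), (nat_lit 8257), (nat_lit 8128), (nat_lit 8384), (nat_lit 8384), (nat_lit 8129), (nat_lit 8384), (nat_lit 8256), (nat_lit 8128), (nat_lit 8384), (nat_lit 8256), (nat_lit 8255), (nat_lit 8257), (nat_lit 8257), (nat_lit 8256), (nat_lit 8383), (nat_lit 8128), (nat_lit 8383), (nat_lit 8383), (nat_lit 8256), (nat_lit 8256), (nat_lit 8128), (nat_lit 8127), (nat_lit 8256)],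
  [(nat_lit 8256), (nat_lit 8256), (nat_lit 8256), (nat_lit 8128), (nat_lit 8256), (nat_lit 8129), (nat_lit 8384), (nat_lit 8256), (nat_lit 8128), (nat_lit 8384), (nat_lit 8255), (nat_lit 8385), (nat_lit 8256), (nat_lit 8384), (nat_lit 8256), (nat_lit 8383), (nat_lit 8256), (nat_lit 8257), (nat_lit 8256), (nat_lit 8255), (nat_lit 8255), (nat_lit 8128), (nat_lit 8128), (nat_lit 8255), (nat_lit 8255), (nat_lit 8128), (nat_lit 8256), (nat_lit 8128)],
  [(nat_lit 8256), (nat_lit 8255), (nat_lit 8256), (nat_lit 8384), (nat_lit 7999), (nat_lit 8513), (nat_lit 8257), (nat_lit 8383), (nat_lit 8256), (nat_lit 8511), (nat_lit 8256), (nat_lit 8384), (nat_lit 8386), (nat_lit 8510), (nat_lit 8130), (nat_lit 8001), (nat_lit 8002), (nat_lit 8384), (nat_lit 8129), (nat_lit 8383), (nat_lit 8130), (nat_lit 7999), (nat_lit 8256), (nat_lit 8255), (nat_lit 8384), (nat_lit 8384), (nat_lit 8000), (nat_lit 7874)],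
  [(nat_lit 8384), (nat_lit 8255), (nat_lit 8384), (nat_lit 8256), (nat_lit 8383), (nat_lit 7870), (nat_lit 8386), (nat_lit 8257), (nat_lit 8255), (nat_lit 8384), (nat_lit 8000), (nat_lit 8254), (nat_lit 8128), (nat_lit 8000), (nat_lit 8257), (nat_lit 8382), (nat_lit 8257), (nat_lit 8130), (nat_lit 8127), (nat_lit 8127), (nat_lit 8257), (nat_lit 8255), (nat_lit 8000), (nat_lit 8382), (nat_lit 8383), (nat_lit 8127), (nat_lit 8255), (nat_lit 8256)],
  [(nat_lit 8254), (nat_lit 8255), (nat_lit 8255), (nat_lit 8256), (nat_lit 8383), (nat_lit 7871), (nat_lit 8256), (nat_lit 8386), (nat_lit 8128), (nat_lit 8129), (nat_lit 8257), (nat_lit 8000), (nat_lit 8255), (nat_lit 8003), (nat_lit 8384), (nat_lit 8383), (nat_lit 8255), (nat_lit 8001), (nat_lit 8128), (nat_lit 8257), (nat_lit 8255), (nat_lit 8254), (nat_lit 8384), (nat_lit 8385), (nat_lit 8129), (nat_lit 8256), (nat_lit 8383), (nat_lit 8383)],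
  [(nat_lit 8127), (nat_lit 8256), (nat_lit 8256), (nat_lit 8256), (nat_lit 8384), (nat_lit 8126), (nat_lit 8257), (nat_lit 8384), (nat_lit 8257), (nat_lit 8129), (nat_lit 8255), (nat_lit 8384), (nat_lit 8126), (nat_lit 8257), (nat_lit 8256), (nat_lit 8511), (nat_lit 8256), (nat_lit 8129), (nat_lit 8128), (nat_lit 8255), (nat_lit 8128), (nat_lit 8128), (nat_lit 8255), (nat_lit 8512), (nat_lit 8257), (nat_lit 8255), (nat_lit 8128), (nat_lit 8384)],
  [(nat_lit 8256), (nat_lit 8129), (nat_lit 8129), (nat_lit 8256), (nat_lit 8256), (nat_lit 8641), (nat_lit 8255), (nat_lit 8127), (nat_lit 8256), (nat_lit 8255), (nat_lit 8256), (nat_lit 8256), (nat_lit 8512), (nat_lit 8126), (nat_lit 8383), (nat_lit 8001), (nat_lit 8512), (nat_lit 8510), (nat_lit 8513), (nat_lit 8001), (nat_lit 8512), (nat_lit 8130), (nat_lit 8256), (nat_lit 8001), (nat_lit 8128), (nat_lit 8386), (nat_lit 8387), (nat_lit 8385)],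
  [(nat_lit 8256), (nat_lit 8256), (nat_lit 8128), (nat_lit 8127), (nat_lit 8254), (nat_lit 8130), (nat_lit 8512), (nat_lit 8255), (nat_lit 8128), (nat_lit 8513), (nat_lit 8255), (nat_lit 8385), (nat_lit 8257), (nat_lit 8383), (nat_lit 8256), (nat_lit 8126), (nat_lit 8384), (nat_lit 8513), (nat_lit 8257), (nat_lit 7999), (nat_lit 8384), (nat_lit 8000), (nat_lit 8000), (nat_lit 8126), (nat_lit 8255), (nat_lit 8129), (nat_lit 8130), (nat_lit 8128)],
  [(nat_lit 8384), (nat_lit 8256), (nat_lit 8255), (nat_lit 8255), (nat_lit 8128), (nat_lit 8513), (nat_lit 8383), (nat_lit 8127), (nat_lit 8127), (nat_lit 8255), (nat_lit 8385), (nat_lit 8129), (nat_lit 8514), (nat_lit 8254), (nat_lit 8257), (nat_lit 8002), (nat_lit 8385), (nat_lit 8510), (nat_lit 8257), (nat_lit 8256), (nat_lit 8512), (nat_lit 8256), (nat_lit 8257), (nat_lit 7872), (nat_lit 8126), (nat_lit 8257), (nat_lit 8130), (nat_lit 8130)],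
  [(nat_lit 8129), (nat_lit 8129), (nat_lit 8127), (nat_lit 8256), (nat_lit 8256), (nat_lit 8259), (nat_lit 8127), (nat_lit 8383), (nat_lit 8385), (nat_lit 8258), (nat_lit 8383), (nat_lit 8257), (nat_lit 8128), (nat_lit 8641), (nat_lit 8255), (nat_lit 8127), (nat_lit 8255), (nat_lit 8385), (nat_lit 8257), (nat_lit 8384), (nat_lit 8128), (nat_lit 8256), (nat_lit 8384), (nat_lit 8256), (nat_lit 8257), (nat_lit 8129), (nat_lit 8128), (nat_lit 8255)],
  [(nat_lit 8257), (nat_lit 8385), (nat_lit 8257), (nat_lit 8256), (nat_lit 8255), (nat_lit 8385), (nat_lit 8384), (nat_lit 8127), (nat_lit 8383), (nat_lit 8384), (nat_lit 8129), (nat_lit 8256), (nat_lit 8129), (nat_lit 8255), (nat_lit 8127), (nat_lit 8000), (nat_lit 8255), (nat_lit 8511), (nat_lit 8384), (nat_lit 8129), (nat_lit 8384), (nat_lit 8386), (nat_lit 8128), (nat_lit 8127), (nat_lit 8383), (nat_lit 8385), (nat_lit 8385), (nat_lit 8255)],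
  [(nat_lit 8383), (nat_lit 8257), (nat_lit 8256), (nat_lit 8384), (nat_lit 8256), (nat_lit 8640), (nat_lit 8256), (nat_lit 8256), (nat_lit 8256), (nat_lit 8127), (nat_lit 8256), (nat_lit 8256), (nat_lit 8384), (nat_lit 8255), (nat_lit 8256), (nat_lit 8129), (nat_lit 8384), (nat_lit 8383), (nat_lit 8128), (nat_lit 8256), (nat_lit 8256), (nat_lit 8128), (nat_lit 8385), (nat_lit 8129), (nat_lit 8128), (nat_lit 8385), (nat_lit 8128), (nat_lit 8257)],
  [(nat_lit 8255), (nat_lit 8256), (nat_lit 8257), (nat_lit 8128), (nat_lit 8129), (nat_lit 8509), (nat_lit 8127), (nat_lit 8129), (nat_lit 8129), (nat_lit 8127), (nat_lit 8256), (nat_lit 8384), (nat_lit 8510), (nat_lit 7872), (nat_lit 8256), (nat_lit 8387), (nat_lit 8254), (nat_lit 7997), (nat_lit 8383), (nat_lit 8258), (nat_lit 8254), (nat_lit 8385), (nat_lit 8384), (nat_lit 8260), (nat_lit 8001), (nat_lit 8511), (nat_lit 8640), (nat_lit 8385)],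
  [(nat_lit 8256), (nat_lit 8256), (nat_lit 8257), (nat_lit 8128), (nat_lit 8384), (nat_lit 7871), (nat_lit 8512), (nat_lit 8128), (nat_lit 8128), (nat_lit 8256), (nat_lit 8128), (nat_lit 8255), (nat_lit 8127), (nat_lit 8001), (nat_lit 8383), (nat_lit 8382), (nat_lit 8512), (nat_lit 8257), (nat_lit 8384), (nat_lit 7872), (nat_lit 8383), (nat_lit 8258), (nat_lit 8000), (nat_lit 8255), (nat_lit 8255), (nat_lit 8128), (nat_lit 8385), (nat_lit 8511)],
  [(nat_lit 8257), (nat_lit 8384), (nat_lit 8257), (nat_lit 8128), (nat_lit 8255), (nat_lit 8128), (nat_lit 8256), (nat_lit 8128), (nat_lit 8256), (nat_lit 8385), (nat_lit 8127), (nat_lit 8384), (nat_lit 8128), (nat_lit 8256), (nat_lit 8127), (nat_lit 8255), (nat_lit 8254), (nat_lit 8256), (nat_lit 8383), (nat_lit 8129), (nat_lit 8255), (nat_lit 8385), (nat_lit 8128), (nat_lit 8256), (nat_lit 8384), (nat_lit 8256), (nat_lit 8512), (nat_lit 8254)],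
  [(nat_lit 8256), (nat_lit 8383), (nat_lit 8385), (nat_lit 8257), (nat_lit 8128), (nat_lit 8256), (nat_lit 8256), (nat_lit 8257), (nat_lit 8256), (nat_lit 8383), (nat_lit 8257), (nat_lit 8256), (nat_lit 8128), (nat_lit 8257), (nat_lit 8128), (nat_lit 8256), (nat_lit 8000), (nat_lit 8128), (nat_lit 8255), (nat_lit 8385), (nat_lit 8127), (nat_lit 8384), (nat_lit 8256), (nat_lit 8384), (nat_lit 8384), (nat_lit 8383), (nat_lit 8382), (nat_lit 8127)],
  [(nat_lit 8256), (nat_lit 7999), (nat_lit 8254), (nat_lit 8384), (nat_lit 8385), (nat_lit 8129), (nat_lit 8128), (nat_lit 8385), (nat_lit 8384), (nat_lit 8128), (nat_lit 8256), (nat_lit 8127), (nat_lit 8257), (nat_lit 8384), (nat_lit 8385), (nat_lit 8255), (nat_lit 8258), (nat_lit 8258), (nat_lit 8129), (nat_lit 8383), (nat_lit 8130), (nat_lit 8254), (nat_lit 8384), (nat_lit 8255), (nat_lit 8256), (nat_lit 8000), (nat_lit 7999), (nat_lit 8257)],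
  [(nat_lit 8256), (nat_lit 8384), (nat_lit 8255), (nat_lit 8257), (nat_lit 8255), (nat_lit 8130), (nat_lit 8128), (nat_lit 8386), (nat_lit 8257), (nat_lit 8257), (nat_lit 8127), (nat_lit 8256), (nat_lit 8256), (nat_lit 8385), (nat_lit 8128), (nat_lit 8254), (nat_lit 8126), (nat_lit 8129), (nat_lit 8127), (nat_lit 8385), (nat_lit 8127), (nat_lit 8255), (nat_lit 8386), (nat_lit 8256), (nat_lit 8257), (nat_lit 8257), (nat_lit 8382), (nat_lit 8127)],
  [(nat_lit 8127), (nat_lit 8128), (nat_lit 7999), (nat_lit 8256), (nat_lit 8128), (nat_lit 8386), (nat_lit 8256), (nat_lit 8511), (nat_lit 8258), (nat_lit 8257), (nat_lit 8255), (nat_lit 8385), (nat_lit 8383), (nat_lit 8512), (nat_lit 8384), (nat_lit 8127), (nat_lit 8256), (nat_lit 8385), (nat_lit 8130), (nat_lit 8255), (nat_lit 8128), (nat_lit 7872), (nat_lit 8512), (nat_lit 8257), (nat_lit 8129), (nat_lit 8257), (nat_lit 8000), (nat_lit 8257)],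
  [(nat_lit 8127), (nat_lit 8513), (nat_lit 8129), (nat_lit 8000), (nat_lit 8256), (nat_lit 8253), (nat_lit 8383), (nat_lit 8128), (nat_lit 8129), (nat_lit 8129), (nat_lit 8128), (nat_lit 8384), (nat_lit 8253), (nat_lit 7873), (nat_lit 8255), (nat_lit 8385), (nat_lit 8380), (nat_lit 8125), (nat_lit 8384), (nat_lit 8002), (nat_lit 8381), (nat_lit 8387), (nat_lit 8384), (nat_lit 8259), (nat_lit 8001), (nat_lit 8512), (nat_lit 8642), (nat_lit 8639)],
  [(nat_lit 8001), (nat_lit 7999), (nat_lit 8254), (nat_lit 8383), (nat_lit 8257), (nat_lit 7874), (nat_lit 8511), (nat_lit 8382), (nat_lit 8384), (nat_lit 8128), (nat_lit 8386), (nat_lit 8000), (nat_lit 8129), (nat_lit 8513), (nat_lit 8512), (nat_lit 8127), (nat_lit 8387), (nat_lit 8514), (nat_lit 8259), (nat_lit 8255), (nat_lit 8386), (nat_lit 8257), (nat_lit 8255), (nat_lit 8125), (nat_lit 8383), (nat_lit 7871), (nat_lit 7873), (nat_lit 8385)],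
  [(nat_lit 8127), (nat_lit 8255), (nat_lit 8513), (nat_lit 8385), (nat_lit 8129), (nat_lit 8125), (nat_lit 8258), (nat_lit 8385), (nat_lit 8385), (nat_lit 8254), (nat_lit 8000), (nat_lit 8382), (nat_lit 8126), (nat_lit 8129), (nat_lit 8257), (nat_lit 8512), (nat_lit 8001), (nat_lit 8002), (nat_lit 8127), (nat_lit 8384), (nat_lit 8001), (nat_lit 8129), (nat_lit 8256), (nat_lit 8639), (nat_lit 8513), (nat_lit 8381), (nat_lit 8253), (nat_lit 8257)],
  [(nat_lit 8256), (nat_lit 8384), (nat_lit 8257), (nat_lit 8256), (nat_lit 8127), (nat_lit 8257), (nat_lit 8256), (nat_lit 8255), (nat_lit 8256), (nat_lit 8513), (nat_lit 8384), (nat_lit 8257), (nat_lit 8129), (nat_lit 8513), (nat_lit 8128), (nat_lit 8129), (nat_lit 7999), (nat_lit 8256), (nat_lit 8256), (nat_lit 8385), (nat_lit 8128), (nat_lit 8255), (nat_lit 8255), (nat_lit 8512), (nat_lit 8385), (nat_lit 8384), (nat_lit 8256), (nat_lit 7998)],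
  [(nat_lit 8128), (nat_lit 8257), (nat_lit 8129), (nat_lit 8257), (nat_lit 8128), (nat_lit 8514), (nat_lit 7998), (nat_lit 8256), (nat_lit 8386), (nat_lit 8257), (nat_lit 8384), (nat_lit 8257), (nat_lit 8127), (nat_lit 8386), (nat_lit 8126), (nat_lit 8001), (nat_lit 8125), (nat_lit 8255), (nat_lit 8384), (nat_lit 8387), (nat_lit 7998), (nat_lit 8385), (nat_lit 8512), (nat_lit 8387), (nat_lit 8131), (nat_lit 8513), (nat_lit 8511), (nat_lit 8254)],
  [(nat_lit 8256), (nat_lit 8383), (nat_lit 8383), (nat_lit 8384), (nat_lit 8255), (nat_lit 8128), (nat_lit 8385), (nat_lit 8384), (nat_lit 8255), (nat_lit 8256), (nat_lit 8257), (nat_lit 8128), (nat_lit 8129), (nat_lit 8384), (nat_lit 8129), (nat_lit 8255), (nat_lit 8129), (nat_lit 8257), (nat_lit 8000), (nat_lit 8383), (nat_lit 8257), (nat_lit 8255), (nat_lit 8256), (nat_lit 8254), (nat_lit 8383), (nat_lit 8255), (nat_lit 7999), (nat_lit 8128)],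
  [(nat_lit 8256), (nat_lit 8256), (nat_lit 8255), (nat_lit 8384), (nat_lit 8384), (nat_lit 8129), (nat_lit 8257), (nat_lit 8384), (nat_lit 8384), (nat_lit 8257), (nat_lit 8255), (nat_lit 8256), (nat_lit 8128), (nat_lit 8512), (nat_lit 8256), (nat_lit 8382), (nat_lit 8257), (nat_lit 8258), (nat_lit 8128), (nat_lit 8382), (nat_lit 8129), (nat_lit 8127), (nat_lit 8256), (nat_lit 8382), (nat_lit 8384), (nat_lit 8128), (nat_lit 7999), (nat_lit 8128)]]
noncomputable def S1 : List (List Nat) := [[(nat_lit 8256), (nat_lit 8129), (nat_lit 8257), (nat_lit 8256), (nat_lit 8256), (nat_lit 8128), (nat_lit 8254), (nat_lit 8383), (nat_lit 8256), (nat_lit 8256), (nat_lit 8128), (nat_lit 8385), (nat_lit 8257), (nat_lit 8127), (nat_lit 8255), (nat_lit 8256), (nat_lit 8257), (nat_lit 8256), (nat_lit 8256), (nat_lit 8256), (nat_lit 8383), (nat_lit 8383), (nat_lit 8513), (nat_lit 8383), (nat_lit 8256), (nat_lit 8384), (nat_lit 8256), (nat_lit 8256)],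
  [(nat_lit 8513), (nat_lit 8128), (nat_lit 8383), (nat_lit 8256), (nat_lit 8255), (nat_lit 8255), (nat_lit 8255), (nat_lit 8256), (nat_lit 8385), (nat_lit 8256), (nat_lit 8256), (nat_lit 8385), (nat_lit 8129), (nat_lit 8257), (nat_lit 8256), (nat_lit 8256), (nat_lit 8128), (nat_lit 8127), (nat_lit 8511), (nat_lit 8128), (nat_lit 8384), (nat_lit 8001), (nat_lit 8511), (nat_lit 8255), (nat_lit 8128), (nat_lit 8257), (nat_lit 8127), (nat_lit 8256)],
  [(nat_lit 8126), (nat_lit 8257), (nat_lit 8383), (nat_lit 8256), (nat_lit 8256), (nat_lit 8128), (nat_lit 8255), (nat_lit 8256), (nat_lit 8385), (nat_lit 8384), (nat_lit 8255), (nat_lit 8383), (nat_lit 8257), (nat_lit 8256), (nat_lit 8257), (nat_lit 8257), (nat_lit 8257), (nat_lit 8129), (nat_lit 8254), (nat_lit 8255), (nat_lit 8511), (nat_lit 8385), (nat_lit 8254), (nat_lit 8001), (nat_lit 8257), (nat_lit 8385), (nat_lit 8127), (nat_lit 8255)],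
  [(nat_lit 8000), (nat_lit 8385), (nat_lit 8128), (nat_lit 8384), (nat_lit 8128), (nat_lit 8256), (nat_lit 8256), (nat_lit 8256), (nat_lit 8256), (nat_lit 8383), (nat_lit 8255), (nat_lit 8256), (nat_lit 8256), (nat_lit 8128), (nat_lit 8384), (nat_lit 8384), (nat_lit 8384), (nat_lit 8257), (nat_lit 8128), (nat_lit 8257), (nat_lit 8256), (nat_lit 8512), (nat_lit 8127), (nat_lit 8129), (nat_lit 8256), (nat_lit 8257), (nat_lit 8128), (nat_lit 8128)],
  [(nat_lit 8129), (nat_lit 8256), (nat_lit 8129), (nat_lit 8256), (nat_lit 8511), (nat_lit 8127), (nat_lit 8127), (nat_lit 8128), (nat_lit 8256), (nat_lit 8254), (nat_lit 8384), (nat_lit 8256), (nat_lit 8255), (nat_lit 8256), (nat_lit 8385), (nat_lit 8128), (nat_lit 8255), (nat_lit 8384), (nat_lit 8129), (nat_lit 8255), (nat_lit 8384), (nat_lit 8256), (nat_lit 8257), (nat_lit 8385), (nat_lit 8383), (nat_lit 8384), (nat_lit 8255), (nat_lit 8128)],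
  [(nat_lit 8258), (nat_lit 7999), (nat_lit 8257), (nat_lit 8385), (nat_lit 8001), (nat_lit 8638), (nat_lit 8639), (nat_lit 8382), (nat_lit 7873), (nat_lit 8386), (nat_lit 8001), (nat_lit 8259), (nat_lit 8129), (nat_lit 7872), (nat_lit 7997), (nat_lit 8639), (nat_lit 8384), (nat_lit 8256), (nat_lit 8385), (nat_lit 8386), (nat_lit 8130), (nat_lit 8253), (nat_lit 8642), (nat_lit 8381), (nat_lit 8257), (nat_lit 8002), (nat_lit 8384), (nat_lit 8385)],
  [(nat_lit 8384), (nat_lit 8512), (nat_lit 8384), (nat_lit 8128), (nat_lit 8257), (nat_lit 8130), (nat_lit 8256), (nat_lit 8257), (nat_lit 8255), (nat_lit 8000), (nat_lit 8127), (nat_lit 8383), (nat_lit 8128), (nat_lit 8256), (nat_lit 8383), (nat_lit 8000), (nat_lit 8256), (nat_lit 8256), (nat_lit 8384), (nat_lit 8384), (nat_lit 8256), (nat_lit 8127), (nat_lit 7999), (nat_lit 8258), (nat_lit 8256), (nat_lit 8510), (nat_lit 8129), (nat_lit 8257)],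
  [(nat_lit 8000), (nat_lit 8513), (nat_lit 8128), (nat_lit 8256), (nat_lit 8127), (nat_lit 8257), (nat_lit 8130), (nat_lit 8128), (nat_lit 8383), (nat_lit 8255), (nat_lit 8383), (nat_lit 8127), (nat_lit 8383), (nat_lit 8256), (nat_lit 8385), (nat_lit 8384), (nat_lit 8384), (nat_lit 8257), (nat_lit 8129), (nat_lit 8130), (nat_lit 7999), (nat_lit 8384), (nat_lit 8126), (nat_lit 8129), (nat_lit 8255), (nat_lit 8256), (nat_lit 8128), (nat_lit 8128)],
  [(nat_lit 8128), (nat_lit 8256), (nat_lit 8128), (nat_lit 8384), (nat_lit 8256), (nat_lit 8255), (nat_lit 8384), (nat_lit 8257), (nat_lit 8256), (nat_lit 8384), (nat_lit 8383), (nat_lit 8129), (nat_lit 8127), (nat_lit 8256), (nat_lit 8385), (nat_lit 8384), (nat_lit 8256), (nat_lit 8256), (nat_lit 8128), (nat_lit 8257), (nat_lit 8258), (nat_lit 8385), (nat_lit 8128), (nat_lit 8129), (nat_lit 8256), (nat_lit 8130), (nat_lit 8255), (nat_lit 8128)],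
  [(nat_lit 8640), (nat_lit 8128), (nat_lit 8385), (nat_lit 8128), (nat_lit 7999), (nat_lit 8128), (nat_lit 8385), (nat_lit 8385), (nat_lit 8255), (nat_lit 8001), (nat_lit 8255), (nat_lit 8258), (nat_lit 8128), (nat_lit 8383), (nat_lit 8383), (nat_lit 8256), (nat_lit 8129), (nat_lit 8127), (nat_lit 8384), (nat_lit 8257), (nat_lit 8257), (nat_lit 8385), (nat_lit 8384), (nat_lit 8254), (nat_lit 8001), (nat_lit 8257), (nat_lit 8256), (nat_lit 8257)],
  [(nat_lit 8000), (nat_lit 8254), (nat_lit 8128), (nat_lit 8255), (nat_lit 8256), (nat_lit 8512), (nat_lit 8257), (nat_lit 8255), (nat_lit 8256), (nat_lit 8255), (nat_lit 8129), (nat_lit 8127), (nat_lit 8385), (nat_lit 8256), (nat_lit 8256), (nat_lit 8384), (nat_lit 8383), (nat_lit 8257), (nat_lit 8256), (nat_lit 8383), (nat_lit 8255), (nat_lit 8384), (nat_lit 8130), (nat_lit 8512), (nat_lit 8128), (nat_lit 8128), (nat_lit 8257), (nat_lit 8255)],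
  [(nat_lit 8512), (nat_lit 8000), (nat_lit 8256), (nat_lit 8129), (nat_lit 8128), (nat_lit 8254), (nat_lit 8512), (nat_lit 8128), (nat_lit 8256), (nat_lit 8129), (nat_lit 8385), (nat_lit 8257), (nat_lit 8256), (nat_lit 8256), (nat_lit 8128), (nat_lit 8255), (nat_lit 8128), (nat_lit 8256), (nat_lit 8383), (nat_lit 8256), (nat_lit 8129), (nat_lit 8128), (nat_lit 8512), (nat_lit 8126), (nat_lit 8257), (nat_lit 8257), (nat_lit 8384), (nat_lit 8256)],
  [(nat_lit 8385), (nat_lit 8128), (nat_lit 8384), (nat_lit 8256), (nat_lit 8130), (nat_lit 8384), (nat_lit 8255), (nat_lit 8382), (nat_lit 8000), (nat_lit 8257), (nat_lit 8002), (nat_lit 8384), (nat_lit 8385), (nat_lit 8128), (nat_lit 7998), (nat_lit 8383), (nat_lit 8384), (nat_lit 8384), (nat_lit 8257), (nat_lit 8256), (nat_lit 8127), (nat_lit 8253), (nat_lit 8385), (nat_lit 8382), (nat_lit 8385), (nat_lit 8383), (nat_lit 8385), (nat_lit 8384)],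
  [(nat_lit 7874), (nat_lit 8254), (nat_lit 8128), (nat_lit 8128), (nat_lit 7998), (nat_lit 8512), (nat_lit 8515), (nat_lit 8257), (nat_lit 8382), (nat_lit 8127), (nat_lit 8254), (nat_lit 7873), (nat_lit 8255), (nat_lit 8255), (nat_lit 8640), (nat_lit 8513), (nat_lit 8256), (nat_lit 8257), (nat_lit 8128), (nat_lit 8129), (nat_lit 8000), (nat_lit 8641), (nat_lit 8001), (nat_lit 8385), (nat_lit 8001), (nat_lit 8130), (nat_lit 8128), (nat_lit 8000)],
  [(nat_lit 8256), (nat_lit 8384), (nat_lit 8256), (nat_lit 8256), (nat_lit 8386), (nat_lit 8257), (nat_lit 8128), (nat_lit 8256), (nat_lit 8127), (nat_lit 8256), (nat_lit 8257), (nat_lit 8255), (nat_lit 8383), (nat_lit 8256), (nat_lit 8256), (nat_lit 8127), (nat_lit 8383), (nat_lit 8384), (nat_lit 8129), (nat_lit 8384), (nat_lit 8128), (nat_lit 8255), (nat_lit 8000), (nat_lit 8257), (nat_lit 8384), (nat_lit 8382), (nat_lit 8385), (nat_lit 8256)],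
  [(nat_lit 8255), (nat_lit 8001), (nat_lit 8255), (nat_lit 8127), (nat_lit 8513), (nat_lit 8126), (nat_lit 8127), (nat_lit 7999), (nat_lit 8513), (nat_lit 8382), (nat_lit 8514), (nat_lit 8383), (nat_lit 8512), (nat_lit 8385), (nat_lit 8131), (nat_lit 8126), (nat_lit 8255), (nat_lit 8256), (nat_lit 8255), (nat_lit 8254), (nat_lit 8383), (nat_lit 8129), (nat_lit 8383), (nat_lit 8000), (nat_lit 8385), (nat_lit 8513), (nat_lit 8255), (nat_lit 8126)],
  [(nat_lit 8130), (nat_lit 8383), (nat_lit 8257), (nat_lit 8256), (nat_lit 8514), (nat_lit 8257), (nat_lit 8255), (nat_lit 8256), (nat_lit 8000), (nat_lit 8128), (nat_lit 8129), (nat_lit 8255), (nat_lit 8255), (nat_lit 8128), (nat_lit 8254), (nat_lit 8000), (nat_lit 8254), (nat_lit 8512), (nat_lit 8258), (nat_lit 8382), (nat_lit 8256), (nat_lit 8124), (nat_lit 8131), (nat_lit 8513), (nat_lit 8511), (nat_lit 8381), (nat_lit 8385), (nat_lit 8257)],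
  [(nat_lit 8130), (nat_lit 8510), (nat_lit 8257), (nat_lit 8257), (nat_lit 8128), (nat_lit 8386), (nat_lit 8513), (nat_lit 8385), (nat_lit 7998), (nat_lit 8001), (nat_lit 7998), (nat_lit 8129), (nat_lit 7999), (nat_lit 8127), (nat_lit 8509), (nat_lit 8257), (nat_lit 8256), (nat_lit 8384), (nat_lit 8258), (nat_lit 8385), (nat_lit 8129), (nat_lit 8381), (nat_lit 8002), (nat_lit 8514), (nat_lit 8256), (nat_lit 8255), (nat_lit 8257), (nat_lit 8258)],
  [(nat_lit 8512), (nat_lit 8126), (nat_lit 8256), (nat_lit 8256), (nat_lit 8385), (nat_lit 8383), (nat_lit 8384), (nat_lit 8384), (nat_lit 8001), (nat_lit 8257), (nat_lit 8257), (nat_lit 8257), (nat_lit 8128), (nat_lit 8384), (nat_lit 8127), (nat_lit 8128), (nat_lit 8127), (nat_lit 8255), (nat_lit 8385), (nat_lit 8383), (nat_lit 8386), (nat_lit 8128), (nat_lit 8259), (nat_lit 8383), (nat_lit 8256), (nat_lit 8128), (nat_lit 8512), (nat_lit 8384)],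
  [(nat_lit 7999), (nat_lit 8128), (nat_lit 8127), (nat_lit 8255), (nat_lit 8127), (nat_lit 8383), (nat_lit 8257), (nat_lit 8255), (nat_lit 8513), (nat_lit 8511), (nat_lit 8256), (nat_lit 8128), (nat_lit 8385), (nat_lit 8256), (nat_lit 8258), (nat_lit 8640), (nat_lit 8385), (nat_lit 8129), (nat_lit 8127), (nat_lit 8129), (nat_lit 8255), (nat_lit 8514), (nat_lit 8255), (nat_lit 8128), (nat_lit 8129), (nat_lit 8131), (nat_lit 8127), (nat_lit 8126)],
  [(nat_lit 8386), (nat_lit 8255), (nat_lit 8384), (nat_lit 8255), (nat_lit 8386), (nat_lit 8257), (nat_lit 8255), (nat_lit 8384), (nat_lit 8000), (nat_lit 8128), (nat_lit 8000), (nat_lit 8384), (nat_lit 8128), (nat_lit 8256), (nat_lit 8254), (nat_lit 8127), (nat_lit 8255), (nat_lit 8383), (nat_lit 8386), (nat_lit 8383), (nat_lit 8384), (nat_lit 8125), (nat_lit 8130), (nat_lit 8513), (nat_lit 8384), (nat_lit 8510), (nat_lit 8257), (nat_lit 8385)],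
  [(nat_lit 8254), (nat_lit 8127), (nat_lit 8127), (nat_lit 8384), (nat_lit 8511), (nat_lit 8255), (nat_lit 8254), (nat_lit 8384), (nat_lit 8386), (nat_lit 8512), (nat_lit 8256), (nat_lit 8256), (nat_lit 8130), (nat_lit 8384), (nat_lit 8129), (nat_lit 8258), (nat_lit 8129), (nat_lit 8128), (nat_lit 8254), (nat_lit 8255), (nat_lit 8640), (nat_lit 8131), (nat_lit 8257), (nat_lit 8385), (nat_lit 8255), (nat_lit 8129), (nat_lit 8255), (nat_lit 8383)],
  [(nat_lit 8129), (nat_lit 8384), (nat_lit 8127), (nat_lit 8384), (nat_lit 8256), (nat_lit 8512), (nat_lit 8128), (nat_lit 8255), (nat_lit 8256), (nat_lit 8512), (nat_lit 8257), (nat_lit 8128), (nat_lit 8384), (nat_lit 8129), (nat_lit 8128), (nat_lit 8512), (nat_lit 8384), (nat_lit 8256), (nat_lit 8128), (nat_lit 8130), (nat_lit 8000), (nat_lit 8128), (nat_lit 8255), (nat_lit 8256), (nat_lit 8255), (nat_lit 8000), (nat_lit 8256), (nat_lit 8256)],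
  [(nat_lit 8255), (nat_lit 8257), (nat_lit 8256), (nat_lit 8255), (nat_lit 8255), (nat_lit 8126), (nat_lit 8129), (nat_lit 8000), (nat_lit 8513), (nat_lit 8382), (nat_lit 8640), (nat_lit 8256), (nat_lit 8383), (nat_lit 8385), (nat_lit 8260), (nat_lit 8255), (nat_lit 8256), (nat_lit 8128), (nat_lit 8255), (nat_lit 8256), (nat_lit 8257), (nat_lit 8259), (nat_lit 8381), (nat_lit 7871), (nat_lit 8000), (nat_lit 8131), (nat_lit 8254), (nat_lit 8126)],
  [(nat_lit 8256), (nat_lit 8256), (nat_lit 8256), (nat_lit 8255), (nat_lit 8128), (nat_lit 8127), (nat_lit 8385), (nat_lit 8257), (nat_lit 8384), (nat_lit 8255), (nat_lit 8382), (nat_lit 8257), (nat_lit 8127), (nat_lit 8384), (nat_lit 8513), (nat_lit 8255), (nat_lit 8128), (nat_lit 8128), (nat_lit 8256), (nat_lit 8257), (nat_lit 8385), (nat_lit 8513), (nat_lit 8127), (nat_lit 8001), (nat_lit 8129), (nat_lit 8387), (nat_lit 8127), (nat_lit 8128)],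
  [(nat_lit 8512), (nat_lit 8128), (nat_lit 8384), (nat_lit 8384), (nat_lit 8128), (nat_lit 8383), (nat_lit 8256), (nat_lit 8255), (nat_lit 8130), (nat_lit 8385), (nat_lit 8257), (nat_lit 8385), (nat_lit 8129), (nat_lit 8129), (nat_lit 7999), (nat_lit 8384), (nat_lit 8256), (nat_lit 8127), (nat_lit 8512), (nat_lit 8257), (nat_lit 8257), (nat_lit 8000), (nat_lit 8639), (nat_lit 8125), (nat_lit 8128), (nat_lit 8001), (nat_lit 8255), (nat_lit 8384)],
  [(nat_lit 8766), (nat_lit 7872), (nat_lit 8383), (nat_lit 8256), (nat_lit 8512), (nat_lit 8255), (nat_lit 8127), (nat_lit 8384), (nat_lit 8131), (nat_lit 8386), (nat_lit 8386), (nat_lit 8384), (nat_lit 8129), (nat_lit 8384), (nat_lit 7872), (nat_lit 8129), (nat_lit 8000), (nat_lit 8126), (nat_lit 8511), (nat_lit 8126), (nat_lit 8512), (nat_lit 7874), (nat_lit 8641), (nat_lit 8253), (nat_lit 8256), (nat_lit 7999), (nat_lit 8511), (nat_lit 8511)],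
  [(nat_lit 8256), (nat_lit 8384), (nat_lit 8256), (nat_lit 8384), (nat_lit 8642), (nat_lit 8256), (nat_lit 8127), (nat_lit 8128), (nat_lit 8129), (nat_lit 8384), (nat_lit 8386), (nat_lit 8255), (nat_lit 8255), (nat_lit 8257), (nat_lit 8129), (nat_lit 7999), (nat_lit 8254), (nat_lit 8383), (nat_lit 8257), (nat_lit 8383), (nat_lit 8257), (nat_lit 7871), (nat_lit 8129), (nat_lit 8257), (nat_lit 8510), (nat_lit 8254), (nat_lit 8384), (nat_lit 8384)]]
noncomputable def H1 : List (List Nat) := [[(nat_lit 8256), (nat_lit 8256), (nat_lit 8256), (nat_lit 8256), (nat_lit 8255), (nat_lit 8384), (nat_lit 8255), (nat_lit 8256), (nat_lit 8255), (nat_lit 8128), (nat_lit 8256), (nat_lit 8128), (nat_lit 8128), (nat_lit 8257), (nat_lit 8128), (nat_lit 8255), (nat_lit 8256), (nat_lit 8256), (nat_lit 8256), (nat_lit 8256), (nat_lit 8384), (nat_lit 8384), (nat_lit 8256), (nat_lit 8128), (nat_lit 8256), (nat_lit 8255), (nat_lit 8256), (nat_lit 8255)],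
  [(nat_lit 8257), (nat_lit 8128), (nat_lit 8128), (nat_lit 8257), (nat_lit 8128), (nat_lit 8384), (nat_lit 8128), (nat_lit 8256), (nat_lit 8384), (nat_lit 8257), (nat_lit 8256), (nat_lit 8255), (nat_lit 8256), (nat_lit 8384), (nat_lit 8384), (nat_lit 8256), (nat_lit 8256), (nat_lit 8128), (nat_lit 8256), (nat_lit 8384), (nat_lit 8384), (nat_lit 8255), (nat_lit 8256), (nat_lit 8128), (nat_lit 8255), (nat_lit 8256), (nat_lit 8384), (nat_lit 8256)],
  [(nat_lit 8256), (nat_lit 8255), (nat_lit 8128), (nat_lit 8384), (nat_lit 8257), (nat_lit 8256), (nat_lit 8257), (nat_lit 8384), (nat_lit 8256), (nat_lit 8128), (nat_lit 8384), (nat_lit 8384), (nat_lit 8128), (nat_lit 8256), (nat_lit 8257), (nat_lit 8256), (nat_lit 8384), (nat_lit 8384), (nat_lit 8255), (nat_lit 8256), (nat_lit 8255), (nat_lit 8256), (nat_lit 8384), (nat_lit 8256), (nat_lit 8256), (nat_lit 8256), (nat_lit 8256), (nat_lit 8257)],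
  [(nat_lit 8256), (nat_lit 8257), (nat_lit 8384), (nat_lit 8256), (nat_lit 8256), (nat_lit 8256), (nat_lit 8384), (nat_lit 8256), (nat_lit 8255), (nat_lit 8256), (nat_lit 8128), (nat_lit 8256), (nat_lit 8256), (nat_lit 8384), (nat_lit 8128), (nat_lit 8256), (nat_lit 8255), (nat_lit 8256), (nat_lit 8257), (nat_lit 8384), (nat_lit 8255), (nat_lit 8257), (nat_lit 8384), (nat_lit 8257), (nat_lit 8256), (nat_lit 8128), (nat_lit 8256), (nat_lit 8128)],
  [(nat_lit 8128), (nat_lit 8256), (nat_lit 8256), (nat_lit 8256), (nat_lit 8255), (nat_lit 8128), (nat_lit 8256), (nat_lit 8384), (nat_lit 8128), (nat_lit 8256), (nat_lit 8257), (nat_lit 8384), (nat_lit 8256), (nat_lit 8384), (nat_lit 8128), (nat_lit 8256), (nat_lit 8256), (nat_lit 8255), (nat_lit 8384), (nat_lit 8256), (nat_lit 8128), (nat_lit 8256), (nat_lit 8256), (nat_lit 8257), (nat_lit 8256), (nat_lit 8257), (nat_lit 8257), (nat_lit 8128)],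
  [(nat_lit 8257), (nat_lit 8256), (nat_lit 8255), (nat_lit 8256), (nat_lit 8255), (nat_lit 8256), (nat_lit 8256), (nat_lit 8256), (nat_lit 8384), (nat_lit 8257), (nat_lit 8256), (nat_lit 8256), (nat_lit 8256), (nat_lit 8256), (nat_lit 8128), (nat_lit 8128), (nat_lit 8384), (nat_lit 8255), (nat_lit 8256), (nat_lit 8384), (nat_lit 8256), (nat_lit 8384), (nat_lit 8256), (nat_lit 8256), (nat_lit 8256), (nat_lit 8256), (nat_lit 8256), (nat_lit 8256)],
  [(nat_lit 8255), (nat_lit 8256), (nat_lit 8255), (nat_lit 8256), (nat_lit 8256), (nat_lit 8255), (nat_lit 8128), (nat_lit 8257), (nat_lit 8255), (nat_lit 8256), (nat_lit 8128), (nat_lit 8256), (nat_lit 8256), (nat_lit 8256), (nat_lit 8256), (nat_lit 8256), (nat_lit 8256), (nat_lit 8256), (nat_lit 8384), (nat_lit 8256), (nat_lit 8256), (nat_lit 8255), (nat_lit 8256), (nat_lit 8256), (nat_lit 8255), (nat_lit 8257), (nat_lit 8384), (nat_lit 8128)],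
  [(nat_lit 8256), (nat_lit 8256), (nat_lit 8256), (nat_lit 8256), (nat_lit 8256), (nat_lit 8256), (nat_lit 8256), (nat_lit 8256), (nat_lit 8257), (nat_lit 8256), (nat_lit 8256), (nat_lit 8256), (nat_lit 8255), (nat_lit 8256), (nat_lit 8256), (nat_lit 8256), (nat_lit 8257), (nat_lit 8256), (nat_lit 8256), (nat_lit 8256), (nat_lit 8256), (nat_lit 8256), (nat_lit 8256), (nat_lit 8256), (nat_lit 8256), (nat_lit 8256), (nat_lit 8257), (nat_lit 8256)],
  [(nat_lit 8256), (nat_lit 8256), (nat_lit 8384), (nat_lit 8384), (nat_lit 8384), (nat_lit 8257), (nat_lit 8384), (nat_lit 8256), (nat_lit 8256), (nat_lit 8256), (nat_lit 8255), (nat_lit 8255), (nat_lit 8384), (nat_lit 8256), (nat_lit 8256), (nat_lit 8255), (nat_lit 8255), (nat_lit 8256), (nat_lit 8256), (nat_lit 8257), (nat_lit 8256), (nat_lit 8257), (nat_lit 8384), (nat_lit 8384), (nat_lit 8257), (nat_lit 8256), (nat_lit 8256), (nat_lit 8256)],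
  [(nat_lit 8256), (nat_lit 8256), (nat_lit 8256), (nat_lit 8255), (nat_lit 8255), (nat_lit 8384), (nat_lit 8255), (nat_lit 8257), (nat_lit 8256), (nat_lit 8256), (nat_lit 8384), (nat_lit 8256), (nat_lit 8256), (nat_lit 8128), (nat_lit 8257), (nat_lit 8256), (nat_lit 8128), (nat_lit 8257), (nat_lit 8256), (nat_lit 8257), (nat_lit 8384), (nat_lit 8255), (nat_lit 8128), (nat_lit 8255), (nat_lit 8257), (nat_lit 8255), (nat_lit 8256), (nat_lit 8256)],
  [(nat_lit 8257), (nat_lit 8256), (nat_lit 8256), (nat_lit 8257), (nat_lit 8257), (nat_lit 8256), (nat_lit 8128), (nat_lit 8256), (nat_lit 8256), (nat_lit 8256), (nat_lit 8256), (nat_lit 8128), (nat_lit 8256), (nat_lit 8256), (nat_lit 8256), (nat_lit 8256), (nat_lit 8257), (nat_lit 8257), (nat_lit 8384), (nat_lit 8384), (nat_lit 8255), (nat_lit 8257), (nat_lit 8257), (nat_lit 8128), (nat_lit 8256), (nat_lit 8256), (nat_lit 8255), (nat_lit 8257)],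
  [(nat_lit 8384), (nat_lit 8128), (nat_lit 8384), (nat_lit 8257), (nat_lit 8257), (nat_lit 8256), (nat_lit 8128), (nat_lit 8256), (nat_lit 8256), (nat_lit 8384), (nat_lit 8255), (nat_lit 8255), (nat_lit 8256), (nat_lit 8256), (nat_lit 8384), (nat_lit 8256), (nat_lit 8256), (nat_lit 8257), (nat_lit 8256), (nat_lit 8256), (nat_lit 8128), (nat_lit 8256), (nat_lit 8257), (nat_lit 8256), (nat_lit 8255), (nat_lit 8257), (nat_lit 8256), (nat_lit 8256)],
  [(nat_lit 8256), (nat_lit 8128), (nat_lit 8255), (nat_lit 8256), (nat_lit 8256), (nat_lit 8256), (nat_lit 8256), (nat_lit 8128), (nat_lit 8384), (nat_lit 8128), (nat_lit 8256), (nat_lit 8384), (nat_lit 8257), (nat_lit 8128), (nat_lit 8256), (nat_lit 8256), (nat_lit 8256), (nat_lit 8256), (nat_lit 8257), (nat_lit 8128), (nat_lit 8257), (nat_lit 8384), (nat_lit 8128), (nat_lit 8256), (nat_lit 8255), (nat_lit 8256), (nat_lit 8384), (nat_lit 8384)],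
  [(nat_lit 8256), (nat_lit 8256), (nat_lit 8257), (nat_lit 8384), (nat_lit 8384), (nat_lit 8256), (nat_lit 8384), (nat_lit 8256), (nat_lit 8257), (nat_lit 8128), (nat_lit 8256), (nat_lit 8384), (nat_lit 8256), (nat_lit 8384), (nat_lit 8384), (nat_lit 8256), (nat_lit 8384), (nat_lit 8256), (nat_lit 8128), (nat_lit 8257), (nat_lit 8255), (nat_lit 8128), (nat_lit 8256), (nat_lit 8256), (nat_lit 8257), (nat_lit 8128), (nat_lit 8256), (nat_lit 8256)],
  [(nat_lit 8255), (nat_lit 8256), (nat_lit 8256), (nat_lit 8256), (nat_lit 8256), (nat_lit 8128), (nat_lit 8384), (nat_lit 8256), (nat_lit 8128), (nat_lit 8255), (nat_lit 8257), (nat_lit 8257), (nat_lit 8256), (nat_lit 8257), (nat_lit 8256), (nat_lit 8384), (nat_lit 8256), (nat_lit 8256), (nat_lit 8256), (nat_lit 8128), (nat_lit 8256), (nat_lit 8256), (nat_lit 8256), (nat_lit 8257), (nat_lit 8128), (nat_lit 8255), (nat_lit 8256), (nat_lit 8256)],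
  [(nat_lit 8384), (nat_lit 8256), (nat_lit 8128), (nat_lit 8257), (nat_lit 8257), (nat_lit 8256), (nat_lit 8128), (nat_lit 8257), (nat_lit 8128), (nat_lit 8256), (nat_lit 8128), (nat_lit 8128), (nat_lit 8384), (nat_lit 8257), (nat_lit 8384), (nat_lit 8256), (nat_lit 8257), (nat_lit 8257), (nat_lit 8384), (nat_lit 8256), (nat_lit 8255), (nat_lit 8256), (nat_lit 8257), (nat_lit 8128), (nat_lit 8255), (nat_lit 8257), (nat_lit 8255), (nat_lit 8256)],
  [(nat_lit 8256), (nat_lit 8256), (nat_lit 8384), (nat_lit 8256), (nat_lit 8256), (nat_lit 8256), (nat_lit 8256), (nat_lit 8255), (nat_lit 8256), (nat_lit 8128), (nat_lit 8255), (nat_lit 8256), (nat_lit 8256), (nat_lit 8384), (nat_lit 8255), (nat_lit 8255), (nat_lit 8384), (nat_lit 8384), (nat_lit 8256), (nat_lit 8256), (nat_lit 8256), (nat_lit 8257), (nat_lit 8384), (nat_lit 8257), (nat_lit 8384), (nat_lit 8128), (nat_lit 8256), (nat_lit 8255)],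
  [(nat_lit 8128), (nat_lit 8255), (nat_lit 8384), (nat_lit 8128), (nat_lit 8256), (nat_lit 8256), (nat_lit 8255), (nat_lit 8256), (nat_lit 8257), (nat_lit 8256), (nat_lit 8384), (nat_lit 8384), (nat_lit 8128), (nat_lit 8384), (nat_lit 8256), (nat_lit 8255), (nat_lit 8257), (nat_lit 8255), (nat_lit 8256), (nat_lit 8256), (nat_lit 8128), (nat_lit 8384), (nat_lit 8255), (nat_lit 8384), (nat_lit 8384), (nat_lit 8128), (nat_lit 8257), (nat_lit 8256)],
  [(nat_lit 8128), (nat_lit 8128), (nat_lit 8255), (nat_lit 8128), (nat_lit 8256), (nat_lit 8257), (nat_lit 8255), (nat_lit 8257), (nat_lit 8256), (nat_lit 8255), (nat_lit 8256), (nat_lit 8255), (nat_lit 8256), (nat_lit 8256), (nat_lit 8256), (nat_lit 8256), (nat_lit 8128), (nat_lit 8257), (nat_lit 8257), (nat_lit 8257), (nat_lit 8257), (nat_lit 8256), (nat_lit 8256), (nat_lit 8255), (nat_lit 8256), (nat_lit 8256), (nat_lit 8256), (nat_lit 8384)],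
  [(nat_lit 8257), (nat_lit 8256), (nat_lit 8128), (nat_lit 8384), (nat_lit 8384), (nat_lit 8257), (nat_lit 8384), (nat_lit 8257), (nat_lit 8256), (nat_lit 8128), (nat_lit 8256), (nat_lit 8255), (nat_lit 8384), (nat_lit 8128), (nat_lit 8257), (nat_lit 8256), (nat_lit 8256), (nat_lit 8128), (nat_lit 8256), (nat_lit 8257), (nat_lit 8384), (nat_lit 8256), (nat_lit 8256), (nat_lit 8255), (nat_lit 8257), (nat_lit 8256), (nat_lit 8256), (nat_lit 8384)],
  [(nat_lit 8256), (nat_lit 8256), (nat_lit 8255), (nat_lit 8128), (nat_lit 8256), (nat_lit 8256), (nat_lit 8256), (nat_lit 8128), (nat_lit 8384), (nat_lit 8256), (nat_lit 8128), (nat_lit 8256), (nat_lit 8384), (nat_lit 8256), (nat_lit 8255), (nat_lit 8256), (nat_lit 8256), (nat_lit 8255), (nat_lit 8256), (nat_lit 8256), (nat_lit 8257), (nat_lit 8384), (nat_lit 8256), (nat_lit 8256), (nat_lit 8255), (nat_lit 8256), (nat_lit 8255), (nat_lit 8384)],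
  [(nat_lit 8128), (nat_lit 8256), (nat_lit 8128), (nat_lit 8256), (nat_lit 8384), (nat_lit 8256), (nat_lit 8384), (nat_lit 8384), (nat_lit 8255), (nat_lit 8256), (nat_lit 8256), (nat_lit 8255), (nat_lit 8128), (nat_lit 8256), (nat_lit 8128), (nat_lit 8256), (nat_lit 8255), (nat_lit 8255), (nat_lit 8256), (nat_lit 8256), (nat_lit 8256), (nat_lit 8256), (nat_lit 8255), (nat_lit 8255), (nat_lit 8128), (nat_lit 8384), (nat_lit 8256), (nat_lit 8256)],
  [(nat_lit 8256), (nat_lit 8256), (nat_lit 8256), (nat_lit 8384), (nat_lit 8384), (nat_lit 8255), (nat_lit 8384), (nat_lit 8128), (nat_lit 8384), (nat_lit 8257), (nat_lit 8128), (nat_lit 8256), (nat_lit 8256), (nat_lit 8384), (nat_lit 8255), (nat_lit 8128), (nat_lit 8384), (nat_lit 8255), (nat_lit 8257), (nat_lit 8256), (nat_lit 8255), (nat_lit 8384), (nat_lit 8255), (nat_lit 8256), (nat_lit 8256), (nat_lit 8128), (nat_lit 8256), (nat_lit 8256)],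
  [(nat_lit 8256), (nat_lit 8128), (nat_lit 8256), (nat_lit 8384), (nat_lit 8256), (nat_lit 8256), (nat_lit 8128), (nat_lit 8257), (nat_lit 8255), (nat_lit 8256), (nat_lit 8256), (nat_lit 8256), (nat_lit 8257), (nat_lit 8256), (nat_lit 8257), (nat_lit 8257), (nat_lit 8255), (nat_lit 8257), (nat_lit 8384), (nat_lit 8257), (nat_lit 8256), (nat_lit 8255), (nat_lit 8257), (nat_lit 8128), (nat_lit 8256), (nat_lit 8256), (nat_lit 8256), (nat_lit 8256)],
  [(nat_lit 8384), (nat_lit 8256), (nat_lit 8256), (nat_lit 8384), (nat_lit 8257), (nat_lit 8257), (nat_lit 8384), (nat_lit 8256), (nat_lit 8256), (nat_lit 8255), (nat_lit 8384), (nat_lit 8255), (nat_lit 8255), (nat_lit 8256), (nat_lit 8384), (nat_lit 8384), (nat_lit 8256), (nat_lit 8257), (nat_lit 8255), (nat_lit 8256), (nat_lit 8256), (nat_lit 8256), (nat_lit 8384), (nat_lit 8384), (nat_lit 8256), (nat_lit 8256), (nat_lit 8256), (nat_lit 8384)],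
  [(nat_lit 8257), (nat_lit 8257), (nat_lit 8255), (nat_lit 8256), (nat_lit 8128), (nat_lit 8384), (nat_lit 8128), (nat_lit 8128), (nat_lit 8384), (nat_lit 8257), (nat_lit 8255), (nat_lit 8128), (nat_lit 8257), (nat_lit 8255), (nat_lit 8128), (nat_lit 8128), (nat_lit 8256), (nat_lit 8256), (nat_lit 8257), (nat_lit 8384), (nat_lit 8384), (nat_lit 8256), (nat_lit 8256), (nat_lit 8256), (nat_lit 8256), (nat_lit 8256), (nat_lit 8384), (nat_lit 8128)],
  [(nat_lit 8256), (nat_lit 8256), (nat_lit 8255), (nat_lit 8257), (nat_lit 8256), (nat_lit 8257), (nat_lit 8256), (nat_lit 8256), (nat_lit 8256), (nat_lit 8255), (nat_lit 8256), (nat_lit 8128), (nat_lit 8256), (nat_lit 8255), (nat_lit 8128), (nat_lit 8256), (nat_lit 8255), (nat_lit 8256), (nat_lit 8128), (nat_lit 8256), (nat_lit 8257), (nat_lit 8256), (nat_lit 8384), (nat_lit 8256), (nat_lit 8128), (nat_lit 8384), (nat_lit 8128), (nat_lit 8384)],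
  [(nat_lit 8255), (nat_lit 8384), (nat_lit 8256), (nat_lit 8256), (nat_lit 8256), (nat_lit 8128), (nat_lit 8384), (nat_lit 8255), (nat_lit 8256), (nat_lit 8384), (nat_lit 8256), (nat_lit 8256), (nat_lit 8255), (nat_lit 8257), (nat_lit 8255), (nat_lit 8384), (nat_lit 8256), (nat_lit 8255), (nat_lit 8384), (nat_lit 8255), (nat_lit 8128), (nat_lit 8257), (nat_lit 8256), (nat_lit 8384), (nat_lit 8256), (nat_lit 8384), (nat_lit 8256), (nat_lit 8128)]]
noncomputable def A2 : List (List (List Nat)) := [[[(nat_lit 0), (nat_lit 1), (nat_lit 1), (nat_lit 0), (nat_lit 0), (nat_lit 0), (nat_lit 1), (nat_lit 0), (nat_lit 1), (nat_lit 0), (nat_lit 1), (nat_lit 0), (nat_lit 0), (nat_lit 0), (nat_lit 1), (nat_lit 0), (nat_lit 0), (nat_lit 0), (nat_lit 0), (nat_lit 1), (nat_lit 1), (nat_lit 1), (nat_lit 0), (nat_lit 1), (nat_lit 0), (nat_lit 0), (nat_lit 0), (nat_lit 0)],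
  [(nat_lit 1), (nat_lit 0), (nat_lit 1), (nat_lit 1), (nat_lit 0), (nat_lit 0), (nat_lit 0), (nat_lit 1), (nat_lit 0), (nat_lit 0), (nat_lit 1), (nat_lit 0), (nat_lit 1), (nat_lit 0), (nat_lit 0), (nat_lit 1), (nat_lit 0), (nat_lit 1), (nat_lit 1), (nat_lit 0), (nat_lit 0), (nat_lit 1), (nat_lit 0), (nat_lit 0), (nat_lit 1), (nat_lit 1), (nat_lit 0), (nat_lit 0)],
  [(nat_lit 0), (nat_lit 1), (nat_lit 1), (nat_lit 0), (nat_lit 0), (nat_lit 0), (nat_lit 1), (nat_lit 0), (nat_lit 0), (nat_lit 0), (nat_lit 1), (nat_lit 0), (nat_lit 0), (nat_lit 1), (nat_lit 1), (nat_lit 1), (nat_lit 1), (nat_lit 0), (nat_lit 0), (nat_lit 0), (nat_lit 0), (nat_lit 1), (nat_lit 0), (nat_lit 0), (nat_lit 0), (nat_lit 0), (nat_lit 0), (nat_lit 0)],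
  [(nat_lit 1), (nat_lit 0), (nat_lit 1), (nat_lit 0), (nat_lit 0), (nat_lit 1), (nat_lit 1), (nat_lit 0), (nat_lit 0), (nat_lit 0), (nat_lit 0), (nat_lit 0), (nat_lit 1), (nat_lit 1), (nat_lit 0), (nat_lit 0), (nat_lit 1), (nat_lit 0), (nat_lit 1), (nat_lit 0), (nat_lit 1), (nat_lit 0), (nat_lit 1), (nat_lit 1), (nat_lit 0), (nat_lit 0), (nat_lit 1), (nat_lit 1)],
  [(nat_lit 1), (nat_lit 0), (nat_lit 0), (nat_lit 0), (nat_lit 0), (nat_lit 0), (nat_lit 0), (nat_lit 1), (nat_lit 0), (nat_lit 0), (nat_lit 1), (nat_lit 0), (nat_lit 0), (nat_lit 0), (nat_lit 1), (nat_lit 0), (nat_lit 0), (nat_lit 0), (nat_lit 0), (nat_lit 0), (nat_lit 1), (nat_lit 1), (nat_lit 0), (nat_lit 0), (nat_lit 1), (nat_lit 1), (nat_lit 1), (nat_lit 1)],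
  [(nat_lit 0), (nat_lit 1), (nat_lit 1), (nat_lit 0), (nat_lit 0), (nat_lit 0), (nat_lit 0), (nat_lit 1), (nat_lit 0), (nat_lit 1), (nat_lit 0), (nat_lit 0), (nat_lit 0), (nat_lit 1), (nat_lit 0), (nat_lit 1), (nat_lit 0), (nat_lit 0), (nat_lit 0), (nat_lit 1), (nat_lit 1), (nat_lit 1), (nat_lit 0), (nat_lit 0), (nat_lit 1), (nat_lit 1), (nat_lit 0), (nat_lit 0)],
  [(nat_lit 0), (nat_lit 0), (nat_lit 0), (nat_lit 1), (nat_lit 0), (nat_lit 1), (nat_lit 1), (nat_lit 0), (nat_lit 0), (nat_lit 1), (nat_lit 1), (nat_lit 0), (nat_lit 0), (nat_lit 0), (nat_lit 1), (nat_lit 1), (nat_lit 0), (nat_lit 1), (nat_lit 0), (nat_lit 0), (nat_lit 0), (nat_lit 0), (nat_lit 0), (nat_lit 1), (nat_lit 1), (nat_lit 1), (nat_lit 1), (nat_lit 1)],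
  [(nat_lit 1), (nat_lit 1), (nat_lit 0), (nat_lit 0), (nat_lit 1), (nat_lit 0), (nat_lit 1), (nat_lit 1), (nat_lit 0), (nat_lit 0), (nat_lit 1), (nat_lit 1), (nat_lit 0), (nat_lit 0), (nat_lit 0), (nat_lit 1), (nat_lit 0), (nat_lit 0), (nat_lit 0), (nat_lit 1), (nat_lit 0), (nat_lit 0), (nat_lit 0), (nat_lit 1), (nat_lit 1), (nat_lit 0), (nat_lit 0), (nat_lit 0)],
  [(nat_lit 0), (nat_lit 0), (nat_lit 0), (nat_lit 0), (nat_lit 1), (nat_lit 1), (nat_lit 0), (nat_lit 0), (nat_lit 0), (nat_lit 0), (nat_lit 0), (nat_lit 0), (nat_lit 1), (nat_lit 0), (nat_lit 0), (nat_lit 0), (nat_lit 1), (nat_lit 1), (nat_lit 0), (nat_lit 1), (nat_lit 1), (nat_lit 0), (nat_lit 1), (nat_lit 0), (nat_lit 1), (nat_lit 0), (nat_lit 0), (nat_lit 0)],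
  [(nat_lit 0), (nat_lit 0), (nat_lit 0), (nat_lit 1), (nat_lit 1), (nat_lit 1), (nat_lit 0), (nat_lit 0), (nat_lit 1), (nat_lit 0), (nat_lit 0), (nat_lit 0), (nat_lit 0), (nat_lit 1), (nat_lit 1), (nat_lit 0), (nat_lit 0), (nat_lit 0), (nat_lit 1), (nat_lit 1), (nat_lit 0), (nat_lit 0), (nat_lit 1), (nat_lit 1), (nat_lit 1), (nat_lit 1), (nat_lit 0), (nat_lit 0)],
  [(nat_lit 0), (nat_lit 0), (nat_lit 1), (nat_lit 1), (nat_lit 0), (nat_lit 1), (nat_lit 0), (nat_lit 0), (nat_lit 1), (nat_lit 0), (nat_lit 0), (nat_lit 0), (nat_lit 0), (nat_lit 0), (nat_lit 0), (nat_lit 0), (nat_lit 1), (nat_lit 0), (nat_lit 0), (nat_lit 1), (nat_lit 0), (nat_lit 1), (nat_lit 1), (nat_lit 1), (nat_lit 0), (nat_lit 0), (nat_lit 1), (nat_lit 0)],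
  [(nat_lit 0), (nat_lit 1), (nat_lit 1), (nat_lit 1), (nat_lit 1), (nat_lit 1), (nat_lit 0), (nat_lit 0), (nat_lit 0), (nat_lit 1), (nat_lit 1), (nat_lit 0), (nat_lit 1), (nat_lit 1), (nat_lit 1), (nat_lit 1), (nat_lit 1), (nat_lit 1), (nat_lit 0), (nat_lit 0), (nat_lit 1), (nat_lit 0), (nat_lit 1), (nat_lit 1), (nat_lit 1), (nat_lit 1), (nat_lit 1), (nat_lit 0)],
  [(nat_lit 1), (nat_lit 1), (nat_lit 0), (nat_lit 1), (nat_lit 1), (nat_lit 0), (nat_lit 0), (nat_lit 0), (nat_lit 1), (nat_lit 0), (nat_lit 0), (nat_lit 0), (nat_lit 1), (nat_lit 0), (nat_lit 1), (nat_lit 0), (nat_lit 0), (nat_lit 0), (nat_lit 1), (nat_lit 0), (nat_lit 1), (nat_lit 1), (nat_lit 0), (nat_lit 1), (nat_lit 1), (nat_lit 0), (nat_lit 1), (nat_lit 0)],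
  [(nat_lit 1), (nat_lit 1), (nat_lit 0), (nat_lit 1), (nat_lit 1), (nat_lit 1), (nat_lit 0), (nat_lit 0), (nat_lit 1), (nat_lit 0), (nat_lit 0), (nat_lit 0), (nat_lit 1), (nat_lit 0), (nat_lit 0), (nat_lit 1), (nat_lit 0), (nat_lit 0), (nat_lit 1), (nat_lit 1), (nat_lit 0), (nat_lit 1), (nat_lit 1), (nat_lit 0), (nat_lit 1), (nat_lit 1), (nat_lit 0), (nat_lit 0)],
  [(nat_lit 0), (nat_lit 1), (nat_lit 0), (nat_lit 0), (nat_lit 0), (nat_lit 0), (nat_lit 1), (nat_lit 1), (nat_lit 0), (nat_lit 0), (nat_lit 1), (nat_lit 0), (nat_lit 0), (nat_lit 0), (nat_lit 0), (nat_lit 0), (nat_lit 1), (nat_lit 1), (nat_lit 0), (nat_lit 1), (nat_lit 0), (nat_lit 0), (nat_lit 0), (nat_lit 1), (nat_lit 0), (nat_lit 0), (nat_lit 1), (nat_lit 1)],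
  [(nat_lit 1), (nat_lit 0), (nat_lit 1), (nat_lit 0), (nat_lit 0), (nat_lit 1), (nat_lit 0), (nat_lit 0), (nat_lit 1), (nat_lit 0), (nat_lit 1), (nat_lit 0), (nat_lit 1), (nat_lit 1), (nat_lit 1), (nat_lit 0), (nat_lit 0), (nat_lit 0), (nat_lit 1), (nat_lit 0), (nat_lit 0), (nat_lit 1), (nat_lit 0), (nat_lit 0), (nat_lit 1), (nat_lit 0), (nat_lit 0), (nat_lit 0)],
  [(nat_lit 1), (nat_lit 1), (nat_lit 1), (nat_lit 1), (nat_lit 0), (nat_lit 1), (nat_lit 0), (nat_lit 1), (nat_lit 0), (nat_lit 1), (nat_lit 1), (nat_lit 0), (nat_lit 1), (nat_lit 1), (nat_lit 1), (nat_lit 1), (nat_lit 1), (nat_lit 0), (nat_lit 1), (nat_lit 1), (nat_lit 1), (nat_lit 0), (nat_lit 1), (nat_lit 0), (nat_lit 0), (nat_lit 1), (nat_lit 0), (nat_lit 0)],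
  [(nat_lit 0), (nat_lit 1), (nat_lit 0), (nat_lit 0), (nat_lit 0), (nat_lit 0), (nat_lit 0), (nat_lit 1), (nat_lit 1), (nat_lit 0), (nat_lit 0), (nat_lit 0), (nat_lit 1), (nat_lit 1), (nat_lit 0), (nat_lit 0), (nat_lit 1), (nat_lit 0), (nat_lit 0), (nat_lit 0), (nat_lit 0), (nat_lit 1), (nat_lit 1), (nat_lit 0), (nat_lit 0), (nat_lit 1), (nat_lit 1), (nat_lit 1)],
  [(nat_lit 1), (nat_lit 1), (nat_lit 0), (nat_lit 0), (nat_lit 1), (nat_lit 1), (nat_lit 0), (nat_lit 0), (nat_lit 0), (nat_lit 1), (nat_lit 0), (nat_lit 0), (nat_lit 1), (nat_lit 0), (nat_lit 0), (nat_lit 0), (nat_lit 1), (nat_lit 0), (nat_lit 1), (nat_lit 0), (nat_lit 1), (nat_lit 1), (nat_lit 1), (nat_lit 0), (nat_lit 0), (nat_lit 1), (nat_lit 0), (nat_lit 1)],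
  [(nat_lit 1), (nat_lit 1), (nat_lit 0), (nat_lit 0), (nat_lit 0), (nat_lit 1), (nat_lit 1), (nat_lit 0), (nat_lit 1), (nat_lit 1), (nat_lit 1), (nat_lit 0), (nat_lit 0), (nat_lit 0), (nat_lit 0), (nat_lit 1), (nat_lit 0), (nat_lit 1), (nat_lit 0), (nat_lit 0), (nat_lit 0), (nat_lit 1), (nat_lit 1), (nat_lit 1), (nat_lit 0), (nat_lit 1), (nat_lit 1), (nat_lit 1)],
  [(nat_lit 0), (nat_lit 1), (nat_lit 0), (nat_lit 1), (nat_lit 1), (nat_lit 1), (nat_lit 1), (nat_lit 1), (nat_lit 0), (nat_lit 1), (nat_lit 1), (nat_lit 0), (nat_lit 0), (nat_lit 1), (nat_lit 1), (nat_lit 1), (nat_lit 1), (nat_lit 0), (nat_lit 0), (nat_lit 0), (nat_lit 1), (nat_lit 1), (nat_lit 1), (nat_lit 1), (nat_lit 1), (nat_lit 1), (nat_lit 0), (nat_lit 0)],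
  [(nat_lit 0), (nat_lit 0), (nat_lit 0), (nat_lit 0), (nat_lit 0), (nat_lit 1), (nat_lit 0), (nat_lit 1), (nat_lit 1), (nat_lit 0), (nat_lit 0), (nat_lit 0), (nat_lit 0), (nat_lit 1), (nat_lit 1), (nat_lit 0), (nat_lit 0), (nat_lit 1), (nat_lit 0), (nat_lit 0), (nat_lit 1), (nat_lit 0), (nat_lit 0), (nat_lit 1), (nat_lit 1), (nat_lit 1), (nat_lit 1), (nat_lit 0)],
  [(nat_lit 1), (nat_lit 1), (nat_lit 1), (nat_lit 1), (nat_lit 1), (nat_lit 1), (nat_lit 0), (nat_lit 1), (nat_lit 1), (nat_lit 0), (nat_lit 0), (nat_lit 0), (nat_lit 0), (nat_lit 1), (nat_lit 0), (nat_lit 0), (nat_lit 1), (nat_lit 0), (nat_lit 0), (nat_lit 1), (nat_lit 1), (nat_lit 0), (nat_lit 1), (nat_lit 0), (nat_lit 1), (nat_lit 0), (nat_lit 1), (nat_lit 0)],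
  [(nat_lit 0), (nat_lit 1), (nat_lit 0), (nat_lit 1), (nat_lit 0), (nat_lit 1), (nat_lit 0), (nat_lit 0), (nat_lit 1), (nat_lit 0), (nat_lit 0), (nat_lit 0), (nat_lit 0), (nat_lit 1), (nat_lit 1), (nat_lit 0), (nat_lit 1), (nat_lit 1), (nat_lit 0), (nat_lit 0), (nat_lit 0), (nat_lit 0), (nat_lit 1), (nat_lit 0), (nat_lit 0), (nat_lit 1), (nat_lit 0), (nat_lit 1)],
  [(nat_lit 0), (nat_lit 0), (nat_lit 0), (nat_lit 1), (nat_lit 0), (nat_lit 1), (nat_lit 1), (nat_lit 1), (nat_lit 0), (nat_lit 1), (nat_lit 0), (nat_lit 0), (nat_lit 0), (nat_lit 0), (nat_lit 1), (nat_lit 1), (nat_lit 0), (nat_lit 0), (nat_lit 0), (nat_lit 0), (nat_lit 1), (nat_lit 1), (nat_lit 0), (nat_lit 0), (nat_lit 1), (nat_lit 0), (nat_lit 0), (nat_lit 1)],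
  [(nat_lit 0), (nat_lit 1), (nat_lit 1), (nat_lit 1), (nat_lit 1), (nat_lit 0), (nat_lit 1), (nat_lit 1), (nat_lit 1), (nat_lit 1), (nat_lit 1), (nat_lit 0), (nat_lit 1), (nat_lit 0), (nat_lit 0), (nat_lit 1), (nat_lit 1), (nat_lit 0), (nat_lit 0), (nat_lit 0), (nat_lit 1), (nat_lit 0), (nat_lit 0), (nat_lit 1), (nat_lit 1), (nat_lit 1), (nat_lit 0), (nat_lit 1)],
  [(nat_lit 1), (nat_lit 0), (nat_lit 1), (nat_lit 1), (nat_lit 1), (nat_lit 1), (nat_lit 1), (nat_lit 0), (nat_lit 0), (nat_lit 0), (nat_lit 0), (nat_lit 0), (nat_lit 0), (nat_lit 0), (nat_lit 1), (nat_lit 0), (nat_lit 1), (nat_lit 1), (nat_lit 0), (nat_lit 0), (nat_lit 1), (nat_lit 1), (nat_lit 0), (nat_lit 0), (nat_lit 1), (nat_lit 1), (nat_lit 0), (nat_lit 1)],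
  [(nat_lit 1), (nat_lit 0), (nat_lit 0), (nat_lit 0), (nat_lit 0), (nat_lit 0), (nat_lit 0), (nat_lit 1), (nat_lit 1), (nat_lit 0), (nat_lit 0), (nat_lit 0), (nat_lit 1), (nat_lit 1), (nat_lit 1), (nat_lit 1), (nat_lit 1), (nat_lit 1), (nat_lit 0), (nat_lit 1), (nat_lit 1), (nat_lit 0), (nat_lit 1), (nat_lit 1), (nat_lit 0), (nat_lit 0), (nat_lit 1), (nat_lit 1)]],
 [[(nat_lit 0), (nat_lit 1), (nat_lit 1), (nat_lit 0), (nat_lit 0), (nat_lit 0), (nat_lit 1), (nat_lit 0), (nat_lit 1), (nat_lit 1), (nat_lit 0), (nat_lit 0), (nat_lit 0), (nat_lit 1), (nat_lit 0), (nat_lit 1), (nat_lit 1), (nat_lit 1), (nat_lit 0), (nat_lit 1), (nat_lit 1), (nat_lit 0), (nat_lit 0), (nat_lit 1), (nat_lit 0), (nat_lit 0), (nat_lit 0), (nat_lit 0)],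
  [(nat_lit 0), (nat_lit 1), (nat_lit 1), (nat_lit 0), (nat_lit 0), (nat_lit 1), (nat_lit 0), (nat_lit 1), (nat_lit 0), (nat_lit 1), (nat_lit 0), (nat_lit 0), (nat_lit 1), (nat_lit 0), (nat_lit 1), (nat_lit 1), (nat_lit 0), (nat_lit 0), (nat_lit 1), (nat_lit 1), (nat_lit 1), (nat_lit 0), (nat_lit 1), (nat_lit 1), (nat_lit 0), (nat_lit 1), (nat_lit 1), (nat_lit 1)],
  [(nat_lit 1), (nat_lit 0), (nat_lit 0), (nat_lit 1), (nat_lit 0), (nat_lit 1), (nat_lit 1), (nat_lit 1), (nat_lit 1), (nat_lit 0), (nat_lit 1), (nat_lit 0), (nat_lit 1), (nat_lit 1), (nat_lit 0), (nat_lit 1), (nat_lit 1), (nat_lit 1), (nat_lit 0), (nat_lit 0), (nat_lit 1), (nat_lit 0), (nat_lit 0), (nat_lit 0), (nat_lit 0), (nat_lit 1), (nat_lit 0), (nat_lit 0)],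
  [(nat_lit 0), (nat_lit 0), (nat_lit 0), (nat_lit 1), (nat_lit 0), (nat_lit 0), (nat_lit 1), (nat_lit 0), (nat_lit 1), (nat_lit 1), (nat_lit 1), (nat_lit 0), (nat_lit 0), (nat_lit 1), (nat_lit 0), (nat_lit 0), (nat_lit 0), (nat_lit 1), (nat_lit 0), (nat_lit 1), (nat_lit 1), (nat_lit 1), (nat_lit 1), (nat_lit 1), (nat_lit 1), (nat_lit 1), (nat_lit 0), (nat_lit 1)],
  [(nat_lit 0), (nat_lit 1), (nat_lit 0), (nat_lit 1), (nat_lit 1), (nat_lit 1), (nat_lit 1), (nat_lit 0), (nat_lit 0), (nat_lit 1), (nat_lit 0), (nat_lit 1), (nat_lit 1), (nat_lit 0), (nat_lit 1), (nat_lit 1), (nat_lit 0), (nat_lit 1), (nat_lit 0), (nat_lit 0), (nat_lit 1), (nat_lit 1), (nat_lit 0), (nat_lit 1), (nat_lit 1), (nat_lit 1), (nat_lit 0), (nat_lit 1)],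
  [(nat_lit 1), (nat_lit 1), (nat_lit 1), (nat_lit 0), (nat_lit 0), (nat_lit 1), (nat_lit 1), (nat_lit 1), (nat_lit 1), (nat_lit 1), (nat_lit 0), (nat_lit 0), (nat_lit 1), (nat_lit 0), (nat_lit 1), (nat_lit 1), (nat_lit 1), (nat_lit 1), (nat_lit 0), (nat_lit 0), (nat_lit 1), (nat_lit 1), (nat_lit 0), (nat_lit 1), (nat_lit 0), (nat_lit 0), (nat_lit 1), (nat_lit 0)],
  [(nat_lit 0), (nat_lit 1), (nat_lit 1), (nat_lit 0), (nat_lit 0), (nat_lit 0), (nat_lit 0), (nat_lit 1), (nat_lit 1), (nat_lit 0), (nat_lit 1), (nat_lit 0), (nat_lit 1), (nat_lit 1), (nat_lit 1), (nat_lit 0), (nat_lit 1), (nat_lit 1), (nat_lit 1), (nat_lit 1), (nat_lit 1), (nat_lit 0), (nat_lit 1), (nat_lit 0), (nat_lit 0), (nat_lit 0), (nat_lit 0), (nat_lit 0)],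
  [(nat_lit 0), (nat_lit 0), (nat_lit 0), (nat_lit 0), (nat_lit 1), (nat_lit 1), (nat_lit 1), (nat_lit 1), (nat_lit 1), (nat_lit 0), (nat_lit 1), (nat_lit 1), (nat_lit 1), (nat_lit 1), (nat_lit 0), (nat_lit 1), (nat_lit 0), (nat_lit 0), (nat_lit 1), (nat_lit 1), (nat_lit 1), (nat_lit 1), (nat_lit 1), (nat_lit 0), (nat_lit 1), (nat_lit 1), (nat_lit 1), (nat_lit 1)],
  [(nat_lit 0), (nat_lit 0), (nat_lit 0), (nat_lit 0), (nat_lit 0), (nat_lit 0), (nat_lit 1), (nat_lit 0), (nat_lit 0), (nat_lit 1), (nat_lit 0), (nat_lit 0), (nat_lit 0), (nat_lit 1), (nat_lit 0), (nat_lit 1), (nat_lit 0), (nat_lit 0), (nat_lit 1), (nat_lit 1), (nat_lit 0), (nat_lit 1), (nat_lit 0), (nat_lit 1), (nat_lit 1), (nat_lit 1), (nat_lit 0), (nat_lit 0)],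
  [(nat_lit 0), (nat_lit 0), (nat_lit 1), (nat_lit 0), (nat_lit 0), (nat_lit 1), (nat_lit 0), (nat_lit 1), (nat_lit 1), (nat_lit 1), (nat_lit 1), (nat_lit 0), (nat_lit 1), (nat_lit 0), (nat_lit 0), (nat_lit 1), (nat_lit 1), (nat_lit 1), (nat_lit 1), (nat_lit 1), (nat_lit 1), (nat_lit 0), (nat_lit 0), (nat_lit 1), (nat_lit 1), (nat_lit 0), (nat_lit 1), (nat_lit 1)],
  [(nat_lit 1), (nat_lit 0), (nat_lit 1), (nat_lit 1), (nat_lit 1), (nat_lit 1), (nat_lit 0), (nat_lit 0), (nat_lit 0), (nat_lit 1), (nat_lit 0), (nat_lit 0), (nat_lit 0), (nat_lit 0), (nat_lit 1), (nat_lit 0), (nat_lit 0), (nat_lit 0), (nat_lit 1), (nat_lit 0), (nat_lit 0), (nat_lit 0), (nat_lit 1), (nat_lit 1), (nat_lit 1), (nat_lit 1), (nat_lit 1), (nat_lit 1)],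
  [(nat_lit 0), (nat_lit 0), (nat_lit 0), (nat_lit 0), (nat_lit 0), (nat_lit 1), (nat_lit 0), (nat_lit 0), (nat_lit 0), (nat_lit 0), (nat_lit 0), (nat_lit 1), (nat_lit 1), (nat_lit 0), (nat_lit 1), (nat_lit 0), (nat_lit 1), (nat_lit 0), (nat_lit 1), (nat_lit 1), (nat_lit 1), (nat_lit 0), (nat_lit 1), (nat_lit 0), (nat_lit 1), (nat_lit 0), (nat_lit 1), (nat_lit 1)],
  [(nat_lit 1), (nat_lit 0), (nat_lit 1), (nat_lit 0), (nat_lit 1), (nat_lit 0), (nat_lit 1), (nat_lit 0), (nat_lit 0), (nat_lit 1), (nat_lit 0), (nat_lit 0), (nat_lit 0), (nat_lit 1), (nat_lit 0), (nat_lit 0), (nat_lit 1), (nat_lit 1), (nat_lit 1), (nat_lit 0), (nat_lit 1), (nat_lit 1), (nat_lit 1), (nat_lit 0), (nat_lit 0), (nat_lit 0), (nat_lit 0), (nat_lit 1)],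
  [(nat_lit 0), (nat_lit 1), (nat_lit 0), (nat_lit 1), (nat_lit 0), (nat_lit 1), (nat_lit 0), (nat_lit 0), (nat_lit 0), (nat_lit 0), (nat_lit 0), (nat_lit 0), (nat_lit 1), (nat_lit 1), (nat_lit 0), (nat_lit 0), (nat_lit 1), (nat_lit 0), (nat_lit 1), (nat_lit 0), (nat_lit 0), (nat_lit 1), (nat_lit 0), (nat_lit 0), (nat_lit 1), (nat_lit 0), (nat_lit 1), (nat_lit 1)],
  [(nat_lit 1), (nat_lit 0), (nat_lit 1), (nat_lit 1), (nat_lit 0), (nat_lit 1), (nat_lit 0), (nat_lit 0), (nat_lit 0), (nat_lit 0), (nat_lit 0), (nat_lit 1), (nat_lit 0), (nat_lit 1), (nat_lit 0), (nat_lit 0), (nat_lit 0), (nat_lit 1), (nat_lit 0), (nat_lit 0), (nat_lit 0), (nat_lit 0), (nat_lit 1), (nat_lit 0), (nat_lit 1), (nat_lit 1), (nat_lit 1), (nat_lit 0)],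
  [(nat_lit 0), (nat_lit 0), (nat_lit 1), (nat_lit 1), (nat_lit 1), (nat_lit 0), (nat_lit 0), (nat_lit 1), (nat_lit 1), (nat_lit 0), (nat_lit 1), (nat_lit 1), (nat_lit 0), (nat_lit 1), (nat_lit 0), (nat_lit 1), (nat_lit 0), (nat_lit 1), (nat_lit 1), (nat_lit 1), (nat_lit 0), (nat_lit 0), (nat_lit 0), (nat_lit 1), (nat_lit 1), (nat_lit 1), (nat_lit 0), (nat_lit 1)],
  [(nat_lit 1), (nat_lit 1), (nat_lit 1), (nat_lit 1), (nat_lit 1), (nat_lit 1), (nat_lit 0), (nat_lit 1), (nat_lit 0), (nat_lit 0), (nat_lit 0), (nat_lit 1), (nat_lit 1), (nat_lit 0), (nat_lit 0), (nat_lit 1), (nat_lit 0), (nat_lit 0), (nat_lit 0), (nat_lit 0), (nat_lit 1), (nat_lit 0), (nat_lit 1), (nat_lit 0), (nat_lit 1), (nat_lit 0), (nat_lit 0), (nat_lit 0)],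
  [(nat_lit 0), (nat_lit 0), (nat_lit 0), (nat_lit 1), (nat_lit 1), (nat_lit 0), (nat_lit 0), (nat_lit 1), (nat_lit 0), (nat_lit 0), (nat_lit 1), (nat_lit 0), (nat_lit 1), (nat_lit 1), (nat_lit 1), (nat_lit 0), (nat_lit 0), (nat_lit 1), (nat_lit 1), (nat_lit 0), (nat_lit 0), (nat_lit 1), (nat_lit 0), (nat_lit 1), (nat_lit 1), (nat_lit 0), (nat_lit 1), (nat_lit 0)],
  [(nat_lit 0), (nat_lit 1), (nat_lit 0), (nat_lit 1), (nat_lit 0), (nat_lit 0), (nat_lit 1), (nat_lit 0), (nat_lit 1), (nat_lit 1), (nat_lit 0), (nat_lit 0), (nat_lit 1), (nat_lit 1), (nat_lit 0), (nat_lit 1), (nat_lit 0), (nat_lit 0), (nat_lit 0), (nat_lit 0), (nat_lit 1), (nat_lit 0), (nat_lit 1), (nat_lit 1), (nat_lit 0), (nat_lit 0), (nat_lit 1), (nat_lit 1)],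
  [(nat_lit 0), (nat_lit 1), (nat_lit 1), (nat_lit 1), (nat_lit 1), (nat_lit 1), (nat_lit 1), (nat_lit 1), (nat_lit 1), (nat_lit 1), (nat_lit 0), (nat_lit 0), (nat_lit 0), (nat_lit 0), (nat_lit 1), (nat_lit 0), (nat_lit 1), (nat_lit 0), (nat_lit 0), (nat_lit 0), (nat_lit 0), (nat_lit 1), (nat_lit 1), (nat_lit 0), (nat_lit 1), (nat_lit 1), (nat_lit 1), (nat_lit 0)],
  [(nat_lit 0), (nat_lit 1), (nat_lit 1), (nat_lit 0), (nat_lit 1), (nat_lit 1), (nat_lit 0), (nat_lit 1), (nat_lit 0), (nat_lit 1), (nat_lit 1), (nat_lit 0), (nat_lit 0), (nat_lit 0), (nat_lit 1), (nat_lit 0), (nat_lit 0), (nat_lit 0), (nat_lit 1), (nat_lit 1), (nat_lit 1), (nat_lit 1), (nat_lit 0), (nat_lit 1), (nat_lit 0), (nat_lit 1), (nat_lit 0), (nat_lit 1)],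
  [(nat_lit 0), (nat_lit 1), (nat_lit 0), (nat_lit 0), (nat_lit 0), (nat_lit 1), (nat_lit 0), (nat_lit 1), (nat_lit 0), (nat_lit 0), (nat_lit 1), (nat_lit 1), (nat_lit 1), (nat_lit 0), (nat_lit 1), (nat_lit 0), (nat_lit 1), (nat_lit 0), (nat_lit 1), (nat_lit 0), (nat_lit 0), (nat_lit 0), (nat_lit 1), (nat_lit 1), (nat_lit 1), (nat_lit 0), (nat_lit 1), (nat_lit 0)],
  [(nat_lit 1), (nat_lit 1), (nat_lit 0), (nat_lit 0), (nat_lit 1), (nat_lit 1), (nat_lit 1), (nat_lit 1), (nat_lit 1), (nat_lit 1), (nat_lit 1), (nat_lit 0), (nat_lit 0), (nat_lit 1), (nat_lit 0), (nat_lit 0), (nat_lit 0), (nat_lit 0), (nat_lit 1), (nat_lit 1), (nat_lit 1), (nat_lit 1), (nat_lit 1), (nat_lit 0), (nat_lit 0), (nat_lit 0), (nat_lit 0), (nat_lit 0)],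
  [(nat_lit 0), (nat_lit 1), (nat_lit 1), (nat_lit 0), (nat_lit 0), (nat_lit 0), (nat_lit 0), (nat_lit 0), (nat_lit 0), (nat_lit 0), (nat_lit 0), (nat_lit 1), (nat_lit 1), (nat_lit 0), (nat_lit 1), (nat_lit 0), (nat_lit 1), (nat_lit 0), (nat_lit 0), (nat_lit 1), (nat_lit 1), (nat_lit 0), (nat_lit 0), (nat_lit 0), (nat_lit 1), (nat_lit 0), (nat_lit 1), (nat_lit 1)],
  [(nat_lit 0), (nat_lit 1), (nat_lit 1), (nat_lit 0), (nat_lit 0), (nat_lit 1), (nat_lit 0), (nat_lit 1), (nat_lit 0), (nat_lit 1), (nat_lit 1), (nat_lit 1), (nat_lit 0), (nat_lit 1), (nat_lit 1), (nat_lit 0), (nat_lit 1), (nat_lit 0), (nat_lit 0), (nat_lit 0), (nat_lit 1), (nat_lit 1), (nat_lit 1), (nat_lit 0), (nat_lit 0), (nat_lit 1), (nat_lit 0), (nat_lit 0)],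
  [(nat_lit 1), (nat_lit 1), (nat_lit 0), (nat_lit 1), (nat_lit 1), (nat_lit 0), (nat_lit 0), (nat_lit 0), (nat_lit 1), (nat_lit 1), (nat_lit 1), (nat_lit 1), (nat_lit 0), (nat_lit 1), (nat_lit 1), (nat_lit 1), (nat_lit 0), (nat_lit 1), (nat_lit 1), (nat_lit 0), (nat_lit 0), (nat_lit 0), (nat_lit 0), (nat_lit 0), (nat_lit 0), (nat_lit 1), (nat_lit 1), (nat_lit 0)],
  [(nat_lit 0), (nat_lit 0), (nat_lit 0), (nat_lit 1), (nat_lit 1), (nat_lit 1), (nat_lit 0), (nat_lit 1), (nat_lit 1), (nat_lit 0), (nat_lit 1), (nat_lit 1), (nat_lit 0), (nat_lit 1), (nat_lit 0), (nat_lit 1), (nat_lit 0), (nat_lit 1), (nat_lit 0), (nat_lit 0), (nat_lit 1), (nat_lit 1), (nat_lit 0), (nat_lit 0), (nat_lit 0), (nat_lit 1), (nat_lit 1), (nat_lit 1)],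
  [(nat_lit 0), (nat_lit 0), (nat_lit 1), (nat_lit 1), (nat_lit 1), (nat_lit 0), (nat_lit 1), (nat_lit 1), (nat_lit 1), (nat_lit 1), (nat_lit 1), (nat_lit 0), (nat_lit 1), (nat_lit 0), (nat_lit 0), (nat_lit 1), (nat_lit 1), (nat_lit 0), (nat_lit 1), (nat_lit 1), (nat_lit 0), (nat_lit 0), (nat_lit 0), (nat_lit 1), (nat_lit 1), (nat_lit 1), (nat_lit 1), (nat_lit 1)]]]
noncomputable def Gb : List Nat := [(nat_lit 268435454),
  (nat_lit 268164449),
  (nat_lit 201254849),
  (nat_lit 54766449),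
  (nat_lit 268158665),
  (nat_lit 48148299),
  (nat_lit 134200767),
  (nat_lit 116291413),
  (nat_lit 230555375),
  (nat_lit 150962621),
  (nat_lit 132635127),
  (nat_lit 249218411),
  (nat_lit 117237187),
  (nat_lit 240964077),
  (nat_lit 254000535),
  (nat_lit 45055871),
  (nat_lit 198100827),
  (nat_lit 132239103),
  (nat_lit 123844581),
  (nat_lit 223460343),
  (nat_lit 245906295),
  (nat_lit 156686295),
  (nat_lit 112148223),
  (nat_lit 156475383),
  (nat_lit 112149855),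
  (nat_lit 22543615),
  (nat_lit 22969811),
  (nat_lit 12151575)]
noncomputable def Ym : List (List Nat) := [[(nat_lit 8383), (nat_lit 8258), (nat_lit 8258), (nat_lit 8258), (nat_lit 8512), (nat_lit 8258), (nat_lit 8514), (nat_lit 8128), (nat_lit 8257), (nat_lit 8257), (nat_lit 8255), (nat_lit 8384), (nat_lit 8257), (nat_lit 8384), (nat_lit 8257), (nat_lit 8255), (nat_lit 8257), (nat_lit 8257), (nat_lit 8384)],
  [(nat_lit 8127), (nat_lit 8514), (nat_lit 8512), (nat_lit 8514), (nat_lit 8512), (nat_lit 8512), (nat_lit 8512), (nat_lit 8257), (nat_lit 8256), (nat_lit 8257), (nat_lit 8256), (nat_lit 8256), (nat_lit 8257), (nat_lit 8256), (nat_lit 8255), (nat_lit 8257), (nat_lit 8255), (nat_lit 8255), (nat_lit 8384)],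
  [(nat_lit 8383), (nat_lit 8512), (nat_lit 8258), (nat_lit 8256), (nat_lit 8258), (nat_lit 8258), (nat_lit 8256), (nat_lit 8257), (nat_lit 8256), (nat_lit 8257), (nat_lit 8257), (nat_lit 8256), (nat_lit 8255), (nat_lit 8256), (nat_lit 8256), (nat_lit 8256), (nat_lit 8257), (nat_lit 8255), (nat_lit 8256)],
  [(nat_lit 8385), (nat_lit 8512), (nat_lit 8514), (nat_lit 8256), (nat_lit 8256), (nat_lit 8256), (nat_lit 8256), (nat_lit 8257), (nat_lit 8257), (nat_lit 8257), (nat_lit 8256), (nat_lit 8384), (nat_lit 8255), (nat_lit 8128), (nat_lit 8256), (nat_lit 8256), (nat_lit 8255), (nat_lit 8257), (nat_lit 8256)],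
  [(nat_lit 8512), (nat_lit 8127), (nat_lit 8512), (nat_lit 8512), (nat_lit 8258), (nat_lit 8512), (nat_lit 8512), (nat_lit 8256), (nat_lit 8128), (nat_lit 8257), (nat_lit 8256), (nat_lit 8257), (nat_lit 8256), (nat_lit 8256), (nat_lit 8256), (nat_lit 8257), (nat_lit 8256), (nat_lit 8256), (nat_lit 8128)],
  [(nat_lit 8514), (nat_lit 8383), (nat_lit 8258), (nat_lit 8514), (nat_lit 8258), (nat_lit 8514), (nat_lit 8514), (nat_lit 8256), (nat_lit 8384), (nat_lit 8256), (nat_lit 8255), (nat_lit 8257), (nat_lit 8128), (nat_lit 8256), (nat_lit 8256), (nat_lit 8384), (nat_lit 8384), (nat_lit 8384), (nat_lit 8255)],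
  [(nat_lit 8256), (nat_lit 8383), (nat_lit 8256), (nat_lit 8256), (nat_lit 8256), (nat_lit 8256), (nat_lit 8256), (nat_lit 8256), (nat_lit 8256), (nat_lit 8256), (nat_lit 8257), (nat_lit 8256), (nat_lit 8255), (nat_lit 8257), (nat_lit 8255), (nat_lit 8256), (nat_lit 8255), (nat_lit 8257), (nat_lit 8256)],
  [(nat_lit 8256), (nat_lit 8127), (nat_lit 8258), (nat_lit 8256), (nat_lit 8258), (nat_lit 8256), (nat_lit 8256), (nat_lit 8256), (nat_lit 8256), (nat_lit 8255), (nat_lit 8256), (nat_lit 8256), (nat_lit 8256), (nat_lit 8128), (nat_lit 8255), (nat_lit 8256), (nat_lit 8256), (nat_lit 8256), (nat_lit 8256)],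
  [(nat_lit 8512), (nat_lit 8514), (nat_lit 8385), (nat_lit 8512), (nat_lit 8514), (nat_lit 8512), (nat_lit 8512), (nat_lit 8256), (nat_lit 8256), (nat_lit 8257), (nat_lit 8256), (nat_lit 8128), (nat_lit 8256), (nat_lit 8257), (nat_lit 8256), (nat_lit 8256), (nat_lit 8257), (nat_lit 8128), (nat_lit 8256)],
  [(nat_lit 8258), (nat_lit 8512), (nat_lit 8129), (nat_lit 8258), (nat_lit 8514), (nat_lit 8258), (nat_lit 8258), (nat_lit 8256), (nat_lit 8256), (nat_lit 8255), (nat_lit 8257), (nat_lit 8255), (nat_lit 8256), (nat_lit 8128), (nat_lit 8257), (nat_lit 8128), (nat_lit 8257), (nat_lit 8128), (nat_lit 8257)],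
  [(nat_lit 8256), (nat_lit 8512), (nat_lit 8385), (nat_lit 8256), (nat_lit 8256), (nat_lit 8256), (nat_lit 8256), (nat_lit 8256), (nat_lit 8257), (nat_lit 8256), (nat_lit 8256), (nat_lit 8256), (nat_lit 8255), (nat_lit 8256), (nat_lit 8256), (nat_lit 8256), (nat_lit 8256), (nat_lit 8256), (nat_lit 8256)],
  [(nat_lit 8512), (nat_lit 8258), (nat_lit 8129), (nat_lit 8512), (nat_lit 8512), (nat_lit 8512), (nat_lit 8512), (nat_lit 8256), (nat_lit 8257), (nat_lit 8256), (nat_lit 8255), (nat_lit 8256), (nat_lit 8128), (nat_lit 8256), (nat_lit 8128), (nat_lit 8257), (nat_lit 8256), (nat_lit 8256), (nat_lit 8128)],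
  [(nat_lit 8512), (nat_lit 8256), (nat_lit 8256), (nat_lit 8385), (nat_lit 8256), (nat_lit 8258), (nat_lit 8256), (nat_lit 8257), (nat_lit 8256), (nat_lit 8256), (nat_lit 8255), (nat_lit 8256), (nat_lit 8384), (nat_lit 8256), (nat_lit 8256), (nat_lit 8384), (nat_lit 8384), (nat_lit 8128), (nat_lit 8257)],
  [(nat_lit 8514), (nat_lit 8514), (nat_lit 8256), (nat_lit 8383), (nat_lit 8256), (nat_lit 8256), (nat_lit 8258), (nat_lit 8257), (nat_lit 8255), (nat_lit 8256), (nat_lit 8255), (nat_lit 8384), (nat_lit 8257), (nat_lit 8257), (nat_lit 8255), (nat_lit 8256), (nat_lit 8255), (nat_lit 8255), (nat_lit 8256)],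
  [(nat_lit 8256), (nat_lit 8258), (nat_lit 8258), (nat_lit 8385), (nat_lit 8258), (nat_lit 8512), (nat_lit 8256), (nat_lit 8384), (nat_lit 8256), (nat_lit 8255), (nat_lit 8255), (nat_lit 8256), (nat_lit 8256), (nat_lit 8256), (nat_lit 8255), (nat_lit 8256), (nat_lit 8256), (nat_lit 8256), (nat_lit 8256)],
  [(nat_lit 8256), (nat_lit 8256), (nat_lit 8256), (nat_lit 8383), (nat_lit 8256), (nat_lit 8258), (nat_lit 8256), (nat_lit 8255), (nat_lit 8384), (nat_lit 8257), (nat_lit 8255), (nat_lit 8257), (nat_lit 8256), (nat_lit 8384), (nat_lit 8256), (nat_lit 8255), (nat_lit 8256), (nat_lit 8256), (nat_lit 8128)],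
  [(nat_lit 8512), (nat_lit 8258), (nat_lit 8512), (nat_lit 8512), (nat_lit 8385), (nat_lit 8512), (nat_lit 8512), (nat_lit 8256), (nat_lit 8384), (nat_lit 8257), (nat_lit 8257), (nat_lit 8256), (nat_lit 8255), (nat_lit 8257), (nat_lit 8256), (nat_lit 8255), (nat_lit 8128), (nat_lit 8256), (nat_lit 8384)],
  [(nat_lit 8512), (nat_lit 8512), (nat_lit 8512), (nat_lit 8512), (nat_lit 8383), (nat_lit 8512), (nat_lit 8512), (nat_lit 8256), (nat_lit 8256), (nat_lit 8256), (nat_lit 8256), (nat_lit 8384), (nat_lit 8256), (nat_lit 8256), (nat_lit 8128), (nat_lit 8256), (nat_lit 8256), (nat_lit 8384), (nat_lit 8256)],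
  [(nat_lit 8258), (nat_lit 8512), (nat_lit 8256), (nat_lit 8258), (nat_lit 8127), (nat_lit 8258), (nat_lit 8258), (nat_lit 8256), (nat_lit 8256), (nat_lit 8255), (nat_lit 8256), (nat_lit 8384), (nat_lit 8257), (nat_lit 8256), (nat_lit 8256), (nat_lit 8128), (nat_lit 8384), (nat_lit 8256), (nat_lit 8257)],
  [(nat_lit 8256), (nat_lit 8256), (nat_lit 8512), (nat_lit 8256), (nat_lit 8129), (nat_lit 8256), (nat_lit 8256), (nat_lit 8256), (nat_lit 8255), (nat_lit 8256), (nat_lit 8255), (nat_lit 8256), (nat_lit 8256), (nat_lit 8384), (nat_lit 8128), (nat_lit 8256), (nat_lit 8256), (nat_lit 8257), (nat_lit 8256)],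
  [(nat_lit 8258), (nat_lit 8514), (nat_lit 8514), (nat_lit 8258), (nat_lit 8514), (nat_lit 8127), (nat_lit 8514), (nat_lit 8257), (nat_lit 8256), (nat_lit 8256), (nat_lit 8255), (nat_lit 8256), (nat_lit 8256), (nat_lit 8256), (nat_lit 8128), (nat_lit 8384), (nat_lit 8256), (nat_lit 8255), (nat_lit 8128)],
  [(nat_lit 8514), (nat_lit 8512), (nat_lit 8514), (nat_lit 8512), (nat_lit 8258), (nat_lit 8127), (nat_lit 8514), (nat_lit 8384), (nat_lit 8384), (nat_lit 8255), (nat_lit 8257), (nat_lit 8384), (nat_lit 8257), (nat_lit 8257), (nat_lit 8255), (nat_lit 8128), (nat_lit 8128), (nat_lit 8256), (nat_lit 8384)],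
  [(nat_lit 8258), (nat_lit 8256), (nat_lit 8256), (nat_lit 8514), (nat_lit 8256), (nat_lit 8385), (nat_lit 8258), (nat_lit 8255), (nat_lit 8256), (nat_lit 8257), (nat_lit 8256), (nat_lit 8256), (nat_lit 8255), (nat_lit 8256), (nat_lit 8255), (nat_lit 8257), (nat_lit 8384), (nat_lit 8256), (nat_lit 8255)],
  [(nat_lit 8258), (nat_lit 8256), (nat_lit 8512), (nat_lit 8258), (nat_lit 8256), (nat_lit 8127), (nat_lit 8514), (nat_lit 8257), (nat_lit 8128), (nat_lit 8256), (nat_lit 8256), (nat_lit 8128), (nat_lit 8256), (nat_lit 8257), (nat_lit 8384), (nat_lit 8257), (nat_lit 8256), (nat_lit 8128), (nat_lit 8255)],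
  [(nat_lit 8512), (nat_lit 8512), (nat_lit 8256), (nat_lit 8512), (nat_lit 8256), (nat_lit 8512), (nat_lit 8383), (nat_lit 8257), (nat_lit 8257), (nat_lit 8256), (nat_lit 8256), (nat_lit 8128), (nat_lit 8255), (nat_lit 8384), (nat_lit 8256), (nat_lit 8128), (nat_lit 8256), (nat_lit 8256), (nat_lit 8255)],
  [(nat_lit 8512), (nat_lit 8258), (nat_lit 8258), (nat_lit 8256), (nat_lit 8256), (nat_lit 8256), (nat_lit 8129), (nat_lit 8255), (nat_lit 8257), (nat_lit 8257), (nat_lit 8256), (nat_lit 8257), (nat_lit 8256), (nat_lit 8384), (nat_lit 8255), (nat_lit 8256), (nat_lit 8257), (nat_lit 8128), (nat_lit 8256)],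
  [(nat_lit 8256), (nat_lit 8256), (nat_lit 8258), (nat_lit 8256), (nat_lit 8256), (nat_lit 8256), (nat_lit 8127), (nat_lit 8257), (nat_lit 8255), (nat_lit 8256), (nat_lit 8257), (nat_lit 8255), (nat_lit 8128), (nat_lit 8255), (nat_lit 8384), (nat_lit 8256), (nat_lit 8256), (nat_lit 8256), (nat_lit 8256)],
  [(nat_lit 8258), (nat_lit 8512), (nat_lit 8258), (nat_lit 8256), (nat_lit 8512), (nat_lit 8256), (nat_lit 8127), (nat_lit 8384), (nat_lit 8255), (nat_lit 8255), (nat_lit 8255), (nat_lit 8128), (nat_lit 8256), (nat_lit 8257), (nat_lit 8256), (nat_lit 8128), (nat_lit 8257), (nat_lit 8128), (nat_lit 8257)]]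
noncomputable def Cy : List (List Nat) := [[(nat_lit 8128), (nat_lit 7618), (nat_lit 8124), (nat_lit 8130), (nat_lit 7620), (nat_lit 8129), (nat_lit 8001), (nat_lit 8256), (nat_lit 8256), (nat_lit 8256), (nat_lit 8256), (nat_lit 8256), (nat_lit 8256), (nat_lit 8256), (nat_lit 8256), (nat_lit 8256), (nat_lit 8256), (nat_lit 8256), (nat_lit 8256)],
  [(nat_lit 7615), (nat_lit 8770), (nat_lit 8384), (nat_lit 7871), (nat_lit 8508), (nat_lit 7742), (nat_lit 8128), (nat_lit 8257), (nat_lit 8256), (nat_lit 8256), (nat_lit 8256), (nat_lit 8256), (nat_lit 8256), (nat_lit 8256), (nat_lit 8256), (nat_lit 8256), (nat_lit 8256), (nat_lit 8256), (nat_lit 8256)],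
  [(nat_lit 8129), (nat_lit 8257), (nat_lit 8254), (nat_lit 8002), (nat_lit 7744), (nat_lit 8002), (nat_lit 8002), (nat_lit 8256), (nat_lit 8256), (nat_lit 8256), (nat_lit 8256), (nat_lit 8256), (nat_lit 8256), (nat_lit 8256), (nat_lit 8256), (nat_lit 8256), (nat_lit 8256), (nat_lit 8256), (nat_lit 8256)],
  [(nat_lit 8257), (nat_lit 8388), (nat_lit 7873), (nat_lit 8257), (nat_lit 8510), (nat_lit 8257), (nat_lit 8257), (nat_lit 8256), (nat_lit 8257), (nat_lit 8256), (nat_lit 8256), (nat_lit 8256), (nat_lit 8256), (nat_lit 8256), (nat_lit 8256), (nat_lit 8256), (nat_lit 8256), (nat_lit 8256), (nat_lit 8256)],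
  [(nat_lit 8640), (nat_lit 8254), (nat_lit 8515), (nat_lit 8385), (nat_lit 8515), (nat_lit 8385), (nat_lit 8767), (nat_lit 8256), (nat_lit 8256), (nat_lit 8256), (nat_lit 8256), (nat_lit 8256), (nat_lit 8256), (nat_lit 8256), (nat_lit 8256), (nat_lit 8256), (nat_lit 8256), (nat_lit 8256), (nat_lit 8256)],
  [(nat_lit 8136), (nat_lit 8255), (nat_lit 8000), (nat_lit 8391), (nat_lit 8002), (nat_lit 8263), (nat_lit 8517), (nat_lit 8256), (nat_lit 8256), (nat_lit 8257), (nat_lit 8256), (nat_lit 8256), (nat_lit 8256), (nat_lit 8256), (nat_lit 8256), (nat_lit 8256), (nat_lit 8256), (nat_lit 8256), (nat_lit 8256)],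
  [(nat_lit 8514), (nat_lit 7999), (nat_lit 8126), (nat_lit 8382), (nat_lit 8128), (nat_lit 8256), (nat_lit 8126), (nat_lit 8256), (nat_lit 8256), (nat_lit 8256), (nat_lit 8256), (nat_lit 8256), (nat_lit 8256), (nat_lit 8256), (nat_lit 8256), (nat_lit 8256), (nat_lit 8256), (nat_lit 8256), (nat_lit 8256)],
  [(nat_lit 7745), (nat_lit 8255), (nat_lit 7997), (nat_lit 7745), (nat_lit 7999), (nat_lit 7745), (nat_lit 7745), (nat_lit 8256), (nat_lit 8256), (nat_lit 8256), (nat_lit 8257), (nat_lit 8256), (nat_lit 8256), (nat_lit 8256), (nat_lit 8256), (nat_lit 8256), (nat_lit 8256), (nat_lit 8256), (nat_lit 8256)],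
  [(nat_lit 8636), (nat_lit 8511), (nat_lit 8643), (nat_lit 8637), (nat_lit 8640), (nat_lit 8765), (nat_lit 8382), (nat_lit 8256), (nat_lit 8256), (nat_lit 8256), (nat_lit 8256), (nat_lit 8257), (nat_lit 8256), (nat_lit 8256), (nat_lit 8256), (nat_lit 8256), (nat_lit 8256), (nat_lit 8256), (nat_lit 8256)],
  [(nat_lit 8771), (nat_lit 8516), (nat_lit 7748), (nat_lit 8771), (nat_lit 8770), (nat_lit 8771), (nat_lit 8771), (nat_lit 8256), (nat_lit 8256), (nat_lit 8256), (nat_lit 8256), (nat_lit 8256), (nat_lit 8257), (nat_lit 8256), (nat_lit 8256), (nat_lit 8256), (nat_lit 8256), (nat_lit 8256), (nat_lit 8256)],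
  [(nat_lit 9151), (nat_lit 8257), (nat_lit 8770), (nat_lit 9278), (nat_lit 9283), (nat_lit 9022), (nat_lit 9276), (nat_lit 8256), (nat_lit 8256), (nat_lit 8256), (nat_lit 8256), (nat_lit 8256), (nat_lit 8256), (nat_lit 8257), (nat_lit 8256), (nat_lit 8256), (nat_lit 8256), (nat_lit 8256), (nat_lit 8256)],
  [(nat_lit 8382), (nat_lit 8260), (nat_lit 7999), (nat_lit 8127), (nat_lit 8001), (nat_lit 8255), (nat_lit 8001), (nat_lit 8256), (nat_lit 8256), (nat_lit 8256), (nat_lit 8256), (nat_lit 8256), (nat_lit 8256), (nat_lit 8256), (nat_lit 8256), (nat_lit 8256), (nat_lit 8256), (nat_lit 8256), (nat_lit 8256)],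
  [(nat_lit 8513), (nat_lit 8510), (nat_lit 8260), (nat_lit 8641), (nat_lit 8515), (nat_lit 8640), (nat_lit 8771), (nat_lit 8256), (nat_lit 8256), (nat_lit 8256), (nat_lit 8256), (nat_lit 8256), (nat_lit 8256), (nat_lit 8256), (nat_lit 8257), (nat_lit 8256), (nat_lit 8256), (nat_lit 8256), (nat_lit 8256)],
  [(nat_lit 8510), (nat_lit 8510), (nat_lit 8513), (nat_lit 8510), (nat_lit 8257), (nat_lit 8510), (nat_lit 8510), (nat_lit 8256), (nat_lit 8256), (nat_lit 8256), (nat_lit 8256), (nat_lit 8256), (nat_lit 8256), (nat_lit 8256), (nat_lit 8256), (nat_lit 8257), (nat_lit 8256), (nat_lit 8256), (nat_lit 8256)],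
  [(nat_lit 7994), (nat_lit 8510), (nat_lit 9022), (nat_lit 7994), (nat_lit 8506), (nat_lit 7994), (nat_lit 7994), (nat_lit 8256), (nat_lit 8256), (nat_lit 8256), (nat_lit 8256), (nat_lit 8256), (nat_lit 8256), (nat_lit 8256), (nat_lit 8256), (nat_lit 8256), (nat_lit 8257), (nat_lit 8256), (nat_lit 8256)],
  [(nat_lit 8259), (nat_lit 8128), (nat_lit 7745), (nat_lit 8387), (nat_lit 8255), (nat_lit 8515), (nat_lit 8131), (nat_lit 8256), (nat_lit 8256), (nat_lit 8256), (nat_lit 8256), (nat_lit 8256), (nat_lit 8256), (nat_lit 8256), (nat_lit 8256), (nat_lit 8256), (nat_lit 8256), (nat_lit 8256), (nat_lit 8256)],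
  [(nat_lit 8002), (nat_lit 8513), (nat_lit 8002), (nat_lit 8130), (nat_lit 8255), (nat_lit 8129), (nat_lit 8260), (nat_lit 8256), (nat_lit 8256), (nat_lit 8256), (nat_lit 8256), (nat_lit 8256), (nat_lit 8256), (nat_lit 8256), (nat_lit 8256), (nat_lit 8256), (nat_lit 8256), (nat_lit 8257), (nat_lit 8256)],
  [(nat_lit 8255), (nat_lit 8254), (nat_lit 8386), (nat_lit 8127), (nat_lit 8255), (nat_lit 8255), (nat_lit 8384), (nat_lit 8256), (nat_lit 8256), (nat_lit 8256), (nat_lit 8256), (nat_lit 8256), (nat_lit 8256), (nat_lit 8256), (nat_lit 8256), (nat_lit 8256), (nat_lit 8256), (nat_lit 8256), (nat_lit 8256)],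
  [(nat_lit 8258), (nat_lit 8001), (nat_lit 8254), (nat_lit 8130), (nat_lit 7745), (nat_lit 8131), (nat_lit 8000), (nat_lit 8256), (nat_lit 8256), (nat_lit 8256), (nat_lit 8256), (nat_lit 8256), (nat_lit 8256), (nat_lit 8256), (nat_lit 8256), (nat_lit 8256), (nat_lit 8256), (nat_lit 8256), (nat_lit 8257)],
  [(nat_lit 8131), (nat_lit 8515), (nat_lit 7873), (nat_lit 8128), (nat_lit 7870), (nat_lit 8000), (nat_lit 8130), (nat_lit 8256), (nat_lit 8256), (nat_lit 8256), (nat_lit 8256), (nat_lit 8256), (nat_lit 8256), (nat_lit 8256), (nat_lit 8256), (nat_lit 8256), (nat_lit 8256), (nat_lit 8256), (nat_lit 8256)],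
  [(nat_lit 8638), (nat_lit 8642), (nat_lit 8001), (nat_lit 8126), (nat_lit 8126), (nat_lit 8256), (nat_lit 7998), (nat_lit 8256), (nat_lit 8256), (nat_lit 8256), (nat_lit 8256), (nat_lit 8256), (nat_lit 8256), (nat_lit 8256), (nat_lit 8256), (nat_lit 8256), (nat_lit 8256), (nat_lit 8256), (nat_lit 8256)],
  [(nat_lit 8125), (nat_lit 8639), (nat_lit 8256), (nat_lit 8251), (nat_lit 8635), (nat_lit 8251), (nat_lit 7997), (nat_lit 8256), (nat_lit 8256), (nat_lit 8256), (nat_lit 8256), (nat_lit 8256), (nat_lit 8256), (nat_lit 8256), (nat_lit 8256), (nat_lit 8256), (nat_lit 8256), (nat_lit 8256), (nat_lit 8256)],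
  [(nat_lit 8769), (nat_lit 7490), (nat_lit 8255), (nat_lit 8515), (nat_lit 8260), (nat_lit 8643), (nat_lit 8256), (nat_lit 8256), (nat_lit 8256), (nat_lit 8256), (nat_lit 8256), (nat_lit 8256), (nat_lit 8256), (nat_lit 8256), (nat_lit 8256), (nat_lit 8256), (nat_lit 8256), (nat_lit 8256), (nat_lit 8256)],
  [(nat_lit 7490), (nat_lit 8124), (nat_lit 8383), (nat_lit 7491), (nat_lit 7613), (nat_lit 7618), (nat_lit 7745), (nat_lit 8256), (nat_lit 8256), (nat_lit 8256), (nat_lit 8256), (nat_lit 8256), (nat_lit 8256), (nat_lit 8256), (nat_lit 8256), (nat_lit 8256), (nat_lit 8256), (nat_lit 8256), (nat_lit 8256)],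
  [(nat_lit 8382), (nat_lit 8127), (nat_lit 8130), (nat_lit 8255), (nat_lit 8515), (nat_lit 8255), (nat_lit 8512), (nat_lit 8256), (nat_lit 8256), (nat_lit 8256), (nat_lit 8256), (nat_lit 8256), (nat_lit 8256), (nat_lit 8256), (nat_lit 8256), (nat_lit 8256), (nat_lit 8256), (nat_lit 8256), (nat_lit 8256)],
  [(nat_lit 8376), (nat_lit 8510), (nat_lit 8513), (nat_lit 7993), (nat_lit 7869), (nat_lit 8250), (nat_lit 7869), (nat_lit 8256), (nat_lit 8256), (nat_lit 8256), (nat_lit 8256), (nat_lit 8256), (nat_lit 8256), (nat_lit 8256), (nat_lit 8256), (nat_lit 8256), (nat_lit 8256), (nat_lit 8256), (nat_lit 8256)],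
  [(nat_lit 8389), (nat_lit 8000), (nat_lit 8129), (nat_lit 8388), (nat_lit 8261), (nat_lit 8260), (nat_lit 8643), (nat_lit 8256), (nat_lit 8256), (nat_lit 8256), (nat_lit 8256), (nat_lit 8256), (nat_lit 8256), (nat_lit 8256), (nat_lit 8256), (nat_lit 8256), (nat_lit 8256), (nat_lit 8256), (nat_lit 8256)],
  [(nat_lit 8004), (nat_lit 8259), (nat_lit 7744), (nat_lit 8004), (nat_lit 7746), (nat_lit 8004), (nat_lit 8004), (nat_lit 8256), (nat_lit 8256), (nat_lit 8256), (nat_lit 8256), (nat_lit 8256), (nat_lit 8256), (nat_lit 8256), (nat_lit 8256), (nat_lit 8256), (nat_lit 8256), (nat_lit 8256), (nat_lit 8256)]]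
noncomputable def Ew : List Nat := [(nat_lit 255),
  (nat_lit 65280),
  (nat_lit 16711680),
  (nat_lit 4278190080),
  (nat_lit 0xff00000000),
  (nat_lit 0xff0000000000),
  (nat_lit 0xff000000000000),
  (nat_lit 0x95590065000056),
  (nat_lit 0x55884284500a41),
  (nat_lit 0x44141150054155),
  (nat_lit 0x50054155441411),
  (nat_lit 0x96882848060582),
  (nat_lit 0x21141106901855),
  (nat_lit 0x5a448184099082),
  (nat_lit 0x24968814845005),
  (nat_lit 0x825a2142480905),
  (nat_lit 0x44282206051855),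
  (nat_lit 0x888148060a1855),
  (nat_lit 0x415a128184060a)]
noncomputable def Em : List Nat := [(nat_lit 0),
  (nat_lit 128),
  (nat_lit 128),
  (nat_lit 256),
  (nat_lit 128),
  (nat_lit 512),
  (nat_lit 168),
  (nat_lit 1024),
  (nat_lit 2048),
  (nat_lit 4096),
  (nat_lit 8192),
  (nat_lit 512),
  (nat_lit 16384),
  (nat_lit 32768),
  (nat_lit 65536),
  (nat_lit 224),
  (nat_lit 131072),
  (nat_lit 8192),
  (nat_lit 262144),
  (nat_lit 200),
  (nat_lit 224),
  (nat_lit 200),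
  (nat_lit 224),
  (nat_lit 200),
  (nat_lit 224),
  (nat_lit 200),
  (nat_lit 398656),
  (nat_lit 455687),
  (nat_lit 0),
  (nat_lit 233),
  (nat_lit 233),
  (nat_lit 55876),
  (nat_lit 233),
  (nat_lit 32553),
  (nat_lit 193),
  (nat_lit 270923),
  (nat_lit 54096),
  (nat_lit 28007),
  (nat_lit 64322),
  (nat_lit 32553),
  (nat_lit 311418),
  (nat_lit 262176),
  (nat_lit 97571),
  (nat_lit 137),
  (nat_lit 163091),
  (nat_lit 64322),
  (nat_lit 32800),
  (nat_lit 161),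
  (nat_lit 137),
  (nat_lit 161),
  (nat_lit 137),
  (nat_lit 161),
  (nat_lit 137),
  (nat_lit 161),
  (nat_lit 419867),
  (nat_lit 428288)]
noncomputable def YP : List Nat := [(nat_lit 0x10103010001000301010002020002020203),
  (nat_lit 0x1000000000100010000000302000200000001),
  (nat_lit 0x30301030001000001000100000002000203),
  (nat_lit 0x1000000000000000000000002020202020203),
  (nat_lit 0x30100000003000101000100020200020003),
  (nat_lit 513),
  (nat_lit 0x10300000003000001010100000000020001),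
  (nat_lit 0x300010000000000000000020201),
  (nat_lit 0x1000000010001000000000200000300),
  (nat_lit 0x3000000000000000000030002020002020302),
  (nat_lit 0x3000000000000010300000002020202020302),
  (nat_lit 0x10101000003000000010002020002000102),
  (nat_lit 0x10300030103000100000000000000000300),
  (nat_lit 256),
  (nat_lit 0x30000000003000000000200020300),
  (nat_lit 0x300000000000000000000000300),
  (nat_lit 0x100000100000001000000000200010200),
  (nat_lit 0x30000000000030000000002020202010202),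
  (nat_lit 0x1000100010000030103000002020202010002),
  (nat_lit 0x30003000300000000000000000200030200),
  (nat_lit 0x3000000010000000000010000),
  (nat_lit 66048),
  (nat_lit 0x1000000000300010000000000010200),
  (nat_lit 0x3000000030003000000000002020202030002),
  (nat_lit 0x1000000000000000300000100020001000000),
  (nat_lit 0x30101000001000000000000000001000002),
  (nat_lit 0x30300030101000300030102000003000202),
  (nat_lit 0x10000000000000001000202),
  (nat_lit 0x30000000303000000000201020200),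
  (nat_lit 0x100020001000000),
  (nat_lit 0x3000000010301000300020003000000),
  (nat_lit 0x3000000000100000000010000000001000000),
  (nat_lit 0x3000103000101000000000100000200),
  (nat_lit 0x1000300000000000000010002020102020002),
  (nat_lit 0x300000000),
  (nat_lit 0x10000030000010000000002020102020202),
  (nat_lit 0x1000000000001000003000002020302000002),
  (nat_lit 0x103000000010000000000000300000200),
  (nat_lit 0x10000000000000300030000000100000000),
  (nat_lit 0x30100000000000000000300020000),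
  (nat_lit 0x30000000000000300000102030202020202),
  (nat_lit 0x3000001030000000000000002030200020200),
  (nat_lit 0x30101000103000002030200020002),
  (nat_lit 0x1000303000000010000010102030002020202),
  (nat_lit 0x3000001030003000001000302010002000002),
  (nat_lit 0x100000000000000000000010002000000),
  (nat_lit 0x3000001000100000000000102030002000002),
  (nat_lit 0x30000010000030000030002030000020000),
  (nat_lit 0x3000000000003000000010103000000000000),
  (nat_lit 0x3000100030000000001020002000202),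
  (nat_lit 0x100030000010001010301000000020200),
  (nat_lit 0x30000000100000000000003000000000002),
  (nat_lit 0x300030100030103000000020000),
  (nat_lit 0x10003000000000003000000000000),
  (nat_lit 0x1000100000100000303030003000000020002),
  (nat_lit 0x30003000000030000000103000200000200)]
noncomputable def CA : List (Nat × Nat) := [((nat_lit 251649), (nat_lit 524287)),
  ((nat_lit 272513), (nat_lit 524287)),
  ((nat_lit 250497), (nat_lit 524287)),
  ((nat_lit 262145), (nat_lit 524287)),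
  ((nat_lit 202369), (nat_lit 524287)),
  ((nat_lit 1), (nat_lit 524287)),
  ((nat_lit 201601), (nat_lit 524287)),
  ((nat_lit 10241), (nat_lit 524287)),
  ((nat_lit 35330), (nat_lit 524286)),
  ((nat_lit 262402), (nat_lit 524286)),
  ((nat_lit 265218), (nat_lit 524286)),
  ((nat_lit 233730), (nat_lit 524286)),
  ((nat_lit 226306), (nat_lit 524286)),
  ((nat_lit 2), (nat_lit 524286)),
  ((nat_lit 16898), (nat_lit 524286)),
  ((nat_lit 8194), (nat_lit 524286)),
  ((nat_lit 74244), (nat_lit 524284)),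
  ((nat_lit 133124), (nat_lit 524284)),
  ((nat_lit 347652), (nat_lit 524284)),
  ((nat_lit 172036), (nat_lit 524284)),
  ((nat_lit 4356), (nat_lit 524284)),
  ((nat_lit 4), (nat_lit 524284)),
  ((nat_lit 34052), (nat_lit 524284)),
  ((nat_lit 282628), (nat_lit 524284)),
  ((nat_lit 263304), (nat_lit 524280)),
  ((nat_lit 233480), (nat_lit 524280)),
  ((nat_lit 226696), (nat_lit 524280)),
  ((nat_lit 2056), (nat_lit 524280)),
  ((nat_lit 17928), (nat_lit 524280)),
  ((nat_lit 136), (nat_lit 524280)),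
  ((nat_lit 36488), (nat_lit 524280)),
  ((nat_lit 270600), (nat_lit 524280)),
  ((nat_lit 46608), (nat_lit 524272)),
  ((nat_lit 327952), (nat_lit 524272)),
  ((nat_lit 16), (nat_lit 524272)),
  ((nat_lit 149520), (nat_lit 524272)),
  ((nat_lit 266768), (nat_lit 524272)),
  ((nat_lit 100368), (nat_lit 524272)),
  ((nat_lit 132368), (nat_lit 524272)),
  ((nat_lit 24592), (nat_lit 524272)),
  ((nat_lit 132256), (nat_lit 524256)),
  ((nat_lit 311328), (nat_lit 524256)),
  ((nat_lit 30240), (nat_lit 524256)),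
  ((nat_lit 362912), (nat_lit 524256)),
  ((nat_lit 316064), (nat_lit 524256)),
  ((nat_lit 65568), (nat_lit 524256)),
  ((nat_lit 303264), (nat_lit 524256)),
  ((nat_lit 149792), (nat_lit 524256)),
  ((nat_lit 266688), (nat_lit 524224)),
  ((nat_lit 43072), (nat_lit 524224)),
  ((nat_lit 84928), (nat_lit 524224)),
  ((nat_lit 139328), (nat_lit 524224)),
  ((nat_lit 11712), (nat_lit 524224)),
  ((nat_lit 20544), (nat_lit 524224)),
  ((nat_lit 337728), (nat_lit 503744)),
  ((nat_lit 166080), (nat_lit 166080))]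

end CF.Comp.Ru
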