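import Cfsg.Agent.Comp.Defs

/-! The code words of small weight. -/

set_option maxRecDepth 100000

namespace CF.Comp.Ru

noncomputable def LL0 : List (Nat × Nat) := [((nat_lit 0), (nat_lit 0)),
  ((nat_lit 1), (nat_lit 0)),
  ((nat_lit 2), (nat_lit 0)),
  ((nat_lit 3), (nat_lit 0)),
  ((nat_lit 4), (nat_lit 0)),
  ((nat_lit 5), (nat_lit 0)),
  ((nat_lit 6), (nat_lit 0)),
  ((nat_lit 8), (nat_lit 0)),
  ((nat_lit 9), (nat_lit 0)),
  ((nat_lit 10), (nat_lit 0)),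
  ((nat_lit 12), (nat_lit 0)),
  ((nat_lit 16), (nat_lit 0)),
  ((nat_lit 17), (nat_lit 0)),
  ((nat_lit 18), (nat_lit 0)),
  ((nat_lit 20), (nat_lit 0)),
  ((nat_lit 24), (nat_lit 0)),
  ((nat_lit 32), (nat_lit 0)),
  ((nat_lit 33), (nat_lit 0)),
  ((nat_lit 34), (nat_lit 0)),
  ((nat_lit 36), (nat_lit 0)),
  ((nat_lit 40), (nat_lit 0)),
  ((nat_lit 48), (nat_lit 0)),
  ((nat_lit 64), (nat_lit 0)),
  ((nat_lit 65), (nat_lit 0)),
  ((nat_lit 66), (nat_lit 0)),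
  ((nat_lit 68), (nat_lit 0)),
  ((nat_lit 72), (nat_lit 0)),
  ((nat_lit 80), (nat_lit 0)),
  ((nat_lit 96), (nat_lit 0)),
  ((nat_lit 128), (nat_lit 32)),
  ((nat_lit 129), (nat_lit 0)),
  ((nat_lit 136), (nat_lit 0)),
  ((nat_lit 137), (nat_lit 32)),
  ((nat_lit 160), (nat_lit 0)),
  ((nat_lit 161), (nat_lit 32)),
  ((nat_lit 168), (nat_lit 32)),
  ((nat_lit 169), (nat_lit 0)),
  ((nat_lit 192), (nat_lit 0)),
  ((nat_lit 193), (nat_lit 32)),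
  ((nat_lit 200), (nat_lit 32)),
  ((nat_lit 201), (nat_lit 0)),
  ((nat_lit 224), (nat_lit 32)),
  ((nat_lit 225), (nat_lit 0)),
  ((nat_lit 232), (nat_lit 0)),
  ((nat_lit 233), (nat_lit 32)),
  ((nat_lit 256), (nat_lit 16)),
  ((nat_lit 320), (nat_lit 16)),
  ((nat_lit 512), (nat_lit 16)),
  ((nat_lit 513), (nat_lit 16)),
  ((nat_lit 1024), (nat_lit 16)),
  ((nat_lit 1032), (nat_lit 16)),
  ((nat_lit 1536), (nat_lit 16)),
  ((nat_lit 1538), (nat_lit 16)),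
  ((nat_lit 1664), (nat_lit 16)),
  ((nat_lit 1666), (nat_lit 16)),
  ((nat_lit 1794), (nat_lit 16)),
  ((nat_lit 1826), (nat_lit 16)),
  ((nat_lit 2048), (nat_lit 16)),
  ((nat_lit 2112), (nat_lit 16)),
  ((nat_lit 4096), (nat_lit 16)),
  ((nat_lit 4097), (nat_lit 16)),
  ((nat_lit 4608), (nat_lit 32)),
  ((nat_lit 4610), (nat_lit 0)),
  ((nat_lit 4612), (nat_lit 0)),
  ((nat_lit 4614), (nat_lit 32)),
  ((nat_lit 4616), (nat_lit 0)),
  ((nat_lit 4618), (nat_lit 32)),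
  ((nat_lit 4620), (nat_lit 32)),
  ((nat_lit 4622), (nat_lit 0)),
  ((nat_lit 4672), (nat_lit 0)),
  ((nat_lit 4674), (nat_lit 32)),
  ((nat_lit 4676), (nat_lit 32)),
  ((nat_lit 4678), (nat_lit 0)),
  ((nat_lit 4680), (nat_lit 32)),
  ((nat_lit 4682), (nat_lit 0)),
  ((nat_lit 4684), (nat_lit 0)),
  ((nat_lit 4686), (nat_lit 32)),
  ((nat_lit 5384), (nat_lit 16)),
  ((nat_lit 5416), (nat_lit 16)),
  ((nat_lit 8192), (nat_lit 16)),
  ((nat_lit 8256), (nat_lit 16)),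
  ((nat_lit 10518), (nat_lit 16)),
  ((nat_lit 10582), (nat_lit 16)),
  ((nat_lit 11090), (nat_lit 16)),
  ((nat_lit 11094), (nat_lit 16)),
  ((nat_lit 11162), (nat_lit 16)),
  ((nat_lit 11166), (nat_lit 16)),
  ((nat_lit 12353), (nat_lit 16)),
  ((nat_lit 12357), (nat_lit 16)),
  ((nat_lit 12488), (nat_lit 16)),
  ((nat_lit 12492), (nat_lit 16)),
  ((nat_lit 14274), (nat_lit 16)),
  ((nat_lit 14282), (nat_lit 16)),
  ((nat_lit 15484), (nat_lit 16)),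
  ((nat_lit 15486), (nat_lit 16)),
  ((nat_lit 15516), (nat_lit 16)),
  ((nat_lit 15518), (nat_lit 16)),
  ((nat_lit 16384), (nat_lit 16)),
  ((nat_lit 16416), (nat_lit 16)),
  ((nat_lit 16896), (nat_lit 16)),
  ((nat_lit 16912), (nat_lit 16)),
  ((nat_lit 17120), (nat_lit 16)),
  ((nat_lit 17136), (nat_lit 16)),
  ((nat_lit 20480), (nat_lit 16)),
  ((nat_lit 20496), (nat_lit 16)),
  ((nat_lit 20648), (nat_lit 16)),
  ((nat_lit 20664), (nat_lit 16)),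
  ((nat_lit 20752), (nat_lit 16)),
  ((nat_lit 20760), (nat_lit 16)),
  ((nat_lit 20992), (nat_lit 16)),
  ((nat_lit 21024), (nat_lit 16)),
  ((nat_lit 21760), (nat_lit 0)),
  ((nat_lit 21762), (nat_lit 0)),
  ((nat_lit 21768), (nat_lit 0)),
  ((nat_lit 21770), (nat_lit 0)),
  ((nat_lit 21776), (nat_lit 0)),
  ((nat_lit 21778), (nat_lit 0)),
  ((nat_lit 21784), (nat_lit 0)),
  ((nat_lit 21786), (nat_lit 0)),
  ((nat_lit 21792), (nat_lit 0)),
  ((nat_lit 21794), (nat_lit 0)),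
  ((nat_lit 21800), (nat_lit 0)),
  ((nat_lit 21802), (nat_lit 0)),
  ((nat_lit 21808), (nat_lit 0)),
  ((nat_lit 21810), (nat_lit 0)),
  ((nat_lit 21816), (nat_lit 0)),
  ((nat_lit 21818), (nat_lit 0)),
  ((nat_lit 25312), (nat_lit 16)),
  ((nat_lit 25320), (nat_lit 16)),
  ((nat_lit 25955), (nat_lit 16)),
  ((nat_lit 25959), (nat_lit 16)),
  ((nat_lit 26050), (nat_lit 16)),
  ((nat_lit 26054), (nat_lit 16)),
  ((nat_lit 28006), (nat_lit 16)),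
  ((nat_lit 28007), (nat_lit 16)),
  ((nat_lit 32360), (nat_lit 16)),
  ((nat_lit 32364), (nat_lit 16)),
  ((nat_lit 32392), (nat_lit 16)),
  ((nat_lit 32396), (nat_lit 16)),
  ((nat_lit 32552), (nat_lit 16)),
  ((nat_lit 32553), (nat_lit 16)),
  ((nat_lit 32768), (nat_lit 16)),
  ((nat_lit 32800), (nat_lit 16)),
  ((nat_lit 35880), (nat_lit 16)),
  ((nat_lit 35881), (nat_lit 16)),
  ((nat_lit 36137), (nat_lit 16)),
  ((nat_lit 36141), (nat_lit 16)),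
  ((nat_lit 36232), (nat_lit 16)),
  ((nat_lit 36236), (nat_lit 16)),
  ((nat_lit 37444), (nat_lit 16)),
  ((nat_lit 37476), (nat_lit 16)),
  ((nat_lit 38496), (nat_lit 16)),
  ((nat_lit 38500), (nat_lit 16)),
  ((nat_lit 38528), (nat_lit 16)),
  ((nat_lit 38532), (nat_lit 16)),
  ((nat_lit 39076), (nat_lit 16)),
  ((nat_lit 39084), (nat_lit 16)),
  ((nat_lit 40484), (nat_lit 16)),
  ((nat_lit 40485), (nat_lit 16)),
  ((nat_lit 43530), (nat_lit 16)),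
  ((nat_lit 43546), (nat_lit 16)),
  ((nat_lit 43754), (nat_lit 16)),
  ((nat_lit 43770), (nat_lit 16)),
  ((nat_lit 43858), (nat_lit 16)),
  ((nat_lit 43866), (nat_lit 16)),
  ((nat_lit 47172), (nat_lit 16)),
  ((nat_lit 47188), (nat_lit 16)),
  ((nat_lit 47340), (nat_lit 16)),
  ((nat_lit 47356), (nat_lit 16)),
  ((nat_lit 50000), (nat_lit 16)),
  ((nat_lit 50004), (nat_lit 16)),
  ((nat_lit 50072), (nat_lit 16)),
  ((nat_lit 50076), (nat_lit 16)),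
  ((nat_lit 51036), (nat_lit 16)),
  ((nat_lit 51068), (nat_lit 16)),
  ((nat_lit 52612), (nat_lit 16)),
  ((nat_lit 52620), (nat_lit 16)),
  ((nat_lit 53760), (nat_lit 0)),
  ((nat_lit 53764), (nat_lit 0)),
  ((nat_lit 53776), (nat_lit 0)),
  ((nat_lit 53780), (nat_lit 0)),
  ((nat_lit 53792), (nat_lit 0)),
  ((nat_lit 53796), (nat_lit 0)),
  ((nat_lit 53808), (nat_lit 0)),
  ((nat_lit 53812), (nat_lit 0)),
  ((nat_lit 53824), (nat_lit 0)),
  ((nat_lit 53828), (nat_lit 0)),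
  ((nat_lit 53840), (nat_lit 0)),
  ((nat_lit 53844), (nat_lit 0)),
  ((nat_lit 53856), (nat_lit 0)),
  ((nat_lit 53860), (nat_lit 0)),
  ((nat_lit 53872), (nat_lit 0)),
  ((nat_lit 53876), (nat_lit 0)),
  ((nat_lit 54032), (nat_lit 16)),
  ((nat_lit 54096), (nat_lit 16)),
  ((nat_lit 54384), (nat_lit 16)),
  ((nat_lit 54386), (nat_lit 16)),
  ((nat_lit 54416), (nat_lit 16)),
  ((nat_lit 54418), (nat_lit 16)),
  ((nat_lit 54546), (nat_lit 16)),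
  ((nat_lit 54578), (nat_lit 16)),
  ((nat_lit 55297), (nat_lit 16)),
  ((nat_lit 55301), (nat_lit 16)),
  ((nat_lit 55432), (nat_lit 16)),
  ((nat_lit 55436), (nat_lit 16)),
  ((nat_lit 55812), (nat_lit 16)),
  ((nat_lit 55876), (nat_lit 16)),
  ((nat_lit 58192), (nat_lit 16)),
  ((nat_lit 58193), (nat_lit 16)),
  ((nat_lit 59392), (nat_lit 0)),
  ((nat_lit 59394), (nat_lit 0)),
  ((nat_lit 59396), (nat_lit 0)),
  ((nat_lit 59398), (nat_lit 0)),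
  ((nat_lit 59400), (nat_lit 0)),
  ((nat_lit 59402), (nat_lit 0)),
  ((nat_lit 59404), (nat_lit 0)),
  ((nat_lit 59406), (nat_lit 0)),
  ((nat_lit 59456), (nat_lit 0)),
  ((nat_lit 59458), (nat_lit 0)),
  ((nat_lit 59460), (nat_lit 0)),
  ((nat_lit 59462), (nat_lit 0)),
  ((nat_lit 59464), (nat_lit 0)),
  ((nat_lit 59466), (nat_lit 0)),
  ((nat_lit 59468), (nat_lit 0)),
  ((nat_lit 59470), (nat_lit 0)),
  ((nat_lit 59592), (nat_lit 0)),
  ((nat_lit 59593), (nat_lit 0)),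
  ((nat_lit 59594), (nat_lit 0)),
  ((nat_lit 59595), (nat_lit 0)),
  ((nat_lit 59596), (nat_lit 0)),
  ((nat_lit 59597), (nat_lit 0)),
  ((nat_lit 59598), (nat_lit 0)),
  ((nat_lit 59599), (nat_lit 0)),
  ((nat_lit 59624), (nat_lit 0)),
  ((nat_lit 59625), (nat_lit 0)),
  ((nat_lit 59626), (nat_lit 0)),
  ((nat_lit 59627), (nat_lit 0)),
  ((nat_lit 59628), (nat_lit 0)),
  ((nat_lit 59629), (nat_lit 0)),
  ((nat_lit 59630), (nat_lit 0)),
  ((nat_lit 59631), (nat_lit 0)),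
  ((nat_lit 61000), (nat_lit 16)),
  ((nat_lit 61002), (nat_lit 16)),
  ((nat_lit 61128), (nat_lit 16)),
  ((nat_lit 61130), (nat_lit 16)),
  ((nat_lit 61714), (nat_lit 16)),
  ((nat_lit 61715), (nat_lit 16)),
  ((nat_lit 61952), (nat_lit 16)),
  ((nat_lit 62016), (nat_lit 16)),
  ((nat_lit 62208), (nat_lit 0)),
  ((nat_lit 62209), (nat_lit 0)),
  ((nat_lit 62210), (nat_lit 0)),
  ((nat_lit 62211), (nat_lit 0)),
  ((nat_lit 62224), (nat_lit 0)),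
  ((nat_lit 62225), (nat_lit 0)),
  ((nat_lit 62226), (nat_lit 0)),
  ((nat_lit 62227), (nat_lit 0)),
  ((nat_lit 62272), (nat_lit 0)),
  ((nat_lit 62273), (nat_lit 0)),
  ((nat_lit 62274), (nat_lit 0)),
  ((nat_lit 62275), (nat_lit 0)),
  ((nat_lit 62288), (nat_lit 0)),
  ((nat_lit 62289), (nat_lit 0)),
  ((nat_lit 62290), (nat_lit 0)),
  ((nat_lit 62291), (nat_lit 0)),
  ((nat_lit 64000), (nat_lit 0)),
  ((nat_lit 64002), (nat_lit 0)),
  ((nat_lit 64004), (nat_lit 0)),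
  ((nat_lit 64006), (nat_lit 0)),
  ((nat_lit 64008), (nat_lit 0)),
  ((nat_lit 64010), (nat_lit 0)),
  ((nat_lit 64012), (nat_lit 0)),
  ((nat_lit 64014), (nat_lit 0)),
  ((nat_lit 64064), (nat_lit 0)),
  ((nat_lit 64066), (nat_lit 0)),
  ((nat_lit 64068), (nat_lit 0)),
  ((nat_lit 64070), (nat_lit 0)),
  ((nat_lit 64072), (nat_lit 0)),
  ((nat_lit 64074), (nat_lit 0)),
  ((nat_lit 64076), (nat_lit 0)),
  ((nat_lit 64078), (nat_lit 0)),
  ((nat_lit 64258), (nat_lit 16)),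
  ((nat_lit 64322), (nat_lit 16)),
  ((nat_lit 65088), (nat_lit 16)),
  ((nat_lit 65096), (nat_lit 16))]
noncomputable def LL1 : List (Nat × Nat) := [((nat_lit 0), (nat_lit 16)),
  ((nat_lit 1), (nat_lit 16)),
  ((nat_lit 256), (nat_lit 16)),
  ((nat_lit 260), (nat_lit 16)),
  ((nat_lit 424), (nat_lit 16)),
  ((nat_lit 428), (nat_lit 16)),
  ((nat_lit 512), (nat_lit 0)),
  ((nat_lit 514), (nat_lit 0)),
  ((nat_lit 520), (nat_lit 0)),
  ((nat_lit 522), (nat_lit 0)),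
  ((nat_lit 528), (nat_lit 0)),
  ((nat_lit 530), (nat_lit 0)),
  ((nat_lit 536), (nat_lit 0)),
  ((nat_lit 538), (nat_lit 0)),
  ((nat_lit 544), (nat_lit 0)),
  ((nat_lit 546), (nat_lit 0)),
  ((nat_lit 552), (nat_lit 0)),
  ((nat_lit 554), (nat_lit 0)),
  ((nat_lit 560), (nat_lit 0)),
  ((nat_lit 562), (nat_lit 0)),
  ((nat_lit 568), (nat_lit 0)),
  ((nat_lit 570), (nat_lit 0)),
  ((nat_lit 1288), (nat_lit 16)),
  ((nat_lit 1320), (nat_lit 16)),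
  ((nat_lit 3968), (nat_lit 16)),
  ((nat_lit 3976), (nat_lit 16)),
  ((nat_lit 4096), (nat_lit 0)),
  ((nat_lit 4100), (nat_lit 0)),
  ((nat_lit 4112), (nat_lit 0)),
  ((nat_lit 4116), (nat_lit 0)),
  ((nat_lit 4128), (nat_lit 0)),
  ((nat_lit 4132), (nat_lit 0)),
  ((nat_lit 4144), (nat_lit 0)),
  ((nat_lit 4148), (nat_lit 0)),
  ((nat_lit 4160), (nat_lit 0)),
  ((nat_lit 4164), (nat_lit 0)),
  ((nat_lit 4176), (nat_lit 0)),
  ((nat_lit 4180), (nat_lit 0)),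
  ((nat_lit 4192), (nat_lit 0)),
  ((nat_lit 4196), (nat_lit 0)),
  ((nat_lit 4208), (nat_lit 0)),
  ((nat_lit 4212), (nat_lit 0)),
  ((nat_lit 4608), (nat_lit 16)),
  ((nat_lit 4609), (nat_lit 16)),
  ((nat_lit 5890), (nat_lit 16)),
  ((nat_lit 5922), (nat_lit 16)),
  ((nat_lit 6721), (nat_lit 16)),
  ((nat_lit 6725), (nat_lit 16)),
  ((nat_lit 6824), (nat_lit 16)),
  ((nat_lit 6828), (nat_lit 16)),
  ((nat_lit 15476), (nat_lit 16)),
  ((nat_lit 15484), (nat_lit 16)),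
  ((nat_lit 16416), (nat_lit 16)),
  ((nat_lit 16432), (nat_lit 16)),
  ((nat_lit 16616), (nat_lit 16)),
  ((nat_lit 16632), (nat_lit 16)),
  ((nat_lit 16912), (nat_lit 16)),
  ((nat_lit 16944), (nat_lit 16)),
  ((nat_lit 20329), (nat_lit 16)),
  ((nat_lit 20333), (nat_lit 16)),
  ((nat_lit 20392), (nat_lit 16)),
  ((nat_lit 20396), (nat_lit 16)),
  ((nat_lit 20496), (nat_lit 16)),
  ((nat_lit 20528), (nat_lit 16)),
  ((nat_lit 20752), (nat_lit 16)),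
  ((nat_lit 20754), (nat_lit 16)),
  ((nat_lit 20920), (nat_lit 16)),
  ((nat_lit 20922), (nat_lit 16)),
  ((nat_lit 21024), (nat_lit 16)),
  ((nat_lit 21040), (nat_lit 16)),
  ((nat_lit 21152), (nat_lit 16)),
  ((nat_lit 21168), (nat_lit 16)),
  ((nat_lit 21552), (nat_lit 16)),
  ((nat_lit 21556), (nat_lit 16)),
  ((nat_lit 21680), (nat_lit 16)),
  ((nat_lit 21684), (nat_lit 16)),
  ((nat_lit 22064), (nat_lit 16)),
  ((nat_lit 22128), (nat_lit 16)),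
  ((nat_lit 22272), (nat_lit 0)),
  ((nat_lit 22274), (nat_lit 0)),
  ((nat_lit 22280), (nat_lit 0)),
  ((nat_lit 22282), (nat_lit 0)),
  ((nat_lit 22288), (nat_lit 0)),
  ((nat_lit 22290), (nat_lit 0)),
  ((nat_lit 22296), (nat_lit 0)),
  ((nat_lit 22298), (nat_lit 0)),
  ((nat_lit 22304), (nat_lit 0)),
  ((nat_lit 22306), (nat_lit 0)),
  ((nat_lit 22312), (nat_lit 0)),
  ((nat_lit 22314), (nat_lit 0)),
  ((nat_lit 22320), (nat_lit 0)),
  ((nat_lit 22322), (nat_lit 0)),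
  ((nat_lit 22328), (nat_lit 0)),
  ((nat_lit 22330), (nat_lit 0)),
  ((nat_lit 23200), (nat_lit 16)),
  ((nat_lit 23208), (nat_lit 16)),
  ((nat_lit 24360), (nat_lit 16)),
  ((nat_lit 24424), (nat_lit 16)),
  ((nat_lit 26982), (nat_lit 16)),
  ((nat_lit 26990), (nat_lit 16)),
  ((nat_lit 27492), (nat_lit 16)),
  ((nat_lit 27494), (nat_lit 16)),
  ((nat_lit 27564), (nat_lit 16)),
  ((nat_lit 27566), (nat_lit 16)),
  ((nat_lit 27936), (nat_lit 0)),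
  ((nat_lit 27938), (nat_lit 0)),
  ((nat_lit 27940), (nat_lit 0)),
  ((nat_lit 27942), (nat_lit 0)),
  ((nat_lit 27944), (nat_lit 0)),
  ((nat_lit 27946), (nat_lit 0)),
  ((nat_lit 27948), (nat_lit 0)),
  ((nat_lit 27950), (nat_lit 0)),
  ((nat_lit 28000), (nat_lit 0)),
  ((nat_lit 28002), (nat_lit 0)),
  ((nat_lit 28004), (nat_lit 0)),
  ((nat_lit 28006), (nat_lit 0)),
  ((nat_lit 28008), (nat_lit 0)),
  ((nat_lit 28010), (nat_lit 0)),
  ((nat_lit 28012), (nat_lit 0)),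
  ((nat_lit 28014), (nat_lit 0)),
  ((nat_lit 28524), (nat_lit 16)),
  ((nat_lit 28525), (nat_lit 16)),
  ((nat_lit 30498), (nat_lit 16)),
  ((nat_lit 30562), (nat_lit 16)),
  ((nat_lit 32034), (nat_lit 16)),
  ((nat_lit 32035), (nat_lit 16)),
  ((nat_lit 32300), (nat_lit 16)),
  ((nat_lit 32364), (nat_lit 16)),
  ((nat_lit 32544), (nat_lit 0)),
  ((nat_lit 32546), (nat_lit 0)),
  ((nat_lit 32548), (nat_lit 0)),
  ((nat_lit 32550), (nat_lit 0)),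
  ((nat_lit 32552), (nat_lit 0)),
  ((nat_lit 32554), (nat_lit 0)),
  ((nat_lit 32556), (nat_lit 0)),
  ((nat_lit 32558), (nat_lit 0)),
  ((nat_lit 32608), (nat_lit 0)),
  ((nat_lit 32610), (nat_lit 0)),
  ((nat_lit 32612), (nat_lit 0)),
  ((nat_lit 32614), (nat_lit 0)),
  ((nat_lit 32616), (nat_lit 0)),
  ((nat_lit 32618), (nat_lit 0)),
  ((nat_lit 32620), (nat_lit 0)),
  ((nat_lit 32622), (nat_lit 0)),
  ((nat_lit 33280), (nat_lit 16)),
  ((nat_lit 33312), (nat_lit 16)),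
  ((nat_lit 33632), (nat_lit 16)),
  ((nat_lit 33634), (nat_lit 16)),
  ((nat_lit 33704), (nat_lit 16)),
  ((nat_lit 33706), (nat_lit 16)),
  ((nat_lit 33824), (nat_lit 16)),
  ((nat_lit 33888), (nat_lit 16)),
  ((nat_lit 34080), (nat_lit 0)),
  ((nat_lit 34082), (nat_lit 0)),
  ((nat_lit 34084), (nat_lit 0)),
  ((nat_lit 34086), (nat_lit 0)),
  ((nat_lit 34088), (nat_lit 0)),
  ((nat_lit 34090), (nat_lit 0)),
  ((nat_lit 34092), (nat_lit 0)),
  ((nat_lit 34094), (nat_lit 0)),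
  ((nat_lit 34144), (nat_lit 0)),
  ((nat_lit 34146), (nat_lit 0)),
  ((nat_lit 34148), (nat_lit 0)),
  ((nat_lit 34150), (nat_lit 0)),
  ((nat_lit 34152), (nat_lit 0)),
  ((nat_lit 34154), (nat_lit 0)),
  ((nat_lit 34156), (nat_lit 0)),
  ((nat_lit 34158), (nat_lit 0)),
  ((nat_lit 35872), (nat_lit 0)),
  ((nat_lit 35873), (nat_lit 0)),
  ((nat_lit 35876), (nat_lit 0)),
  ((nat_lit 35877), (nat_lit 0)),
  ((nat_lit 35880), (nat_lit 0)),
  ((nat_lit 35881), (nat_lit 0)),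
  ((nat_lit 35884), (nat_lit 0)),
  ((nat_lit 35885), (nat_lit 0)),
  ((nat_lit 35888), (nat_lit 0)),
  ((nat_lit 35889), (nat_lit 0)),
  ((nat_lit 35892), (nat_lit 0)),
  ((nat_lit 35893), (nat_lit 0)),
  ((nat_lit 35896), (nat_lit 0)),
  ((nat_lit 35897), (nat_lit 0)),
  ((nat_lit 35900), (nat_lit 0)),
  ((nat_lit 35901), (nat_lit 0)),
  ((nat_lit 36140), (nat_lit 16)),
  ((nat_lit 36204), (nat_lit 16)),
  ((nat_lit 36400), (nat_lit 16)),
  ((nat_lit 36401), (nat_lit 16)),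
  ((nat_lit 36932), (nat_lit 16)),
  ((nat_lit 36964), (nat_lit 16)),
  ((nat_lit 37728), (nat_lit 16)),
  ((nat_lit 37736), (nat_lit 16)),
  ((nat_lit 38688), (nat_lit 0)),
  ((nat_lit 38690), (nat_lit 0)),
  ((nat_lit 38692), (nat_lit 0)),
  ((nat_lit 38694), (nat_lit 0)),
  ((nat_lit 38696), (nat_lit 0)),
  ((nat_lit 38698), (nat_lit 0)),
  ((nat_lit 38700), (nat_lit 0)),
  ((nat_lit 38702), (nat_lit 0)),
  ((nat_lit 38752), (nat_lit 0)),
  ((nat_lit 38754), (nat_lit 0)),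
  ((nat_lit 38756), (nat_lit 0)),
  ((nat_lit 38758), (nat_lit 0)),
  ((nat_lit 38760), (nat_lit 0)),
  ((nat_lit 38762), (nat_lit 0)),
  ((nat_lit 38764), (nat_lit 0)),
  ((nat_lit 38766), (nat_lit 0)),
  ((nat_lit 39996), (nat_lit 16)),
  ((nat_lit 39997), (nat_lit 16)),
  ((nat_lit 41120), (nat_lit 16)),
  ((nat_lit 41128), (nat_lit 16)),
  ((nat_lit 42274), (nat_lit 16)),
  ((nat_lit 42338), (nat_lit 16)),
  ((nat_lit 42851), (nat_lit 16)),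
  ((nat_lit 42855), (nat_lit 16)),
  ((nat_lit 42914), (nat_lit 16)),
  ((nat_lit 42918), (nat_lit 16)),
  ((nat_lit 43040), (nat_lit 16)),
  ((nat_lit 43056), (nat_lit 16)),
  ((nat_lit 43240), (nat_lit 16)),
  ((nat_lit 43256), (nat_lit 16)),
  ((nat_lit 44088), (nat_lit 16)),
  ((nat_lit 44152), (nat_lit 16)),
  ((nat_lit 47440), (nat_lit 16)),
  ((nat_lit 47442), (nat_lit 16)),
  ((nat_lit 47608), (nat_lit 16)),
  ((nat_lit 47610), (nat_lit 16)),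
  ((nat_lit 47726), (nat_lit 16)),
  ((nat_lit 47742), (nat_lit 16)),
  ((nat_lit 47854), (nat_lit 16)),
  ((nat_lit 47870), (nat_lit 16)),
  ((nat_lit 48248), (nat_lit 16)),
  ((nat_lit 48252), (nat_lit 16)),
  ((nat_lit 48376), (nat_lit 16)),
  ((nat_lit 48380), (nat_lit 16)),
  ((nat_lit 49664), (nat_lit 0)),
  ((nat_lit 49668), (nat_lit 0)),
  ((nat_lit 49680), (nat_lit 0)),
  ((nat_lit 49684), (nat_lit 0)),
  ((nat_lit 49696), (nat_lit 0)),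
  ((nat_lit 49700), (nat_lit 0)),
  ((nat_lit 49712), (nat_lit 0)),
  ((nat_lit 49716), (nat_lit 0)),
  ((nat_lit 49728), (nat_lit 0)),
  ((nat_lit 49732), (nat_lit 0)),
  ((nat_lit 49744), (nat_lit 0)),
  ((nat_lit 49748), (nat_lit 0)),
  ((nat_lit 49760), (nat_lit 0)),
  ((nat_lit 49764), (nat_lit 0)),
  ((nat_lit 49776), (nat_lit 0)),
  ((nat_lit 49780), (nat_lit 0)),
  ((nat_lit 50502), (nat_lit 16)),
  ((nat_lit 50534), (nat_lit 16)),
  ((nat_lit 50800), (nat_lit 16)),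
  ((nat_lit 50808), (nat_lit 16)),
  ((nat_lit 55048), (nat_lit 16)),
  ((nat_lit 55080), (nat_lit 16)),
  ((nat_lit 57666), (nat_lit 16)),
  ((nat_lit 57667), (nat_lit 16)),
  ((nat_lit 59714), (nat_lit 16)),
  ((nat_lit 59718), (nat_lit 16)),
  ((nat_lit 59882), (nat_lit 16)),
  ((nat_lit 59886), (nat_lit 16)),
  ((nat_lit 62017), (nat_lit 16)),
  ((nat_lit 62021), (nat_lit 16)),
  ((nat_lit 62120), (nat_lit 16)),
  ((nat_lit 62124), (nat_lit 16)),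
  ((nat_lit 62208), (nat_lit 16)),
  ((nat_lit 62209), (nat_lit 16)),
  ((nat_lit 62850), (nat_lit 16)),
  ((nat_lit 62858), (nat_lit 16))]
noncomputable def LL2 : List (Nat × Nat) := [((nat_lit 0), (nat_lit 16)),
  ((nat_lit 1), (nat_lit 16)),
  ((nat_lit 320), (nat_lit 16)),
  ((nat_lit 324), (nat_lit 16)),
  ((nat_lit 392), (nat_lit 16)),
  ((nat_lit 396), (nat_lit 16)),
  ((nat_lit 3272), (nat_lit 16)),
  ((nat_lit 3304), (nat_lit 16)),
  ((nat_lit 4096), (nat_lit 32)),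
  ((nat_lit 4100), (nat_lit 0)),
  ((nat_lit 4112), (nat_lit 0)),
  ((nat_lit 4116), (nat_lit 32)),
  ((nat_lit 4128), (nat_lit 0)),
  ((nat_lit 4132), (nat_lit 32)),
  ((nat_lit 4144), (nat_lit 32)),
  ((nat_lit 4148), (nat_lit 0)),
  ((nat_lit 4160), (nat_lit 0)),
  ((nat_lit 4164), (nat_lit 32)),
  ((nat_lit 4176), (nat_lit 32)),
  ((nat_lit 4180), (nat_lit 0)),
  ((nat_lit 4192), (nat_lit 32)),
  ((nat_lit 4196), (nat_lit 0)),
  ((nat_lit 4208), (nat_lit 0)),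
  ((nat_lit 4212), (nat_lit 32)),
  ((nat_lit 4676), (nat_lit 16)),
  ((nat_lit 4677), (nat_lit 16)),
  ((nat_lit 5188), (nat_lit 16)),
  ((nat_lit 5196), (nat_lit 16)),
  ((nat_lit 5700), (nat_lit 16)),
  ((nat_lit 5702), (nat_lit 16)),
  ((nat_lit 5796), (nat_lit 16)),
  ((nat_lit 5798), (nat_lit 16)),
  ((nat_lit 6721), (nat_lit 16)),
  ((nat_lit 6725), (nat_lit 16)),
  ((nat_lit 6856), (nat_lit 16)),
  ((nat_lit 6860), (nat_lit 16)),
  ((nat_lit 7876), (nat_lit 16)),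
  ((nat_lit 7908), (nat_lit 16)),
  ((nat_lit 10130), (nat_lit 16)),
  ((nat_lit 10138), (nat_lit 16)),
  ((nat_lit 10752), (nat_lit 0)),
  ((nat_lit 10754), (nat_lit 0)),
  ((nat_lit 10760), (nat_lit 0)),
  ((nat_lit 10762), (nat_lit 0)),
  ((nat_lit 10768), (nat_lit 0)),
  ((nat_lit 10770), (nat_lit 0)),
  ((nat_lit 10776), (nat_lit 0)),
  ((nat_lit 10778), (nat_lit 0)),
  ((nat_lit 10784), (nat_lit 0)),
  ((nat_lit 10786), (nat_lit 0)),
  ((nat_lit 10792), (nat_lit 0)),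
  ((nat_lit 10794), (nat_lit 0)),
  ((nat_lit 10800), (nat_lit 0)),
  ((nat_lit 10802), (nat_lit 0)),
  ((nat_lit 10808), (nat_lit 0)),
  ((nat_lit 10810), (nat_lit 0)),
  ((nat_lit 10888), (nat_lit 0)),
  ((nat_lit 10889), (nat_lit 0)),
  ((nat_lit 10890), (nat_lit 0)),
  ((nat_lit 10891), (nat_lit 0)),
  ((nat_lit 10904), (nat_lit 0)),
  ((nat_lit 10905), (nat_lit 0)),
  ((nat_lit 10906), (nat_lit 0)),
  ((nat_lit 10907), (nat_lit 0)),
  ((nat_lit 10952), (nat_lit 0)),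
  ((nat_lit 10953), (nat_lit 0)),
  ((nat_lit 10954), (nat_lit 0)),
  ((nat_lit 10955), (nat_lit 0)),
  ((nat_lit 10968), (nat_lit 0)),
  ((nat_lit 10969), (nat_lit 0)),
  ((nat_lit 10970), (nat_lit 0)),
  ((nat_lit 10971), (nat_lit 0)),
  ((nat_lit 11272), (nat_lit 16)),
  ((nat_lit 11274), (nat_lit 16)),
  ((nat_lit 11400), (nat_lit 16)),
  ((nat_lit 11402), (nat_lit 16)),
  ((nat_lit 16740), (nat_lit 16)),
  ((nat_lit 16748), (nat_lit 16)),
  ((nat_lit 19420), (nat_lit 16)),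
  ((nat_lit 19452), (nat_lit 16)),
  ((nat_lit 20313), (nat_lit 16)),
  ((nat_lit 20317), (nat_lit 16)),
  ((nat_lit 20472), (nat_lit 16)),
  ((nat_lit 20476), (nat_lit 16)),
  ((nat_lit 21568), (nat_lit 16)),
  ((nat_lit 21572), (nat_lit 16)),
  ((nat_lit 21664), (nat_lit 16)),
  ((nat_lit 21668), (nat_lit 16)),
  ((nat_lit 22020), (nat_lit 16)),
  ((nat_lit 22084), (nat_lit 16)),
  ((nat_lit 23002), (nat_lit 16)),
  ((nat_lit 23034), (nat_lit 16)),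
  ((nat_lit 24344), (nat_lit 16)),
  ((nat_lit 24408), (nat_lit 16)),
  ((nat_lit 26666), (nat_lit 16)),
  ((nat_lit 26682), (nat_lit 16)),
  ((nat_lit 26826), (nat_lit 16)),
  ((nat_lit 26842), (nat_lit 16)),
  ((nat_lit 28440), (nat_lit 16)),
  ((nat_lit 28441), (nat_lit 16)),
  ((nat_lit 29312), (nat_lit 16)),
  ((nat_lit 29320), (nat_lit 16)),
  ((nat_lit 30498), (nat_lit 16)),
  ((nat_lit 30562), (nat_lit 16)),
  ((nat_lit 31264), (nat_lit 16)),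
  ((nat_lit 31280), (nat_lit 16)),
  ((nat_lit 31368), (nat_lit 16)),
  ((nat_lit 31384), (nat_lit 16)),
  ((nat_lit 32018), (nat_lit 16)),
  ((nat_lit 32019), (nat_lit 16)),
  ((nat_lit 32296), (nat_lit 16)),
  ((nat_lit 32360), (nat_lit 16)),
  ((nat_lit 32512), (nat_lit 32)),
  ((nat_lit 32514), (nat_lit 0)),
  ((nat_lit 32520), (nat_lit 0)),
  ((nat_lit 32522), (nat_lit 32)),
  ((nat_lit 32528), (nat_lit 0)),
  ((nat_lit 32530), (nat_lit 32)),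
  ((nat_lit 32536), (nat_lit 32)),
  ((nat_lit 32538), (nat_lit 0)),
  ((nat_lit 32544), (nat_lit 0)),
  ((nat_lit 32546), (nat_lit 32)),
  ((nat_lit 32552), (nat_lit 32)),
  ((nat_lit 32554), (nat_lit 0)),
  ((nat_lit 32560), (nat_lit 32)),
  ((nat_lit 32562), (nat_lit 0)),
  ((nat_lit 32568), (nat_lit 0)),
  ((nat_lit 32570), (nat_lit 32)),
  ((nat_lit 32800), (nat_lit 16)),
  ((nat_lit 32816), (nat_lit 16)),
  ((nat_lit 32960), (nat_lit 16)),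
  ((nat_lit 32976), (nat_lit 16)),
  ((nat_lit 33824), (nat_lit 16)),
  ((nat_lit 33888), (nat_lit 16)),
  ((nat_lit 34944), (nat_lit 16)),
  ((nat_lit 34952), (nat_lit 16)),
  ((nat_lit 35722), (nat_lit 16)),
  ((nat_lit 35754), (nat_lit 16)),
  ((nat_lit 35840), (nat_lit 0)),
  ((nat_lit 35841), (nat_lit 0)),
  ((nat_lit 35848), (nat_lit 0)),
  ((nat_lit 35849), (nat_lit 0)),
  ((nat_lit 35872), (nat_lit 0)),
  ((nat_lit 35873), (nat_lit 0)),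
  ((nat_lit 35880), (nat_lit 0)),
  ((nat_lit 35881), (nat_lit 0)),
  ((nat_lit 35904), (nat_lit 0)),
  ((nat_lit 35905), (nat_lit 0)),
  ((nat_lit 35912), (nat_lit 0)),
  ((nat_lit 35913), (nat_lit 0)),
  ((nat_lit 35936), (nat_lit 0)),
  ((nat_lit 35937), (nat_lit 0)),
  ((nat_lit 35944), (nat_lit 0)),
  ((nat_lit 35945), (nat_lit 0)),
  ((nat_lit 35968), (nat_lit 0)),
  ((nat_lit 35969), (nat_lit 0)),
  ((nat_lit 35976), (nat_lit 0)),
  ((nat_lit 35977), (nat_lit 0)),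
  ((nat_lit 36000), (nat_lit 0)),
  ((nat_lit 36001), (nat_lit 0)),
  ((nat_lit 36008), (nat_lit 0)),
  ((nat_lit 36009), (nat_lit 0)),
  ((nat_lit 36032), (nat_lit 0)),
  ((nat_lit 36033), (nat_lit 0)),
  ((nat_lit 36040), (nat_lit 0)),
  ((nat_lit 36041), (nat_lit 0)),
  ((nat_lit 36064), (nat_lit 0)),
  ((nat_lit 36065), (nat_lit 0)),
  ((nat_lit 36072), (nat_lit 0)),
  ((nat_lit 36073), (nat_lit 0)),
  ((nat_lit 36136), (nat_lit 16)),
  ((nat_lit 36200), (nat_lit 16)),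
  ((nat_lit 36352), (nat_lit 16)),
  ((nat_lit 36353), (nat_lit 16)),
  ((nat_lit 37476), (nat_lit 16)),
  ((nat_lit 37492), (nat_lit 16)),
  ((nat_lit 37580), (nat_lit 16)),
  ((nat_lit 37596), (nat_lit 16)),
  ((nat_lit 39368), (nat_lit 16)),
  ((nat_lit 39400), (nat_lit 16)),
  ((nat_lit 40008), (nat_lit 16)),
  ((nat_lit 40009), (nat_lit 16)),
  ((nat_lit 42262), (nat_lit 16)),
  ((nat_lit 42326), (nat_lit 16)),
  ((nat_lit 42771), (nat_lit 16)),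
  ((nat_lit 42775), (nat_lit 16)),
  ((nat_lit 42930), (nat_lit 16)),
  ((nat_lit 42934), (nat_lit 16)),
  ((nat_lit 44040), (nat_lit 16)),
  ((nat_lit 44104), (nat_lit 16)),
  ((nat_lit 47970), (nat_lit 16)),
  ((nat_lit 47978), (nat_lit 16)),
  ((nat_lit 48200), (nat_lit 16)),
  ((nat_lit 48204), (nat_lit 16)),
  ((nat_lit 48296), (nat_lit 16)),
  ((nat_lit 48300), (nat_lit 16)),
  ((nat_lit 49664), (nat_lit 0)),
  ((nat_lit 49668), (nat_lit 0)),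
  ((nat_lit 49680), (nat_lit 0)),
  ((nat_lit 49684), (nat_lit 0)),
  ((nat_lit 49696), (nat_lit 0)),
  ((nat_lit 49700), (nat_lit 0)),
  ((nat_lit 49712), (nat_lit 0)),
  ((nat_lit 49716), (nat_lit 0)),
  ((nat_lit 49728), (nat_lit 0)),
  ((nat_lit 49732), (nat_lit 0)),
  ((nat_lit 49744), (nat_lit 0)),
  ((nat_lit 49748), (nat_lit 0)),
  ((nat_lit 49760), (nat_lit 0)),
  ((nat_lit 49764), (nat_lit 0)),
  ((nat_lit 49776), (nat_lit 0)),
  ((nat_lit 49780), (nat_lit 0)),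
  ((nat_lit 49856), (nat_lit 0)),
  ((nat_lit 49857), (nat_lit 0)),
  ((nat_lit 49860), (nat_lit 0)),
  ((nat_lit 49861), (nat_lit 0)),
  ((nat_lit 49864), (nat_lit 0)),
  ((nat_lit 49865), (nat_lit 0)),
  ((nat_lit 49868), (nat_lit 0)),
  ((nat_lit 49869), (nat_lit 0)),
  ((nat_lit 49872), (nat_lit 0)),
  ((nat_lit 49873), (nat_lit 0)),
  ((nat_lit 49876), (nat_lit 0)),
  ((nat_lit 49877), (nat_lit 0)),
  ((nat_lit 49880), (nat_lit 0)),
  ((nat_lit 49881), (nat_lit 0)),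
  ((nat_lit 49884), (nat_lit 0)),
  ((nat_lit 49885), (nat_lit 0)),
  ((nat_lit 50240), (nat_lit 16)),
  ((nat_lit 50242), (nat_lit 16)),
  ((nat_lit 50368), (nat_lit 16)),
  ((nat_lit 50370), (nat_lit 16)),
  ((nat_lit 52416), (nat_lit 16)),
  ((nat_lit 52448), (nat_lit 16)),
  ((nat_lit 55688), (nat_lit 0)),
  ((nat_lit 55689), (nat_lit 32)),
  ((nat_lit 55690), (nat_lit 32)),
  ((nat_lit 55691), (nat_lit 0)),
  ((nat_lit 55704), (nat_lit 32)),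
  ((nat_lit 55705), (nat_lit 0)),
  ((nat_lit 55706), (nat_lit 0)),
  ((nat_lit 55707), (nat_lit 32)),
  ((nat_lit 55752), (nat_lit 32)),
  ((nat_lit 55753), (nat_lit 0)),
  ((nat_lit 55754), (nat_lit 0)),
  ((nat_lit 55755), (nat_lit 32)),
  ((nat_lit 55768), (nat_lit 0)),
  ((nat_lit 55769), (nat_lit 32)),
  ((nat_lit 55770), (nat_lit 32)),
  ((nat_lit 55771), (nat_lit 0)),
  ((nat_lit 56720), (nat_lit 16)),
  ((nat_lit 56728), (nat_lit 16)),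
  ((nat_lit 56968), (nat_lit 16)),
  ((nat_lit 57000), (nat_lit 16)),
  ((nat_lit 57606), (nat_lit 16)),
  ((nat_lit 57607), (nat_lit 16)),
  ((nat_lit 59714), (nat_lit 16)),
  ((nat_lit 59718), (nat_lit 16)),
  ((nat_lit 59786), (nat_lit 16)),
  ((nat_lit 59790), (nat_lit 16)),
  ((nat_lit 60992), (nat_lit 16)),
  ((nat_lit 61000), (nat_lit 16)),
  ((nat_lit 61953), (nat_lit 16)),
  ((nat_lit 61957), (nat_lit 16)),
  ((nat_lit 62088), (nat_lit 16)),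
  ((nat_lit 62092), (nat_lit 16)),
  ((nat_lit 62208), (nat_lit 16)),
  ((nat_lit 62209), (nat_lit 16)),
  ((nat_lit 65096), (nat_lit 16)),
  ((nat_lit 65098), (nat_lit 16)),
  ((nat_lit 65192), (nat_lit 16)),
  ((nat_lit 65194), (nat_lit 16))]
noncomputable def LL3 : List (Nat × Nat) := [((nat_lit 0), (nat_lit 0)),
  ((nat_lit 4), (nat_lit 0)),
  ((nat_lit 16), (nat_lit 0)),
  ((nat_lit 20), (nat_lit 0)),
  ((nat_lit 32), (nat_lit 0)),
  ((nat_lit 36), (nat_lit 0)),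
  ((nat_lit 48), (nat_lit 0)),
  ((nat_lit 52), (nat_lit 0)),
  ((nat_lit 64), (nat_lit 0)),
  ((nat_lit 68), (nat_lit 0)),
  ((nat_lit 80), (nat_lit 0)),
  ((nat_lit 84), (nat_lit 0)),
  ((nat_lit 96), (nat_lit 0)),
  ((nat_lit 100), (nat_lit 0)),
  ((nat_lit 112), (nat_lit 0)),
  ((nat_lit 116), (nat_lit 0)),
  ((nat_lit 260), (nat_lit 16)),
  ((nat_lit 324), (nat_lit 16)),
  ((nat_lit 560), (nat_lit 16)),
  ((nat_lit 561), (nat_lit 16)),
  ((nat_lit 2048), (nat_lit 16)),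
  ((nat_lit 2112), (nat_lit 16)),
  ((nat_lit 3776), (nat_lit 16)),
  ((nat_lit 3808), (nat_lit 16)),
  ((nat_lit 4212), (nat_lit 16)),
  ((nat_lit 4213), (nat_lit 16)),
  ((nat_lit 7112), (nat_lit 0)),
  ((nat_lit 7113), (nat_lit 0)),
  ((nat_lit 7114), (nat_lit 0)),
  ((nat_lit 7115), (nat_lit 0)),
  ((nat_lit 7116), (nat_lit 0)),
  ((nat_lit 7117), (nat_lit 0)),
  ((nat_lit 7118), (nat_lit 0)),
  ((nat_lit 7119), (nat_lit 0)),
  ((nat_lit 7144), (nat_lit 0)),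
  ((nat_lit 7145), (nat_lit 0)),
  ((nat_lit 7146), (nat_lit 0)),
  ((nat_lit 7147), (nat_lit 0)),
  ((nat_lit 7148), (nat_lit 0)),
  ((nat_lit 7149), (nat_lit 0)),
  ((nat_lit 7150), (nat_lit 0)),
  ((nat_lit 7151), (nat_lit 0)),
  ((nat_lit 7372), (nat_lit 16)),
  ((nat_lit 7404), (nat_lit 16)),
  ((nat_lit 8160), (nat_lit 16)),
  ((nat_lit 8168), (nat_lit 16)),
  ((nat_lit 8240), (nat_lit 16)),
  ((nat_lit 8304), (nat_lit 16)),
  ((nat_lit 10240), (nat_lit 0)),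
  ((nat_lit 10242), (nat_lit 0)),
  ((nat_lit 10248), (nat_lit 0)),
  ((nat_lit 10250), (nat_lit 0)),
  ((nat_lit 10256), (nat_lit 0)),
  ((nat_lit 10258), (nat_lit 0)),
  ((nat_lit 10264), (nat_lit 0)),
  ((nat_lit 10266), (nat_lit 0)),
  ((nat_lit 10272), (nat_lit 0)),
  ((nat_lit 10274), (nat_lit 0)),
  ((nat_lit 10280), (nat_lit 0)),
  ((nat_lit 10282), (nat_lit 0)),
  ((nat_lit 10288), (nat_lit 0)),
  ((nat_lit 10290), (nat_lit 0)),
  ((nat_lit 10296), (nat_lit 0)),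
  ((nat_lit 10298), (nat_lit 0)),
  ((nat_lit 10530), (nat_lit 16)),
  ((nat_lit 10594), (nat_lit 16)),
  ((nat_lit 11042), (nat_lit 16)),
  ((nat_lit 11046), (nat_lit 16)),
  ((nat_lit 11146), (nat_lit 16)),
  ((nat_lit 11150), (nat_lit 16)),
  ((nat_lit 11264), (nat_lit 16)),
  ((nat_lit 11272), (nat_lit 16)),
  ((nat_lit 12401), (nat_lit 16)),
  ((nat_lit 12405), (nat_lit 16)),
  ((nat_lit 12440), (nat_lit 16)),
  ((nat_lit 12444), (nat_lit 16)),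
  ((nat_lit 16740), (nat_lit 16)),
  ((nat_lit 16742), (nat_lit 16)),
  ((nat_lit 16812), (nat_lit 16)),
  ((nat_lit 16814), (nat_lit 16)),
  ((nat_lit 18894), (nat_lit 16)),
  ((nat_lit 18926), (nat_lit 16)),
  ((nat_lit 19184), (nat_lit 16)),
  ((nat_lit 19192), (nat_lit 16)),
  ((nat_lit 20192), (nat_lit 0)),
  ((nat_lit 20193), (nat_lit 0)),
  ((nat_lit 20196), (nat_lit 0)),
  ((nat_lit 20197), (nat_lit 0)),
  ((nat_lit 20200), (nat_lit 0)),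
  ((nat_lit 20201), (nat_lit 0)),
  ((nat_lit 20204), (nat_lit 0)),
  ((nat_lit 20205), (nat_lit 0)),
  ((nat_lit 20208), (nat_lit 0)),
  ((nat_lit 20209), (nat_lit 0)),
  ((nat_lit 20212), (nat_lit 0)),
  ((nat_lit 20213), (nat_lit 0)),
  ((nat_lit 20216), (nat_lit 0)),
  ((nat_lit 20217), (nat_lit 0)),
  ((nat_lit 20220), (nat_lit 0)),
  ((nat_lit 20221), (nat_lit 0)),
  ((nat_lit 23496), (nat_lit 16)),
  ((nat_lit 23528), (nat_lit 16)),
  ((nat_lit 25955), (nat_lit 16)),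
  ((nat_lit 25959), (nat_lit 16)),
  ((nat_lit 26018), (nat_lit 16)),
  ((nat_lit 26022), (nat_lit 16)),
  ((nat_lit 27168), (nat_lit 16)),
  ((nat_lit 27184), (nat_lit 16)),
  ((nat_lit 27368), (nat_lit 16)),
  ((nat_lit 27384), (nat_lit 16)),
  ((nat_lit 27938), (nat_lit 16)),
  ((nat_lit 27939), (nat_lit 16)),
  ((nat_lit 30762), (nat_lit 16)),
  ((nat_lit 30778), (nat_lit 16)),
  ((nat_lit 30890), (nat_lit 16)),
  ((nat_lit 30906), (nat_lit 16)),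
  ((nat_lit 31010), (nat_lit 16)),
  ((nat_lit 31018), (nat_lit 16)),
  ((nat_lit 31520), (nat_lit 16)),
  ((nat_lit 31522), (nat_lit 16)),
  ((nat_lit 31624), (nat_lit 16)),
  ((nat_lit 31626), (nat_lit 16)),
  ((nat_lit 32000), (nat_lit 0)),
  ((nat_lit 32002), (nat_lit 0)),
  ((nat_lit 32008), (nat_lit 0)),
  ((nat_lit 32010), (nat_lit 0)),
  ((nat_lit 32016), (nat_lit 0)),
  ((nat_lit 32018), (nat_lit 0)),
  ((nat_lit 32024), (nat_lit 0)),
  ((nat_lit 32026), (nat_lit 0)),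
  ((nat_lit 32032), (nat_lit 0)),
  ((nat_lit 32034), (nat_lit 0)),
  ((nat_lit 32040), (nat_lit 0)),
  ((nat_lit 32042), (nat_lit 0)),
  ((nat_lit 32048), (nat_lit 0)),
  ((nat_lit 32050), (nat_lit 0)),
  ((nat_lit 32056), (nat_lit 0)),
  ((nat_lit 32058), (nat_lit 0)),
  ((nat_lit 32296), (nat_lit 16)),
  ((nat_lit 32300), (nat_lit 16)),
  ((nat_lit 32424), (nat_lit 16)),
  ((nat_lit 32428), (nat_lit 16)),
  ((nat_lit 32552), (nat_lit 16)),
  ((nat_lit 32553), (nat_lit 16)),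
  ((nat_lit 33312), (nat_lit 16)),
  ((nat_lit 33328), (nat_lit 16)),
  ((nat_lit 33512), (nat_lit 16)),
  ((nat_lit 33528), (nat_lit 16)),
  ((nat_lit 33632), (nat_lit 16)),
  ((nat_lit 33640), (nat_lit 16)),
  ((nat_lit 35208), (nat_lit 16)),
  ((nat_lit 35240), (nat_lit 16)),
  ((nat_lit 35880), (nat_lit 16)),
  ((nat_lit 35881), (nat_lit 16)),
  ((nat_lit 36201), (nat_lit 16)),
  ((nat_lit 36205), (nat_lit 16)),
  ((nat_lit 36264), (nat_lit 16)),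
  ((nat_lit 36268), (nat_lit 16)),
  ((nat_lit 36964), (nat_lit 16)),
  ((nat_lit 36980), (nat_lit 16)),
  ((nat_lit 37092), (nat_lit 16)),
  ((nat_lit 37108), (nat_lit 16)),
  ((nat_lit 37728), (nat_lit 16)),
  ((nat_lit 37730), (nat_lit 16)),
  ((nat_lit 37832), (nat_lit 16)),
  ((nat_lit 37834), (nat_lit 16)),
  ((nat_lit 38496), (nat_lit 16)),
  ((nat_lit 38500), (nat_lit 16)),
  ((nat_lit 38624), (nat_lit 16)),
  ((nat_lit 38628), (nat_lit 16)),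
  ((nat_lit 39882), (nat_lit 16)),
  ((nat_lit 39914), (nat_lit 16)),
  ((nat_lit 40544), (nat_lit 16)),
  ((nat_lit 40545), (nat_lit 16)),
  ((nat_lit 43360), (nat_lit 16)),
  ((nat_lit 43362), (nat_lit 16)),
  ((nat_lit 43432), (nat_lit 16)),
  ((nat_lit 43434), (nat_lit 16)),
  ((nat_lit 45236), (nat_lit 16)),
  ((nat_lit 45244), (nat_lit 16)),
  ((nat_lit 50016), (nat_lit 16)),
  ((nat_lit 50020), (nat_lit 16)),
  ((nat_lit 50120), (nat_lit 16)),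
  ((nat_lit 50124), (nat_lit 16)),
  ((nat_lit 52952), (nat_lit 16)),
  ((nat_lit 52984), (nat_lit 16)),
  ((nat_lit 53760), (nat_lit 0)),
  ((nat_lit 53764), (nat_lit 0)),
  ((nat_lit 53776), (nat_lit 0)),
  ((nat_lit 53780), (nat_lit 0)),
  ((nat_lit 53792), (nat_lit 0)),
  ((nat_lit 53796), (nat_lit 0)),
  ((nat_lit 53808), (nat_lit 0)),
  ((nat_lit 53812), (nat_lit 0)),
  ((nat_lit 53824), (nat_lit 0)),
  ((nat_lit 53828), (nat_lit 0)),
  ((nat_lit 53840), (nat_lit 0)),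
  ((nat_lit 53844), (nat_lit 0)),
  ((nat_lit 53856), (nat_lit 0)),
  ((nat_lit 53860), (nat_lit 0)),
  ((nat_lit 53872), (nat_lit 0)),
  ((nat_lit 53876), (nat_lit 0)),
  ((nat_lit 54048), (nat_lit 16)),
  ((nat_lit 54112), (nat_lit 16)),
  ((nat_lit 54848), (nat_lit 16)),
  ((nat_lit 54856), (nat_lit 16)),
  ((nat_lit 55409), (nat_lit 16)),
  ((nat_lit 55413), (nat_lit 16)),
  ((nat_lit 55448), (nat_lit 16)),
  ((nat_lit 55452), (nat_lit 16)),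
  ((nat_lit 55856), (nat_lit 16)),
  ((nat_lit 55920), (nat_lit 16)),
  ((nat_lit 56464), (nat_lit 16)),
  ((nat_lit 56496), (nat_lit 16)),
  ((nat_lit 58148), (nat_lit 16)),
  ((nat_lit 58149), (nat_lit 16)),
  ((nat_lit 58790), (nat_lit 16)),
  ((nat_lit 58798), (nat_lit 16)),
  ((nat_lit 61730), (nat_lit 16)),
  ((nat_lit 61731), (nat_lit 16)),
  ((nat_lit 61956), (nat_lit 16)),
  ((nat_lit 62020), (nat_lit 16)),
  ((nat_lit 62208), (nat_lit 0)),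
  ((nat_lit 62209), (nat_lit 0)),
  ((nat_lit 62210), (nat_lit 0)),
  ((nat_lit 62211), (nat_lit 0)),
  ((nat_lit 62212), (nat_lit 0)),
  ((nat_lit 62213), (nat_lit 0)),
  ((nat_lit 62214), (nat_lit 0)),
  ((nat_lit 62215), (nat_lit 0)),
  ((nat_lit 62240), (nat_lit 0)),
  ((nat_lit 62241), (nat_lit 0)),
  ((nat_lit 62242), (nat_lit 0)),
  ((nat_lit 62243), (nat_lit 0)),
  ((nat_lit 62244), (nat_lit 0)),
  ((nat_lit 62245), (nat_lit 0)),
  ((nat_lit 62246), (nat_lit 0)),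
  ((nat_lit 62247), (nat_lit 0)),
  ((nat_lit 64258), (nat_lit 16)),
  ((nat_lit 64322), (nat_lit 16))]
noncomputable def LL4 : List (Nat × Nat) := [((nat_lit 0), (nat_lit 16)),
  ((nat_lit 32), (nat_lit 16)),
  ((nat_lit 1312), (nat_lit 16)),
  ((nat_lit 1313), (nat_lit 16)),
  ((nat_lit 1792), (nat_lit 0)),
  ((nat_lit 1793), (nat_lit 0)),
  ((nat_lit 1794), (nat_lit 0)),
  ((nat_lit 1795), (nat_lit 0)),
  ((nat_lit 1796), (nat_lit 0)),
  ((nat_lit 1797), (nat_lit 0)),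
  ((nat_lit 1798), (nat_lit 0)),
  ((nat_lit 1799), (nat_lit 0)),
  ((nat_lit 1824), (nat_lit 0)),
  ((nat_lit 1825), (nat_lit 0)),
  ((nat_lit 1826), (nat_lit 0)),
  ((nat_lit 1827), (nat_lit 0)),
  ((nat_lit 1828), (nat_lit 0)),
  ((nat_lit 1829), (nat_lit 0)),
  ((nat_lit 1830), (nat_lit 0)),
  ((nat_lit 1831), (nat_lit 0)),
  ((nat_lit 4512), (nat_lit 16)),
  ((nat_lit 4520), (nat_lit 16)),
  ((nat_lit 4618), (nat_lit 16)),
  ((nat_lit 4650), (nat_lit 16)),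
  ((nat_lit 5256), (nat_lit 16)),
  ((nat_lit 5320), (nat_lit 16)),
  ((nat_lit 5376), (nat_lit 0)),
  ((nat_lit 5377), (nat_lit 0)),
  ((nat_lit 5384), (nat_lit 0)),
  ((nat_lit 5385), (nat_lit 0)),
  ((nat_lit 5408), (nat_lit 0)),
  ((nat_lit 5409), (nat_lit 0)),
  ((nat_lit 5416), (nat_lit 0)),
  ((nat_lit 5417), (nat_lit 0)),
  ((nat_lit 5440), (nat_lit 0)),
  ((nat_lit 5441), (nat_lit 0)),
  ((nat_lit 5448), (nat_lit 0)),
  ((nat_lit 5449), (nat_lit 0)),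
  ((nat_lit 5472), (nat_lit 0)),
  ((nat_lit 5473), (nat_lit 0)),
  ((nat_lit 5480), (nat_lit 0)),
  ((nat_lit 5481), (nat_lit 0)),
  ((nat_lit 5504), (nat_lit 0)),
  ((nat_lit 5505), (nat_lit 0)),
  ((nat_lit 5512), (nat_lit 0)),
  ((nat_lit 5513), (nat_lit 0)),
  ((nat_lit 5536), (nat_lit 0)),
  ((nat_lit 5537), (nat_lit 0)),
  ((nat_lit 5544), (nat_lit 0)),
  ((nat_lit 5545), (nat_lit 0)),
  ((nat_lit 5568), (nat_lit 0)),
  ((nat_lit 5569), (nat_lit 0)),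
  ((nat_lit 5576), (nat_lit 0)),
  ((nat_lit 5577), (nat_lit 0)),
  ((nat_lit 5600), (nat_lit 0)),
  ((nat_lit 5601), (nat_lit 0)),
  ((nat_lit 5608), (nat_lit 0)),
  ((nat_lit 5609), (nat_lit 0)),
  ((nat_lit 5920), (nat_lit 16)),
  ((nat_lit 5921), (nat_lit 16)),
  ((nat_lit 7561), (nat_lit 16)),
  ((nat_lit 7625), (nat_lit 16)),
  ((nat_lit 8771), (nat_lit 16)),
  ((nat_lit 8779), (nat_lit 16)),
  ((nat_lit 13737), (nat_lit 16)),
  ((nat_lit 13801), (nat_lit 16)),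
  ((nat_lit 15550), (nat_lit 16)),
  ((nat_lit 15614), (nat_lit 16)),
  ((nat_lit 17552), (nat_lit 16)),
  ((nat_lit 17560), (nat_lit 16)),
  ((nat_lit 17665), (nat_lit 16)),
  ((nat_lit 17681), (nat_lit 16)),
  ((nat_lit 17856), (nat_lit 16)),
  ((nat_lit 17872), (nat_lit 16)),
  ((nat_lit 18176), (nat_lit 16)),
  ((nat_lit 18208), (nat_lit 16)),
  ((nat_lit 21760), (nat_lit 16)),
  ((nat_lit 21792), (nat_lit 16)),
  ((nat_lit 22273), (nat_lit 16)),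
  ((nat_lit 22289), (nat_lit 16)),
  ((nat_lit 22408), (nat_lit 16)),
  ((nat_lit 22424), (nat_lit 16)),
  ((nat_lit 23904), (nat_lit 16)),
  ((nat_lit 23906), (nat_lit 16)),
  ((nat_lit 23945), (nat_lit 16)),
  ((nat_lit 23947), (nat_lit 16)),
  ((nat_lit 26432), (nat_lit 16)),
  ((nat_lit 26434), (nat_lit 16)),
  ((nat_lit 26569), (nat_lit 16)),
  ((nat_lit 26571), (nat_lit 16)),
  ((nat_lit 27200), (nat_lit 16)),
  ((nat_lit 27201), (nat_lit 16)),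
  ((nat_lit 30529), (nat_lit 16)),
  ((nat_lit 30537), (nat_lit 16)),
  ((nat_lit 30734), (nat_lit 16)),
  ((nat_lit 30735), (nat_lit 16)),
  ((nat_lit 34564), (nat_lit 16)),
  ((nat_lit 34596), (nat_lit 16)),
  ((nat_lit 35072), (nat_lit 0)),
  ((nat_lit 35073), (nat_lit 0)),
  ((nat_lit 35076), (nat_lit 0)),
  ((nat_lit 35077), (nat_lit 0)),
  ((nat_lit 35080), (nat_lit 0)),
  ((nat_lit 35081), (nat_lit 0)),
  ((nat_lit 35084), (nat_lit 0)),
  ((nat_lit 35085), (nat_lit 0)),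
  ((nat_lit 35088), (nat_lit 0)),
  ((nat_lit 35089), (nat_lit 0)),
  ((nat_lit 35092), (nat_lit 0)),
  ((nat_lit 35093), (nat_lit 0)),
  ((nat_lit 35096), (nat_lit 0)),
  ((nat_lit 35097), (nat_lit 0)),
  ((nat_lit 35100), (nat_lit 0)),
  ((nat_lit 35101), (nat_lit 0)),
  ((nat_lit 35596), (nat_lit 16)),
  ((nat_lit 35597), (nat_lit 16)),
  ((nat_lit 36101), (nat_lit 16)),
  ((nat_lit 36109), (nat_lit 16)),
  ((nat_lit 36612), (nat_lit 16)),
  ((nat_lit 36614), (nat_lit 16)),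
  ((nat_lit 36749), (nat_lit 16)),
  ((nat_lit 36751), (nat_lit 16)),
  ((nat_lit 38208), (nat_lit 16)),
  ((nat_lit 38240), (nat_lit 16)),
  ((nat_lit 39168), (nat_lit 16)),
  ((nat_lit 39169), (nat_lit 16)),
  ((nat_lit 44301), (nat_lit 16)),
  ((nat_lit 44317), (nat_lit 16)),
  ((nat_lit 44492), (nat_lit 16)),
  ((nat_lit 44508), (nat_lit 16)),
  ((nat_lit 46432), (nat_lit 16)),
  ((nat_lit 46434), (nat_lit 16)),
  ((nat_lit 46473), (nat_lit 16)),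
  ((nat_lit 46475), (nat_lit 16)),
  ((nat_lit 48850), (nat_lit 16)),
  ((nat_lit 48858), (nat_lit 16)),
  ((nat_lit 48963), (nat_lit 16)),
  ((nat_lit 48979), (nat_lit 16)),
  ((nat_lit 49098), (nat_lit 16)),
  ((nat_lit 49114), (nat_lit 16)),
  ((nat_lit 49242), (nat_lit 16)),
  ((nat_lit 49274), (nat_lit 16)),
  ((nat_lit 50872), (nat_lit 16)),
  ((nat_lit 50936), (nat_lit 16)),
  ((nat_lit 53165), (nat_lit 16)),
  ((nat_lit 53229), (nat_lit 16)),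
  ((nat_lit 53780), (nat_lit 16)),
  ((nat_lit 53812), (nat_lit 16)),
  ((nat_lit 55301), (nat_lit 16)),
  ((nat_lit 55309), (nat_lit 16)),
  ((nat_lit 58482), (nat_lit 16)),
  ((nat_lit 58483), (nat_lit 16)),
  ((nat_lit 59273), (nat_lit 16)),
  ((nat_lit 59337), (nat_lit 16)),
  ((nat_lit 60384), (nat_lit 16)),
  ((nat_lit 60392), (nat_lit 16)),
  ((nat_lit 61066), (nat_lit 16)),
  ((nat_lit 61130), (nat_lit 16)),
  ((nat_lit 61384), (nat_lit 0)),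
  ((nat_lit 61385), (nat_lit 32)),
  ((nat_lit 61386), (nat_lit 32)),
  ((nat_lit 61387), (nat_lit 0)),
  ((nat_lit 61388), (nat_lit 32)),
  ((nat_lit 61389), (nat_lit 0)),
  ((nat_lit 61390), (nat_lit 0)),
  ((nat_lit 61391), (nat_lit 32)),
  ((nat_lit 61416), (nat_lit 32)),
  ((nat_lit 61417), (nat_lit 0)),
  ((nat_lit 61418), (nat_lit 0)),
  ((nat_lit 61419), (nat_lit 32)),
  ((nat_lit 61420), (nat_lit 0)),
  ((nat_lit 61421), (nat_lit 32)),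
  ((nat_lit 61422), (nat_lit 32)),
  ((nat_lit 61423), (nat_lit 0)),
  ((nat_lit 63024), (nat_lit 16)),
  ((nat_lit 63025), (nat_lit 16))]
noncomputable def LL5 : List (Nat × Nat) := [((nat_lit 522), (nat_lit 16)),
  ((nat_lit 554), (nat_lit 16)),
  ((nat_lit 1312), (nat_lit 0)),
  ((nat_lit 1313), (nat_lit 0)),
  ((nat_lit 1316), (nat_lit 0)),
  ((nat_lit 1317), (nat_lit 0)),
  ((nat_lit 1320), (nat_lit 0)),
  ((nat_lit 1321), (nat_lit 0)),
  ((nat_lit 1324), (nat_lit 0)),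
  ((nat_lit 1325), (nat_lit 0)),
  ((nat_lit 1328), (nat_lit 0)),
  ((nat_lit 1329), (nat_lit 0)),
  ((nat_lit 1332), (nat_lit 0)),
  ((nat_lit 1333), (nat_lit 0)),
  ((nat_lit 1336), (nat_lit 0)),
  ((nat_lit 1337), (nat_lit 0)),
  ((nat_lit 1340), (nat_lit 0)),
  ((nat_lit 1341), (nat_lit 0)),
  ((nat_lit 1824), (nat_lit 16)),
  ((nat_lit 1825), (nat_lit 16)),
  ((nat_lit 2664), (nat_lit 16)),
  ((nat_lit 2666), (nat_lit 16)),
  ((nat_lit 2729), (nat_lit 16)),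
  ((nat_lit 2731), (nat_lit 16)),
  ((nat_lit 4096), (nat_lit 16)),
  ((nat_lit 4128), (nat_lit 16)),
  ((nat_lit 5408), (nat_lit 16)),
  ((nat_lit 5409), (nat_lit 16)),
  ((nat_lit 5920), (nat_lit 0)),
  ((nat_lit 5921), (nat_lit 0)),
  ((nat_lit 5922), (nat_lit 0)),
  ((nat_lit 5923), (nat_lit 0)),
  ((nat_lit 5936), (nat_lit 0)),
  ((nat_lit 5937), (nat_lit 0)),
  ((nat_lit 5938), (nat_lit 0)),
  ((nat_lit 5939), (nat_lit 0)),
  ((nat_lit 5984), (nat_lit 0)),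
  ((nat_lit 5985), (nat_lit 0)),
  ((nat_lit 5986), (nat_lit 0)),
  ((nat_lit 5987), (nat_lit 0)),
  ((nat_lit 6000), (nat_lit 0)),
  ((nat_lit 6001), (nat_lit 0)),
  ((nat_lit 6002), (nat_lit 0)),
  ((nat_lit 6003), (nat_lit 0)),
  ((nat_lit 6753), (nat_lit 16)),
  ((nat_lit 6761), (nat_lit 16)),
  ((nat_lit 10676), (nat_lit 16)),
  ((nat_lit 10684), (nat_lit 16)),
  ((nat_lit 12352), (nat_lit 16)),
  ((nat_lit 12354), (nat_lit 16)),
  ((nat_lit 12513), (nat_lit 16)),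
  ((nat_lit 12515), (nat_lit 16)),
  ((nat_lit 17296), (nat_lit 16)),
  ((nat_lit 17360), (nat_lit 16)),
  ((nat_lit 17680), (nat_lit 16)),
  ((nat_lit 17712), (nat_lit 16)),
  ((nat_lit 18209), (nat_lit 16)),
  ((nat_lit 18225), (nat_lit 16)),
  ((nat_lit 18376), (nat_lit 16)),
  ((nat_lit 18392), (nat_lit 16)),
  ((nat_lit 19081), (nat_lit 16)),
  ((nat_lit 19145), (nat_lit 16)),
  ((nat_lit 20321), (nat_lit 16)),
  ((nat_lit 20329), (nat_lit 16)),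
  ((nat_lit 21793), (nat_lit 16)),
  ((nat_lit 21809), (nat_lit 16)),
  ((nat_lit 21888), (nat_lit 16)),
  ((nat_lit 21904), (nat_lit 16)),
  ((nat_lit 22288), (nat_lit 16)),
  ((nat_lit 22320), (nat_lit 16)),
  ((nat_lit 25251), (nat_lit 16)),
  ((nat_lit 25315), (nat_lit 16)),
  ((nat_lit 26698), (nat_lit 16)),
  ((nat_lit 26699), (nat_lit 16)),
  ((nat_lit 27564), (nat_lit 16)),
  ((nat_lit 27628), (nat_lit 16)),
  ((nat_lit 31236), (nat_lit 16)),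
  ((nat_lit 31237), (nat_lit 16)),
  ((nat_lit 31878), (nat_lit 16)),
  ((nat_lit 31886), (nat_lit 16)),
  ((nat_lit 34052), (nat_lit 16)),
  ((nat_lit 34084), (nat_lit 16)),
  ((nat_lit 34432), (nat_lit 16)),
  ((nat_lit 34440), (nat_lit 16)),
  ((nat_lit 35092), (nat_lit 16)),
  ((nat_lit 35093), (nat_lit 16)),
  ((nat_lit 37280), (nat_lit 16)),
  ((nat_lit 37344), (nat_lit 16)),
  ((nat_lit 38720), (nat_lit 16)),
  ((nat_lit 38752), (nat_lit 16)),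
  ((nat_lit 39085), (nat_lit 16)),
  ((nat_lit 39149), (nat_lit 16)),
  ((nat_lit 39704), (nat_lit 16)),
  ((nat_lit 39705), (nat_lit 16)),
  ((nat_lit 44839), (nat_lit 16)),
  ((nat_lit 44855), (nat_lit 16)),
  ((nat_lit 45006), (nat_lit 16)),
  ((nat_lit 45022), (nat_lit 16)),
  ((nat_lit 45187), (nat_lit 16)),
  ((nat_lit 45251), (nat_lit 16)),
  ((nat_lit 46433), (nat_lit 16)),
  ((nat_lit 46441), (nat_lit 16)),
  ((nat_lit 47512), (nat_lit 16)),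
  ((nat_lit 47576), (nat_lit 16)),
  ((nat_lit 48489), (nat_lit 16)),
  ((nat_lit 48505), (nat_lit 16)),
  ((nat_lit 48584), (nat_lit 16)),
  ((nat_lit 48600), (nat_lit 16)),
  ((nat_lit 49728), (nat_lit 16)),
  ((nat_lit 49760), (nat_lit 16)),
  ((nat_lit 53262), (nat_lit 16)),
  ((nat_lit 53294), (nat_lit 16)),
  ((nat_lit 54192), (nat_lit 16)),
  ((nat_lit 54200), (nat_lit 16)),
  ((nat_lit 55308), (nat_lit 16)),
  ((nat_lit 55310), (nat_lit 16)),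
  ((nat_lit 55469), (nat_lit 16)),
  ((nat_lit 55471), (nat_lit 16)),
  ((nat_lit 57443), (nat_lit 16)),
  ((nat_lit 57451), (nat_lit 16)),
  ((nat_lit 57952), (nat_lit 16)),
  ((nat_lit 57954), (nat_lit 16)),
  ((nat_lit 58017), (nat_lit 16)),
  ((nat_lit 58019), (nat_lit 16)),
  ((nat_lit 58400), (nat_lit 0)),
  ((nat_lit 58401), (nat_lit 0)),
  ((nat_lit 58402), (nat_lit 0)),
  ((nat_lit 58403), (nat_lit 0)),
  ((nat_lit 58416), (nat_lit 0)),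
  ((nat_lit 58417), (nat_lit 0)),
  ((nat_lit 58418), (nat_lit 0)),
  ((nat_lit 58419), (nat_lit 0)),
  ((nat_lit 58464), (nat_lit 0)),
  ((nat_lit 58465), (nat_lit 0)),
  ((nat_lit 58466), (nat_lit 0)),
  ((nat_lit 58467), (nat_lit 0)),
  ((nat_lit 58480), (nat_lit 0)),
  ((nat_lit 58481), (nat_lit 0)),
  ((nat_lit 58482), (nat_lit 0)),
  ((nat_lit 58483), (nat_lit 0)),
  ((nat_lit 58976), (nat_lit 16)),
  ((nat_lit 58977), (nat_lit 16)),
  ((nat_lit 62498), (nat_lit 16)),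
  ((nat_lit 62499), (nat_lit 16))]
noncomputable def LL6 : List (Nat × Nat) := [((nat_lit 388), (nat_lit 16)),
  ((nat_lit 396), (nat_lit 16)),
  ((nat_lit 1796), (nat_lit 16)),
  ((nat_lit 1797), (nat_lit 16)),
  ((nat_lit 3021), (nat_lit 16)),
  ((nat_lit 3053), (nat_lit 16)),
  ((nat_lit 5440), (nat_lit 16)),
  ((nat_lit 5441), (nat_lit 16)),
  ((nat_lit 6593), (nat_lit 16)),
  ((nat_lit 6625), (nat_lit 16)),
  ((nat_lit 12915), (nat_lit 16)),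
  ((nat_lit 12923), (nat_lit 16)),
  ((nat_lit 17284), (nat_lit 16)),
  ((nat_lit 17348), (nat_lit 16)),
  ((nat_lit 19097), (nat_lit 16)),
  ((nat_lit 19161), (nat_lit 16)),
  ((nat_lit 19392), (nat_lit 0)),
  ((nat_lit 19393), (nat_lit 32)),
  ((nat_lit 19396), (nat_lit 32)),
  ((nat_lit 19397), (nat_lit 0)),
  ((nat_lit 19400), (nat_lit 32)),
  ((nat_lit 19401), (nat_lit 0)),
  ((nat_lit 19404), (nat_lit 0)),
  ((nat_lit 19405), (nat_lit 32)),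
  ((nat_lit 19408), (nat_lit 32)),
  ((nat_lit 19409), (nat_lit 0)),
  ((nat_lit 19412), (nat_lit 0)),
  ((nat_lit 19413), (nat_lit 32)),
  ((nat_lit 19416), (nat_lit 0)),
  ((nat_lit 19417), (nat_lit 32)),
  ((nat_lit 19420), (nat_lit 32)),
  ((nat_lit 19421), (nat_lit 0)),
  ((nat_lit 19675), (nat_lit 16)),
  ((nat_lit 19707), (nat_lit 16)),
  ((nat_lit 19792), (nat_lit 16)),
  ((nat_lit 19794), (nat_lit 16)),
  ((nat_lit 19929), (nat_lit 16)),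
  ((nat_lit 19931), (nat_lit 16)),
  ((nat_lit 21636), (nat_lit 16)),
  ((nat_lit 21644), (nat_lit 16)),
  ((nat_lit 24285), (nat_lit 16)),
  ((nat_lit 24317), (nat_lit 16)),
  ((nat_lit 25219), (nat_lit 16)),
  ((nat_lit 25283), (nat_lit 16)),
  ((nat_lit 26433), (nat_lit 16)),
  ((nat_lit 26441), (nat_lit 16)),
  ((nat_lit 26650), (nat_lit 16)),
  ((nat_lit 26651), (nat_lit 16)),
  ((nat_lit 27528), (nat_lit 16)),
  ((nat_lit 27592), (nat_lit 16)),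
  ((nat_lit 28425), (nat_lit 16)),
  ((nat_lit 28441), (nat_lit 16)),
  ((nat_lit 28616), (nat_lit 16)),
  ((nat_lit 28632), (nat_lit 16)),
  ((nat_lit 30528), (nat_lit 16)),
  ((nat_lit 30530), (nat_lit 16)),
  ((nat_lit 30633), (nat_lit 16)),
  ((nat_lit 30635), (nat_lit 16)),
  ((nat_lit 31248), (nat_lit 16)),
  ((nat_lit 31249), (nat_lit 16)),
  ((nat_lit 32003), (nat_lit 16)),
  ((nat_lit 32019), (nat_lit 16)),
  ((nat_lit 32138), (nat_lit 16)),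
  ((nat_lit 32154), (nat_lit 16)),
  ((nat_lit 34565), (nat_lit 16)),
  ((nat_lit 34581), (nat_lit 16)),
  ((nat_lit 34756), (nat_lit 16)),
  ((nat_lit 34772), (nat_lit 16)),
  ((nat_lit 35072), (nat_lit 16)),
  ((nat_lit 35073), (nat_lit 16)),
  ((nat_lit 35977), (nat_lit 16)),
  ((nat_lit 36009), (nat_lit 16)),
  ((nat_lit 37248), (nat_lit 16)),
  ((nat_lit 37312), (nat_lit 16)),
  ((nat_lit 38209), (nat_lit 16)),
  ((nat_lit 38225), (nat_lit 16)),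
  ((nat_lit 38344), (nat_lit 16)),
  ((nat_lit 38360), (nat_lit 16)),
  ((nat_lit 39049), (nat_lit 16)),
  ((nat_lit 39113), (nat_lit 16)),
  ((nat_lit 39168), (nat_lit 0)),
  ((nat_lit 39169), (nat_lit 0)),
  ((nat_lit 39176), (nat_lit 0)),
  ((nat_lit 39177), (nat_lit 0)),
  ((nat_lit 39200), (nat_lit 0)),
  ((nat_lit 39201), (nat_lit 0)),
  ((nat_lit 39208), (nat_lit 0)),
  ((nat_lit 39209), (nat_lit 0)),
  ((nat_lit 39232), (nat_lit 0)),
  ((nat_lit 39233), (nat_lit 0)),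
  ((nat_lit 39240), (nat_lit 0)),
  ((nat_lit 39241), (nat_lit 0)),
  ((nat_lit 39264), (nat_lit 0)),
  ((nat_lit 39265), (nat_lit 0)),
  ((nat_lit 39272), (nat_lit 0)),
  ((nat_lit 39273), (nat_lit 0)),
  ((nat_lit 39296), (nat_lit 0)),
  ((nat_lit 39297), (nat_lit 0)),
  ((nat_lit 39304), (nat_lit 0)),
  ((nat_lit 39305), (nat_lit 0)),
  ((nat_lit 39328), (nat_lit 0)),
  ((nat_lit 39329), (nat_lit 0)),
  ((nat_lit 39336), (nat_lit 0)),
  ((nat_lit 39337), (nat_lit 0)),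
  ((nat_lit 39360), (nat_lit 0)),
  ((nat_lit 39361), (nat_lit 0)),
  ((nat_lit 39368), (nat_lit 0)),
  ((nat_lit 39369), (nat_lit 0)),
  ((nat_lit 39392), (nat_lit 0)),
  ((nat_lit 39393), (nat_lit 0)),
  ((nat_lit 39400), (nat_lit 0)),
  ((nat_lit 39401), (nat_lit 0)),
  ((nat_lit 39752), (nat_lit 16)),
  ((nat_lit 39753), (nat_lit 16)),
  ((nat_lit 40257), (nat_lit 16)),
  ((nat_lit 40265), (nat_lit 16)),
  ((nat_lit 40651), (nat_lit 16)),
  ((nat_lit 40683), (nat_lit 16)),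
  ((nat_lit 40768), (nat_lit 16)),
  ((nat_lit 40770), (nat_lit 16)),
  ((nat_lit 40873), (nat_lit 16)),
  ((nat_lit 40875), (nat_lit 16)),
  ((nat_lit 42260), (nat_lit 16)),
  ((nat_lit 42262), (nat_lit 16)),
  ((nat_lit 42397), (nat_lit 16)),
  ((nat_lit 42399), (nat_lit 16)),
  ((nat_lit 44674), (nat_lit 16)),
  ((nat_lit 44682), (nat_lit 16)),
  ((nat_lit 45207), (nat_lit 16)),
  ((nat_lit 45271), (nat_lit 16)),
  ((nat_lit 47496), (nat_lit 16)),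
  ((nat_lit 47560), (nat_lit 16)),
  ((nat_lit 51313), (nat_lit 16)),
  ((nat_lit 51321), (nat_lit 16)),
  ((nat_lit 52161), (nat_lit 16)),
  ((nat_lit 52193), (nat_lit 16)),
  ((nat_lit 55689), (nat_lit 16)),
  ((nat_lit 55721), (nat_lit 16)),
  ((nat_lit 58880), (nat_lit 16)),
  ((nat_lit 58881), (nat_lit 16)),
  ((nat_lit 62470), (nat_lit 16)),
  ((nat_lit 62471), (nat_lit 16)),
  ((nat_lit 64384), (nat_lit 16)),
  ((nat_lit 64392), (nat_lit 16))]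
noncomputable def LL7 : List (Nat × Nat) := [((nat_lit 1332), (nat_lit 16)),
  ((nat_lit 1333), (nat_lit 16)),
  ((nat_lit 2501), (nat_lit 16)),
  ((nat_lit 2533), (nat_lit 16)),
  ((nat_lit 2657), (nat_lit 16)),
  ((nat_lit 2665), (nat_lit 16)),
  ((nat_lit 5292), (nat_lit 16)),
  ((nat_lit 5356), (nat_lit 16)),
  ((nat_lit 6000), (nat_lit 16)),
  ((nat_lit 6001), (nat_lit 16)),
  ((nat_lit 6760), (nat_lit 16)),
  ((nat_lit 6762), (nat_lit 16)),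
  ((nat_lit 6857), (nat_lit 16)),
  ((nat_lit 6859), (nat_lit 16)),
  ((nat_lit 7113), (nat_lit 16)),
  ((nat_lit 7145), (nat_lit 16)),
  ((nat_lit 7368), (nat_lit 0)),
  ((nat_lit 7369), (nat_lit 0)),
  ((nat_lit 7370), (nat_lit 0)),
  ((nat_lit 7371), (nat_lit 0)),
  ((nat_lit 7372), (nat_lit 0)),
  ((nat_lit 7373), (nat_lit 0)),
  ((nat_lit 7374), (nat_lit 0)),
  ((nat_lit 7375), (nat_lit 0)),
  ((nat_lit 7400), (nat_lit 0)),
  ((nat_lit 7401), (nat_lit 0)),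
  ((nat_lit 7402), (nat_lit 0)),
  ((nat_lit 7403), (nat_lit 0)),
  ((nat_lit 7404), (nat_lit 0)),
  ((nat_lit 7405), (nat_lit 0)),
  ((nat_lit 7406), (nat_lit 0)),
  ((nat_lit 7407), (nat_lit 0)),
  ((nat_lit 7593), (nat_lit 16)),
  ((nat_lit 7657), (nat_lit 16)),
  ((nat_lit 8304), (nat_lit 16)),
  ((nat_lit 8306), (nat_lit 16)),
  ((nat_lit 8369), (nat_lit 16)),
  ((nat_lit 8371), (nat_lit 16)),
  ((nat_lit 13753), (nat_lit 16)),
  ((nat_lit 13817), (nat_lit 16)),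
  ((nat_lit 14752), (nat_lit 16)),
  ((nat_lit 14760), (nat_lit 16)),
  ((nat_lit 15530), (nat_lit 16)),
  ((nat_lit 15594), (nat_lit 16)),
  ((nat_lit 15784), (nat_lit 0)),
  ((nat_lit 15785), (nat_lit 0)),
  ((nat_lit 15786), (nat_lit 0)),
  ((nat_lit 15787), (nat_lit 0)),
  ((nat_lit 15800), (nat_lit 0)),
  ((nat_lit 15801), (nat_lit 0)),
  ((nat_lit 15802), (nat_lit 0)),
  ((nat_lit 15803), (nat_lit 0)),
  ((nat_lit 15848), (nat_lit 0)),
  ((nat_lit 15849), (nat_lit 0)),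
  ((nat_lit 15850), (nat_lit 0)),
  ((nat_lit 15851), (nat_lit 0)),
  ((nat_lit 15864), (nat_lit 0)),
  ((nat_lit 15865), (nat_lit 0)),
  ((nat_lit 15866), (nat_lit 0)),
  ((nat_lit 15867), (nat_lit 0)),
  ((nat_lit 20169), (nat_lit 16)),
  ((nat_lit 20201), (nat_lit 16)),
  ((nat_lit 23759), (nat_lit 16)),
  ((nat_lit 23791), (nat_lit 16)),
  ((nat_lit 24401), (nat_lit 16)),
  ((nat_lit 24409), (nat_lit 16)),
  ((nat_lit 27168), (nat_lit 16)),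
  ((nat_lit 27169), (nat_lit 16)),
  ((nat_lit 27810), (nat_lit 16)),
  ((nat_lit 27818), (nat_lit 16)),
  ((nat_lit 27907), (nat_lit 16)),
  ((nat_lit 27923), (nat_lit 16)),
  ((nat_lit 28138), (nat_lit 16)),
  ((nat_lit 28154), (nat_lit 16)),
  ((nat_lit 30762), (nat_lit 16)),
  ((nat_lit 30763), (nat_lit 16)),
  ((nat_lit 32521), (nat_lit 16)),
  ((nat_lit 32537), (nat_lit 16)),
  ((nat_lit 32680), (nat_lit 16)),
  ((nat_lit 32696), (nat_lit 16)),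
  ((nat_lit 34053), (nat_lit 16)),
  ((nat_lit 34069), (nat_lit 16)),
  ((nat_lit 34284), (nat_lit 16)),
  ((nat_lit 34300), (nat_lit 16)),
  ((nat_lit 35624), (nat_lit 16)),
  ((nat_lit 35625), (nat_lit 16)),
  ((nat_lit 36491), (nat_lit 16)),
  ((nat_lit 36523), (nat_lit 16)),
  ((nat_lit 38624), (nat_lit 16)),
  ((nat_lit 38632), (nat_lit 16)),
  ((nat_lit 38721), (nat_lit 16)),
  ((nat_lit 38737), (nat_lit 16)),
  ((nat_lit 38880), (nat_lit 16)),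
  ((nat_lit 38896), (nat_lit 16)),
  ((nat_lit 39264), (nat_lit 16)),
  ((nat_lit 39265), (nat_lit 16)),
  ((nat_lit 40137), (nat_lit 16)),
  ((nat_lit 40169), (nat_lit 16)),
  ((nat_lit 42261), (nat_lit 16)),
  ((nat_lit 42269), (nat_lit 16)),
  ((nat_lit 50144), (nat_lit 16)),
  ((nat_lit 50152), (nat_lit 16)),
  ((nat_lit 50856), (nat_lit 16)),
  ((nat_lit 50920), (nat_lit 16)),
  ((nat_lit 51168), (nat_lit 0)),
  ((nat_lit 51169), (nat_lit 0)),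
  ((nat_lit 51172), (nat_lit 0)),
  ((nat_lit 51173), (nat_lit 0)),
  ((nat_lit 51176), (nat_lit 0)),
  ((nat_lit 51177), (nat_lit 0)),
  ((nat_lit 51180), (nat_lit 0)),
  ((nat_lit 51181), (nat_lit 0)),
  ((nat_lit 51184), (nat_lit 0)),
  ((nat_lit 51185), (nat_lit 0)),
  ((nat_lit 51188), (nat_lit 0)),
  ((nat_lit 51189), (nat_lit 0)),
  ((nat_lit 51192), (nat_lit 0)),
  ((nat_lit 51193), (nat_lit 0)),
  ((nat_lit 51196), (nat_lit 0)),
  ((nat_lit 51197), (nat_lit 0)),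
  ((nat_lit 51320), (nat_lit 16)),
  ((nat_lit 51322), (nat_lit 16)),
  ((nat_lit 51385), (nat_lit 16)),
  ((nat_lit 51387), (nat_lit 16)),
  ((nat_lit 51673), (nat_lit 16)),
  ((nat_lit 51705), (nat_lit 16)),
  ((nat_lit 52904), (nat_lit 0)),
  ((nat_lit 52905), (nat_lit 0)),
  ((nat_lit 52906), (nat_lit 0)),
  ((nat_lit 52907), (nat_lit 0)),
  ((nat_lit 52920), (nat_lit 0)),
  ((nat_lit 52921), (nat_lit 0)),
  ((nat_lit 52922), (nat_lit 0)),
  ((nat_lit 52923), (nat_lit 0)),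
  ((nat_lit 52968), (nat_lit 0)),
  ((nat_lit 52969), (nat_lit 0)),
  ((nat_lit 52970), (nat_lit 0)),
  ((nat_lit 52971), (nat_lit 0)),
  ((nat_lit 52984), (nat_lit 0)),
  ((nat_lit 52985), (nat_lit 0)),
  ((nat_lit 52986), (nat_lit 0)),
  ((nat_lit 52987), (nat_lit 0)),
  ((nat_lit 53177), (nat_lit 16)),
  ((nat_lit 53241), (nat_lit 16)),
  ((nat_lit 56209), (nat_lit 16)),
  ((nat_lit 56241), (nat_lit 16)),
  ((nat_lit 58402), (nat_lit 16)),
  ((nat_lit 58403), (nat_lit 16)),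
  ((nat_lit 59309), (nat_lit 16)),
  ((nat_lit 59373), (nat_lit 16)),
  ((nat_lit 61098), (nat_lit 16)),
  ((nat_lit 61162), (nat_lit 16)),
  ((nat_lit 61479), (nat_lit 16)),
  ((nat_lit 61487), (nat_lit 16)),
  ((nat_lit 61988), (nat_lit 16)),
  ((nat_lit 61990), (nat_lit 16)),
  ((nat_lit 62085), (nat_lit 16)),
  ((nat_lit 62087), (nat_lit 16)),
  ((nat_lit 62464), (nat_lit 0)),
  ((nat_lit 62465), (nat_lit 0)),
  ((nat_lit 62466), (nat_lit 0)),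
  ((nat_lit 62467), (nat_lit 0)),
  ((nat_lit 62468), (nat_lit 0)),
  ((nat_lit 62469), (nat_lit 0)),
  ((nat_lit 62470), (nat_lit 0)),
  ((nat_lit 62471), (nat_lit 0)),
  ((nat_lit 62496), (nat_lit 0)),
  ((nat_lit 62497), (nat_lit 0)),
  ((nat_lit 62498), (nat_lit 0)),
  ((nat_lit 62499), (nat_lit 0)),
  ((nat_lit 62500), (nat_lit 0)),
  ((nat_lit 62501), (nat_lit 0)),
  ((nat_lit 62502), (nat_lit 0)),
  ((nat_lit 62503), (nat_lit 0)),
  ((nat_lit 63012), (nat_lit 16)),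
  ((nat_lit 63013), (nat_lit 16))]
noncomputable def LL : List (List (Nat × Nat)) := [LL0, LL1, LL2, LL3, LL4, LL5, LL6, LL7]

end CF.Comp.Ru
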